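import Mathlib

set_option autoImplicit false

namespace Cfsg.Agent.Lib.Helper75

/-- additive automorphisms of a `ZMod p`-module are the linear automorphisms -/
def addAutEquivLinear (p : ℕ) (V : Type*) [AddCommGroup V] [Module (ZMod p) V] :
    (V ≃+ V) ≃ (V ≃ₗ[ZMod p] V) where
  toFun f := { f with map_smul' := fun c x => ZMod.map_smul f c x }
  invFun g := g.toAddEquiv
  left_inv f := by ext; rfl
  right_inv g := by ext; rfl

theorem card_linearEquiv_zmod (p r : ℕ) [Fact p.Prime] (V : Type*) [AddCommGroup V]
    [Module (ZMod p) V] [Finite V] (hcard : Nat.card V = p ^ r) :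
    Nat.card (V ≃ₗ[ZMod p] V) = ∏ i ∈ Finset.range r, (p ^ r - p ^ i) := by
  have hp : p.Prime := Fact.out
  haveI : Fintype V := Fintype.ofFinite V
  have hfin : Module.finrank (ZMod p) V = r := by
    have h1 := Module.card_eq_pow_finrank (K := ZMod p) (V := V)
    rw [ZMod.card, ← Nat.card_eq_fintype_card, hcard] at h1
    exact (Nat.pow_right_injective hp.two_le h1).symm
  let b := Module.finBasisOfFinrankEq (ZMod p) V hfin
  have e1 : GL (Fin r) (ZMod p) ≃ (V ≃ₗ[ZMod p] V) :=
    ((Matrix.GeneralLinearGroup.toLin' b).trans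
      (LinearMap.GeneralLinearGroup.generalLinearEquiv (ZMod p) V)).toEquiv
  rw [← Nat.card_congr e1, Matrix.card_GL_field, ZMod.card, Finset.prod_range]

/-- The automorphism group of an elementary abelian group of order `p ^ r` has the order of
`GL_r(p)`. -/
theorem card_mulAut_of_elementary {E : Type*} [Group E] [Finite E] {p r : ℕ} [Fact p.Prime]
    (hcomm : ∀ a b : E, a * b = b * a) (hexp : ∀ a : E, a ^ p = 1) (hcard : Nat.card E = p ^ r) :
    Nat.card (MulAut E) = ∏ i ∈ Finset.range r, (p ^ r - p ^ i) := by
  letI : CommGroup E := { (inferInstance : Group E) with mul_comm := hcomm }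
  letI : Module (ZMod p) (Additive E) := AddCommGroup.zmodModule (n := p) (G := Additive E)
    (fun x => by
      have := hexp x.toMul
      exact congrArg Additive.ofMul this)
  have e1 : MulAut E ≃ (Additive E ≃+ Additive E) := MulEquiv.toAdditive
  have e2 := addAutEquivLinear p (Additive E)
  rw [Nat.card_congr (e1.trans e2)]
  apply card_linearEquiv_zmod
  rw [← hcard]
  exact Nat.card_congr Additive.toMul

end Cfsg.Agent.Lib.Helper75
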