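import Mathlib

set_option autoImplicit false

namespace Cfsg.Agent.Lib.Helper75

open scoped commutatorElement

/-- Membership in the Frattini subgroup: lying in every maximal subgroup. -/
theorem mem_frattini_iff' {G : Type*} [Group G] (x : G) :
    x ∈ frattini G ↔ ∀ M : Subgroup G, IsCoatom M → x ∈ M := by
  unfold frattini Order.radical
  simp only [Subgroup.mem_iInf]
  rfl

/-- A maximal subgroup of a finite `p`-group is normal. -/
theorem normal_of_isCoatom_of_isPGroup' {P : Type*} [Group P] [Finite P] {p : ℕ} [Fact p.Prime]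
    (hP : IsPGroup p P) {M : Subgroup P} (hM : IsCoatom M) : M.Normal := by
  have : Group.IsNilpotent P := hP.isNilpotent
  exact Subgroup.NormalizerCondition.normal_of_coatom M Group.normalizerCondition_of_isNilpotent hM

/-- A maximal subgroup of a finite `p`-group has index `p`. -/
theorem index_of_isCoatom_of_isPGroup' {P : Type*} [Group P] [Finite P] {p : ℕ} [Fact p.Prime]
    (hP : IsPGroup p P) {M : Subgroup P} (hM : IsCoatom M) : M.index = p := by
  have hp : p.Prime := Fact.out
  obtain ⟨n, hn⟩ := hP.exists_card_eq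
  obtain ⟨k, hk⟩ := (hP.to_subgroup M).exists_card_eq
  have hlt : k < n := by
    have hdvd : Nat.card M ∣ Nat.card P := Subgroup.card_subgroup_dvd_card M
    rw [hn, hk] at hdvd
    have hle : k ≤ n := (Nat.pow_dvd_pow_iff_le_right hp.one_lt).mp hdvd
    rcases hle.lt_or_eq with h | h
    · exact h
    · exfalso
      apply hM.1
      apply Subgroup.eq_top_of_card_eq
      rw [hk, hn, h]
  have hdvd : p ^ (k + 1) ∣ Nat.card P := by
    rw [hn]; exact pow_dvd_pow p hlt
  obtain ⟨K, hK, hMK⟩ := Sylow.exists_subgroup_card_pow_succ hdvd hk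
  have hne : M ≠ K := by
    intro h
    rw [← h, hk] at hK
    have := Nat.pow_right_injective hp.two_le hK
    omega
  have hKtop : K = ⊤ := hM.2 K (lt_of_le_of_ne hMK hne)
  have hcardP : Nat.card P = p ^ (k + 1) := by
    rw [← hK, hKtop, Subgroup.card_top]
  have h1 := M.card_mul_index
  rw [hk, hcardP, pow_succ] at h1
  exact Nat.eq_of_mul_eq_mul_left (pow_pos hp.pos k) h1

/-- In a finite `p`-group, `p`-th powers lie in the Frattini subgroup. -/
theorem pow_mem_frattini_of_isPGroup' {P : Type*} [Group P] [Finite P] {p : ℕ} [Fact p.Prime]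
    (hP : IsPGroup p P) (x : P) : x ^ p ∈ frattini P := by
  rw [mem_frattini_iff']
  intro M hM
  have hMn : M.Normal := normal_of_isCoatom_of_isPGroup' hP hM
  have hidx : M.index = p := index_of_isCoatom_of_isPGroup' hP hM
  have hcard : Nat.card (P ⧸ M) = p := hidx
  have h1 : (QuotientGroup.mk' M x) ^ p = 1 := by
    rw [← hcard]; exact pow_card_eq_one'
  rw [← map_pow] at h1
  exact (QuotientGroup.eq_one_iff _).mp h1

/-- In a finite `p`-group, the derived subgroup lies in the Frattini subgroup. -/
theorem commutator_le_frattini_of_isPGroup' {P : Type*} [Group P] [Finite P] {p : ℕ}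
    [Fact p.Prime] (hP : IsPGroup p P) : commutator P ≤ frattini P := by
  intro x hx
  rw [mem_frattini_iff']
  intro M hM
  have hMn : M.Normal := normal_of_isCoatom_of_isPGroup' hP hM
  have hidx : M.index = p := index_of_isCoatom_of_isPGroup' hP hM
  have hcard : Nat.card (P ⧸ M) = p := hidx
  have hcyc : IsCyclic (P ⧸ M) := isCyclic_of_prime_card hcard
  have hcomm : ∀ a b : P ⧸ M, a * b = b * a := isMulCommutative_iff.mp hcyc.isMulCommutative
  have hle : commutator P ≤ M := by
    rw [commutator_def, Subgroup.commutator_le]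
    intro a _ b _
    have := hcomm (QuotientGroup.mk' M a) (QuotientGroup.mk' M b)
    rw [← (QuotientGroup.eq_one_iff _), commutatorElement_def]
    have h2 : QuotientGroup.mk' M (a * b * a⁻¹ * b⁻¹) =
      QuotientGroup.mk' M a * QuotientGroup.mk' M b * (QuotientGroup.mk' M a)⁻¹ *
        (QuotientGroup.mk' M b)⁻¹ := by simp
    show QuotientGroup.mk' M (a * b * a⁻¹ * b⁻¹) = 1
    rw [h2, this]
    group
  exact hle hx

/-- The Frattini quotient of a finite `p`-group is commutative. -/
theorem frattini_quotient_comm {P : Type*} [Group P] [Finite P] {p : ℕ} [Fact p.Prime]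
    (hP : IsPGroup p P) (a b : P ⧸ frattini P) : a * b = b * a := by
  obtain ⟨x, rfl⟩ := QuotientGroup.mk_surjective a
  obtain ⟨y, rfl⟩ := QuotientGroup.mk_surjective b
  rw [← QuotientGroup.mk_mul, ← QuotientGroup.mk_mul, QuotientGroup.eq]
  apply commutator_le_frattini_of_isPGroup' hP
  rw [commutator_def]
  have : (x * y)⁻¹ * (y * x) = ⁅y⁻¹, x⁻¹⁆ := by
    rw [commutatorElement_def]; group
  rw [this]
  exact Subgroup.commutator_mem_commutator (Subgroup.mem_top _) (Subgroup.mem_top _)

/-- The Frattini quotient of a finite `p`-group has exponent dividing `p`. -/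
theorem frattini_quotient_pow {P : Type*} [Group P] [Finite P] {p : ℕ} [Fact p.Prime]
    (hP : IsPGroup p P) (a : P ⧸ frattini P) : a ^ p = 1 := by
  obtain ⟨x, rfl⟩ := QuotientGroup.mk_surjective a
  rw [← QuotientGroup.mk_pow, QuotientGroup.eq_one_iff]
  exact pow_mem_frattini_of_isPGroup' hP x

end Cfsg.Agent.Lib.Helper75
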