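import Mathlib

set_option autoImplicit false

namespace Cfsg.Agent.Lib.Helper75

theorem exists_generators_aux {Q : Type*} [Group Q] [Finite Q] {p r : ℕ} (hp : p.Prime)
    (hQ : Nat.card Q = p ^ r) (k : ℕ) : ∃ x : Fin k → Q, Subgroup.closure (Set.range x) = ⊤ ∨
      p ^ k ∣ Nat.card (Subgroup.closure (Set.range x)) := by
  induction k with
  | zero => exact ⟨fun i => i.elim0, Or.inr (by simp)⟩
  | succ k ih =>
    obtain ⟨x, hx⟩ := ih
    have hrange : ∀ g : Q, Set.range x ⊆ Set.range (Fin.snoc x g : Fin (k + 1) → Q) := by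
      intro g
      rintro _ ⟨i, rfl⟩
      exact ⟨i.castSucc, by simp⟩
    by_cases htop : Subgroup.closure (Set.range x) = ⊤
    · refine ⟨Fin.snoc x 1, Or.inl ?_⟩
      rw [eq_top_iff, ← htop]
      exact Subgroup.closure_mono (hrange 1)
    · have hx' := hx.resolve_left htop
      obtain ⟨g, hg⟩ : ∃ g, g ∉ Subgroup.closure (Set.range x) := by
        by_contra h
        simp only [not_exists, not_not] at h
        exact htop (eq_top_iff.2 fun g _ => h g)
      refine ⟨Fin.snoc x g, Or.inr ?_⟩
      have hle : Subgroup.closure (Set.range x) ≤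
          Subgroup.closure (Set.range (Fin.snoc x g : Fin (k + 1) → Q)) :=
        Subgroup.closure_mono (hrange g)
      have hgH' : g ∈ Subgroup.closure (Set.range (Fin.snoc x g : Fin (k + 1) → Q)) :=
        Subgroup.subset_closure ⟨Fin.last k, by simp⟩
      have hlt : Subgroup.closure (Set.range x) <
          Subgroup.closure (Set.range (Fin.snoc x g : Fin (k + 1) → Q)) :=
        lt_of_le_of_ne hle (fun h => hg (h ▸ hgH'))
      obtain ⟨j, hj1, hj⟩ := (Nat.dvd_prime_pow hp).1
        (hQ ▸ Subgroup.card_subgroup_dvd_card (Subgroup.closure (Set.range x)))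
      obtain ⟨j', hj1', hj'⟩ := (Nat.dvd_prime_pow hp).1
        (hQ ▸ Subgroup.card_subgroup_dvd_card
          (Subgroup.closure (Set.range (Fin.snoc x g : Fin (k + 1) → Q))))
      have hkj : k ≤ j := (Nat.pow_dvd_pow_iff_le_right hp.one_lt).1 (hj ▸ hx')
      have hcard : Nat.card (Subgroup.closure (Set.range x)) <
          Nat.card (Subgroup.closure (Set.range (Fin.snoc x g : Fin (k + 1) → Q))) := by
        apply lt_of_le_of_ne (Subgroup.card_le_of_le hle)
        intro h
        exact hlt.ne (Subgroup.eq_of_le_of_card_ge hle h.ge)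
      rw [hj, hj'] at hcard
      have hjj' : j < j' := (Nat.pow_lt_pow_iff_right hp.one_lt).1 hcard
      rw [hj']
      exact pow_dvd_pow p (by omega)

/-- A group of order `p ^ r` is generated by `r` elements. -/
theorem exists_generators_of_card_pow {Q : Type*} [Group Q] [Finite Q] {p r : ℕ} (hp : p.Prime)
    (hQ : Nat.card Q = p ^ r) : ∃ x : Fin r → Q, Subgroup.closure (Set.range x) = ⊤ := by
  obtain ⟨x, hx⟩ := exists_generators_aux hp hQ r
  refine ⟨x, ?_⟩
  rcases hx with hx | hx
  · exact hx
  · apply Subgroup.eq_top_of_le_card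
    rw [hQ]
    exact Nat.le_of_dvd Nat.card_pos hx

/-- If the Frattini subgroup of a finite group has index `p ^ r`, the group is generated by `r`
elements. -/
theorem exists_generators_of_frattini_index {P : Type*} [Group P] [Finite P] {p r : ℕ}
    (hp : p.Prime) (hr : (frattini P).index = p ^ r) :
    ∃ x : Fin r → P, Subgroup.closure (Set.range x) = ⊤ := by
  have hQ : Nat.card (P ⧸ frattini P) = p ^ r := by
    rw [← Subgroup.index_eq_card, hr]
  obtain ⟨xbar, hxbar⟩ := exists_generators_of_card_pow hp hQ
  refine ⟨fun i => (xbar i).out, ?_⟩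
  apply frattini_nongenerating
  have hmap : (Subgroup.closure (Set.range fun i => (xbar i).out)).map (QuotientGroup.mk' (frattini P))
      = ⊤ := by
    rw [MonoidHom.map_closure, ← Set.range_comp, ← hxbar]
    congr 2
    ext i
    simp
  have := congrArg (Subgroup.comap (QuotientGroup.mk' (frattini P))) hmap
  rw [Subgroup.comap_map_eq, QuotientGroup.ker_mk', Subgroup.comap_top] at this
  exact this

end Cfsg.Agent.Lib.Helper75
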