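import Mathlib
import Cfsg.Agent.S4208
import Cfsg.Agent.Lib.Helper81.PSolvable

set_option autoImplicit false

namespace Cfsg.Agent.Lib.Helper75

open scoped commutatorElement
open Cfsg

/-- The automorphisms of a finite `p`-group acting trivially on the Frattini quotient form a
`p`-group. -/
theorem isPGroup_ker_rho {R : Type*} [Group R] [Finite R] {p : ℕ} [Fact p.Prime]
    (hR : IsPGroup p R) : IsPGroup p (Cfsg.Agent.S4208.rho R).ker := by
  have hp : p.Prime := Fact.out
  obtain ⟨n, hn⟩ := hR.exists_card_eq
  obtain ⟨r, hr⟩ := hR.index (frattini R)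
  have hdvd : Nat.card (Cfsg.Agent.S4208.rho R).ker ∣ p ^ (r * (n - r)) := by
    apply Cfsg.Agent.S4207.result hn hr
    intro α hα x
    rw [MonoidHom.mem_ker] at hα
    have h1 : Cfsg.Agent.S4208.rho R α (QuotientGroup.mk x) = QuotientGroup.mk x := by
      rw [hα]; rfl
    rw [Cfsg.Agent.S4208.rho_apply_mk, QuotientGroup.eq_iff_div_mem, div_eq_mul_inv] at h1
    exact h1
  obtain ⟨k, -, hk⟩ := (Nat.dvd_prime_pow hp).1 hdvd
  exact IsPGroup.of_card hk

/-- A normal `p`-subgroup `R` containing its centralizer: elements acting trivially on the Frattini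
quotient of `R` lie in `O_p`. -/
theorem mem_pCore_of_trivial_on_frattini_quotient {X : Type*} [Group X] [Finite X] {p : ℕ}
    [Fact p.Prime] (R : Subgroup X) [R.Normal] (hR : IsPGroup p R)
    (hcent : Subgroup.centralizer (R : Set X) ≤ R) (g : X)
    (hg : ∀ y ∈ R, g * y * g⁻¹ * y⁻¹ ∈ (frattini R).map R.subtype) : g ∈ pCore p X := by
  let conjN : X →* MulAut R := MulAut.conjNormal
  let A : Subgroup (MulAut R) := (Cfsg.Agent.S4208.rho R).ker
  have hA : IsPGroup p A := isPGroup_ker_rho hR
  have hker : IsPGroup p conjN.ker := by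
    apply hR.to_le
    intro h hh
    apply hcent
    rw [MonoidHom.mem_ker] at hh
    rw [Subgroup.mem_centralizer_iff]
    intro y hy
    have h1 : conjN h ⟨y, hy⟩ = ⟨y, hy⟩ := by rw [hh]; rfl
    have h2 := congrArg Subtype.val h1
    simp only [conjN, MulAut.conjNormal_apply] at h2
    calc y * h = (h * y * h⁻¹) * h := by rw [h2]
      _ = h * y := by group
  have hC : IsPGroup p (A.comap conjN) := hA.comap_of_ker_isPGroup conjN hker
  have hCn : (A.comap conjN).Normal := by
    have : A.Normal := MonoidHom.normal_ker _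
    exact this.comap conjN
  have hgC : g ∈ A.comap conjN := by
    rw [Subgroup.mem_comap, MonoidHom.mem_ker]
    ext q
    obtain ⟨y, rfl⟩ := QuotientGroup.mk_surjective q
    rw [Cfsg.Agent.S4208.rho_apply_mk]
    show (QuotientGroup.mk (conjN g y) : R ⧸ frattini R) = QuotientGroup.mk y
    rw [QuotientGroup.eq_iff_div_mem, div_eq_mul_inv]
    obtain ⟨w, hw, hwe⟩ := hg y y.2
    have : w = conjN g y * y⁻¹ := by
      apply Subtype.ext
      rw [Subgroup.coe_subtype] at hwe
      rw [hwe]
      simp [conjN, MulAut.conjNormal_apply]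
    rw [← this]
    exact hw
  exact Cfsg.Agent.Lib.Helper81.le_pCore hCn hC hgC

/-- elements of a normal `p`-subgroup act trivially on its Frattini quotient -/
theorem trivial_on_frattini_quotient_of_mem {X : Type*} [Group X] [Finite X] {p : ℕ}
    [Fact p.Prime] (R : Subgroup X) (hR : IsPGroup p R) (g : X) (hg : g ∈ R) (y : X) (hy : y ∈ R) :
    g * y * g⁻¹ * y⁻¹ ∈ (frattini R).map R.subtype := by
  refine ⟨⁅(⟨g, hg⟩ : R), ⟨y, hy⟩⁆, ?_, ?_⟩
  · apply commutator_le_frattini_of_isPGroup' hR
    rw [commutator_def]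
    exact Subgroup.commutator_mem_commutator (Subgroup.mem_top _) (Subgroup.mem_top _)
  · simp [commutatorElement_def]

/-- The Frattini subgroup is preserved by isomorphisms. -/
theorem frattini_comap_mulEquiv {A B : Type*} [Group A] [Group B] (e : A ≃* B) :
    (frattini B).comap e.toMonoidHom = frattini A := by
  apply le_antisymm
  · have h1 := frattini_le_comap_frattini_of_surjective (φ := e.symm.toMonoidHom) e.symm.surjective
    intro x hx
    rw [Subgroup.mem_comap] at hx
    have := h1 hx
    rw [Subgroup.mem_comap] at this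
    simpa using this
  · exact frattini_le_comap_frattini_of_surjective (φ := e.toMonoidHom) e.surjective

end Cfsg.Agent.Lib.Helper75
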