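import Mathlib
import Cfsg.Prelude.Def_PLocal
import Cfsg.Agent.Lib.Helper75.PGroupFrattini

set_option autoImplicit false

namespace Cfsg.Agent.Lib.Helper75

open scoped commutatorElement

universe u

/-! ### powerClosure -/

theorem powerClosure_map {G H : Type*} [Group G] [Group H] (p n : ℕ) (f : G →* H) (S : Subgroup G) :
    (Cfsg.powerClosure p n S).map f = Cfsg.powerClosure p n (S.map f) := by
  unfold Cfsg.powerClosure
  rw [MonoidHom.map_closure]
  congr 1
  ext y
  constructor
  · rintro ⟨_, ⟨x, hx, rfl⟩, rfl⟩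
    exact ⟨f x, ⟨x, hx, rfl⟩, by simp⟩
  · rintro ⟨_, ⟨x, hx, rfl⟩, rfl⟩
    exact ⟨x ^ p ^ n, ⟨x, hx, rfl⟩, by simp⟩

theorem powerClosure_eq_bot {G : Type*} [Group G] (p n : ℕ) (S : Subgroup G)
    (h : ∀ x ∈ S, x ^ p ^ n = 1) : Cfsg.powerClosure p n S = ⊥ := by
  unfold Cfsg.powerClosure
  rw [eq_bot_iff, Subgroup.closure_le]
  rintro _ ⟨x, hx, rfl⟩
  rw [h x hx]
  exact Subgroup.one_mem _

/-! ### subgroups of regular groups are regular -/

theorem isRegularPGroup_subgroup {G : Type*} [Group G] {p : ℕ} (hG : Cfsg.IsRegularPGroup p G)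
    (K : Subgroup G) : Cfsg.IsRegularPGroup p K := by
  refine ⟨hG.1.to_subgroup K, ?_⟩
  intro a b n
  obtain ⟨c, hc, hcab⟩ := hG.2 (a : G) (b : G) n
  have hcl : Subgroup.closure ({(a : G), (b : G)} : Set G)
      = (Subgroup.closure ({a, b} : Set K)).map K.subtype := by
    rw [MonoidHom.map_closure, Set.image_pair]
    rfl
  rw [hcl, ← Subgroup.map_commutator, ← powerClosure_map] at hc
  obtain ⟨c', hc', rfl⟩ := hc
  refine ⟨c', hc', ?_⟩
  apply Subtype.ext
  simpa using hcab

/-! ### generation by two elements -/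

theorem commutator_le_normalClosure_of_closure_pair {G : Type*} [Group G] (u v : G)
    (h : Subgroup.closure ({u, v} : Set G) = ⊤) :
    commutator G ≤ Subgroup.normalClosure ({⁅u, v⁆} : Set G) := by
  set N := Subgroup.normalClosure ({⁅u, v⁆} : Set G) with hN
  rw [← Subgroup.Normal.quotient_commutative_iff_commutator_le]
  -- the images of `u` and `v` commute
  have huv : (QuotientGroup.mk' N u) * (QuotientGroup.mk' N v)
      = (QuotientGroup.mk' N v) * (QuotientGroup.mk' N u) := by
    rw [← commutatorElement_eq_one_iff_mul_comm, ← map_commutatorElement,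
      QuotientGroup.mk'_apply, QuotientGroup.eq_one_iff]
    exact Subgroup.subset_normalClosure (Set.mem_singleton _)
  have hcl : Subgroup.closure ({QuotientGroup.mk' N u, QuotientGroup.mk' N v} : Set (G ⧸ N)) = ⊤ := by
    rw [← Set.image_pair, ← MonoidHom.map_closure, h, ← MonoidHom.range_eq_map,
      MonoidHom.range_eq_top]
    exact QuotientGroup.mk'_surjective N
  -- the generators are central
  have hcent : ∀ w ∈ ({QuotientGroup.mk' N u, QuotientGroup.mk' N v} : Set (G ⧸ N)),
      w ∈ Subgroup.center (G ⧸ N) := by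
    intro w hw
    have hle : Subgroup.closure ({QuotientGroup.mk' N u, QuotientGroup.mk' N v} : Set (G ⧸ N))
        ≤ Subgroup.centralizer {w} := by
      rw [Subgroup.closure_le]
      intro t ht
      rw [SetLike.mem_coe, Subgroup.mem_centralizer_iff]
      intro s hs
      rw [Set.mem_singleton_iff] at hs
      subst hs
      rcases hw with rfl | rfl <;> rcases ht with rfl | rfl
      · rfl
      · exact huv
      · exact huv.symm
      · rfl
    rw [hcl] at hle
    rw [Subgroup.mem_center_iff]
    intro g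
    have := hle (Subgroup.mem_top g)
    rw [Subgroup.mem_centralizer_iff] at this
    exact (this w (Set.mem_singleton w)).symm
  have htop : Subgroup.center (G ⧸ N) = ⊤ := by
    rw [eq_top_iff, ← hcl, Subgroup.closure_le]
    exact hcent
  refine ⟨⟨fun a b => ?_⟩⟩
  have ha : a ∈ Subgroup.center (G ⧸ N) := by rw [htop]; trivial
  rw [Subgroup.mem_center_iff] at ha
  exact (ha b).symm

/-! ### the induction -/

/-- the statement: `x^q = y^q ↔ (x⁻¹ y)^q = 1` -/
def PowEqIff (p : ℕ) (G : Type*) [Group G] : Prop :=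
  ∀ (x y : G) (k : ℕ), x ^ p ^ k = y ^ p ^ k ↔ (x⁻¹ * y) ^ p ^ k = 1

theorem PowEqIff.mul_pow_eq_one {p : ℕ} {G : Type*} [Group G] (h : PowEqIff p G) {x y : G} {k : ℕ}
    (hx : x ^ p ^ k = 1) (hy : y ^ p ^ k = 1) : (x * y) ^ p ^ k = 1 := by
  have := (h x⁻¹ y k).1 (by rw [inv_pow, hx, hy, inv_one])
  simpa using this

/-- the elements with trivial `p^k`-th power, as a subgroup -/
def PowEqIff.omega {p : ℕ} {G : Type*} [Group G] (h : PowEqIff p G) (k : ℕ) : Subgroup G where
  carrier := {x | x ^ p ^ k = 1}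
  one_mem' := by simp
  mul_mem' := fun hx hy => h.mul_pow_eq_one hx hy
  inv_mem' := fun {x} hx => by
    have : x ^ p ^ k = 1 := hx
    show (x⁻¹) ^ p ^ k = 1
    rw [inv_pow, this, inv_one]

theorem PowEqIff.mem_omega {p : ℕ} {G : Type*} [Group G] (h : PowEqIff p G) (k : ℕ) (x : G) :
    x ∈ h.omega k ↔ x ^ p ^ k = 1 := Iff.rfl

theorem card_subgroup_lt {G : Type*} [Group G] [Finite G] (K : Subgroup G) (hK : K ≠ ⊤) :
    Nat.card K < Nat.card G := by
  apply lt_of_le_of_ne (Subgroup.card_le_card_group K)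
  intro h
  exact hK (Subgroup.eq_top_of_card_eq K h)

theorem commutator_ne_top_of_isPGroup {G : Type*} [Group G] [Finite G] [Nontrivial G] {p : ℕ}
    [Fact p.Prime] (hG : IsPGroup p G) : commutator G ≠ ⊤ := by
  intro htop
  rcases eq_top_or_exists_le_coatom (⊥ : Subgroup G) with h | ⟨M, hM, -⟩
  · exact bot_ne_top h
  · have h1 : commutator G ≤ M :=
      le_trans (commutator_le_frattini_of_isPGroup' hG) (frattini_le_coatom hM)
    rw [htop, top_le_iff] at h1
    exact hM.1 h1

/-- Key lemma: in a regular group generated by `u, v` in which the commutator subgroup satisfies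
`PowEqIff`, if `⁅u, v⁆ ^ q = 1` then `(u v)^q = u^q v^q`. -/
theorem mul_pow_of_commutator_pow_eq_one {G : Type*} [Group G] {p : ℕ}
    (hG : Cfsg.IsRegularPGroup p G) (hC : PowEqIff p (commutator G)) (u v : G) (k : ℕ)
    (hgen : Subgroup.closure ({u, v} : Set G) = ⊤) (huv : ⁅u, v⁆ ^ p ^ k = 1) :
    (u * v) ^ p ^ k = u ^ p ^ k * v ^ p ^ k := by
  -- the subgroup of `G'` of elements with trivial `q`-th power
  let T : Subgroup G := (hC.omega k).map (commutator G).subtype
  have hT : ∀ g : G, g ∈ T ↔ g ∈ commutator G ∧ g ^ p ^ k = 1 := by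
    intro g
    constructor
    · rintro ⟨w, hw, rfl⟩
      refine ⟨w.2, ?_⟩
      have : w ^ p ^ k = 1 := hw
      have := congrArg Subtype.val this
      simpa using this
    · rintro ⟨hg1, hg2⟩
      refine ⟨⟨g, hg1⟩, ?_, rfl⟩
      show (⟨g, hg1⟩ : commutator G) ^ p ^ k = 1
      apply Subtype.ext
      simpa using hg2
  have hTn : T.Normal := by
    constructor
    intro g hg t
    rw [hT] at hg ⊢
    refine ⟨(inferInstance : (commutator G).Normal).conj_mem g hg.1 t, ?_⟩
    rw [conj_pow, hg.2]
    simp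
  have huvT : ⁅u, v⁆ ∈ T := by
    rw [hT]
    refine ⟨?_, huv⟩
    rw [commutator_def]
    exact Subgroup.commutator_mem_commutator (Subgroup.mem_top _) (Subgroup.mem_top _)
  have hle : commutator G ≤ T :=
    le_trans (commutator_le_normalClosure_of_closure_pair u v hgen)
      (Subgroup.normalClosure_le_normal (by
        intro w hw
        rw [Set.mem_singleton_iff] at hw
        rw [hw]
        exact huvT))
  have hexp : ∀ g ∈ commutator G, g ^ p ^ k = 1 := fun g hg => ((hT g).1 (hle hg)).2
  obtain ⟨c, hc, hcuv⟩ := hG.2 u v k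
  rw [hgen, ← commutator_def, powerClosure_eq_bot p k _ hexp, Subgroup.mem_bot] at hc
  rw [hcuv, hc, mul_one]

theorem powEqIff_of_regular_aux (p : ℕ) [Fact p.Prime] : ∀ (n : ℕ) (G : Type u) [Group G] [Finite G],
    Nat.card G = n → Cfsg.IsRegularPGroup p G → PowEqIff p G := by
  intro n
  induction n using Nat.strong_induction_on with
  | _ n ih =>
    intro G _ _ hcard hG
    -- induction hypothesis for proper subgroups
    have ihK : ∀ K : Subgroup G, K ≠ ⊤ → PowEqIff p K := by
      intro K hK
      exact ih (Nat.card K) (hcard ▸ card_subgroup_lt K hK) K rfl (isRegularPGroup_subgroup hG K)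
    intro x y k
    by_cases hgen : Subgroup.closure ({x, y} : Set G) = ⊤
    swap
    · -- proper subgroup
      have hx : x ∈ Subgroup.closure ({x, y} : Set G) := Subgroup.subset_closure (by simp)
      have hy : y ∈ Subgroup.closure ({x, y} : Set G) := Subgroup.subset_closure (by simp)
      have := ihK _ hgen ⟨x, hx⟩ ⟨y, hy⟩ k
      simp only [Subtype.ext_iff, Subgroup.coe_pow, Subgroup.coe_mul, Subgroup.coe_inv,
        Subgroup.coe_one] at this
      exact this
    by_cases hcomm : Commute x y
    · -- commuting case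
      have h1 : (x⁻¹ * y) ^ p ^ k = (x ^ p ^ k)⁻¹ * y ^ p ^ k := by
        rw [(hcomm.inv_left).mul_pow, inv_pow]
      rw [h1, inv_mul_eq_one]
    -- now `G` is not commutative
    have hnt : Nontrivial G := by
      by_contra h
      rw [not_nontrivial_iff_subsingleton] at h
      exact hcomm (Subsingleton.elim _ _)
    have hCne : commutator G ≠ ⊤ := commutator_ne_top_of_isPGroup hG.1
    have hC : PowEqIff p (commutator G) := ihK _ hCne
    -- maximal subgroups containing a given non-generator
    have hcoatom : ∀ z : G, Subgroup.zpowers z ≠ ⊤ → ∃ M : Subgroup G, M ≠ ⊤ ∧ M.Normal ∧ z ∈ M := by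
      intro z hz
      rcases eq_top_or_exists_le_coatom (Subgroup.zpowers z) with h | ⟨M, hM, hzM⟩
      · exact absurd h hz
      · exact ⟨M, hM.1, normal_of_isCoatom_of_isPGroup' hG.1 hM, hzM (Subgroup.mem_zpowers z)⟩
    have hcyc : ∀ z : G, Subgroup.zpowers z = ⊤ → False := by
      intro z hz
      apply hcomm
      have hx : x ∈ Subgroup.zpowers z := by rw [hz]; trivial
      have hy : y ∈ Subgroup.zpowers z := by rw [hz]; trivial
      obtain ⟨i, rfl⟩ := hx
      obtain ⟨j, rfl⟩ := hy
      exact (Commute.refl z).zpow_zpow i j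
    constructor
    · -- (⇒)
      intro hxy
      obtain ⟨M, hMtop, hMn, hxM⟩ := hcoatom x (fun h => hcyc x h)
      have hAM := ihK M hMtop
      have hx'M : y * x * y⁻¹ ∈ M := hMn.conj_mem x hxM y
      have hpow : (⟨x, hxM⟩ : M) ^ p ^ k = (⟨y * x * y⁻¹, hx'M⟩ : M) ^ p ^ k := by
        apply Subtype.ext
        simp only [Subgroup.coe_pow]
        rw [conj_pow, hxy]
        group
      have h2 := (hAM ⟨x, hxM⟩ ⟨y * x * y⁻¹, hx'M⟩ k).1 hpow
      have h3 : (x⁻¹ * (y * x * y⁻¹)) ^ p ^ k = 1 := by
        have := congrArg Subtype.val h2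
        simpa using this
      have h4 : ⁅x⁻¹, y⁆ ^ p ^ k = 1 := by
        rw [commutatorElement_def, inv_inv]
        rw [← h3]
        congr 1
        group
      have hgen' : Subgroup.closure ({x⁻¹, y} : Set G) = ⊤ := by
        rw [eq_top_iff, ← hgen, Subgroup.closure_le]
        rintro w (rfl | rfl)
        · have : w⁻¹ ∈ Subgroup.closure ({w⁻¹, y} : Set G) := Subgroup.subset_closure (by simp)
          simpa using inv_mem this
        · exact Subgroup.subset_closure (by simp)
      have h5 := mul_pow_of_commutator_pow_eq_one hG hC x⁻¹ y k hgen' h4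
      rw [h5, inv_pow, hxy, inv_mul_cancel]
    · -- (⇐)
      intro hz
      set z := x⁻¹ * y with hzdef
      have hy : y = x * z := by rw [hzdef]; group
      obtain ⟨M, hMtop, hMn, hzM⟩ := hcoatom z (fun h => hcyc z h)
      have hAM := ihK M hMtop
      have h1M : x * z * x⁻¹ ∈ M := hMn.conj_mem z hzM x
      have h2M : z⁻¹ ∈ M := inv_mem hzM
      have hp1 : (⟨x * z * x⁻¹, h1M⟩ : M) ^ p ^ k = 1 := by
        apply Subtype.ext
        simp only [Subgroup.coe_pow, Subgroup.coe_one]
        rw [conj_pow, hz]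
        group
      have hp2 : (⟨z⁻¹, h2M⟩ : M) ^ p ^ k = 1 := by
        apply Subtype.ext
        simp only [Subgroup.coe_pow, Subgroup.coe_one]
        rw [inv_pow, hz, inv_one]
      have h3 := hAM.mul_pow_eq_one hp1 hp2
      have h4 : ⁅x, z⁆ ^ p ^ k = 1 := by
        have := congrArg Subtype.val h3
        simpa [commutatorElement_def] using this
      have hgen' : Subgroup.closure ({x, z} : Set G) = ⊤ := by
        rw [eq_top_iff, ← hgen, Subgroup.closure_le]
        rintro w (rfl | rfl)
        · exact Subgroup.subset_closure (by simp)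
        · rw [hy]
          exact mul_mem (Subgroup.subset_closure (by simp)) (Subgroup.subset_closure (by simp))
      have h5 := mul_pow_of_commutator_pow_eq_one hG hC x z k hgen' h4
      rw [hy, h5, hz, mul_one]

/-- In a regular `p`-group, `x^q = y^q ↔ (x⁻¹ y)^q = 1` for `q = p^k`. -/
theorem powEqIff_of_regular {G : Type u} [Group G] [Finite G] {p : ℕ} [Fact p.Prime]
    (hG : Cfsg.IsRegularPGroup p G) : PowEqIff p G :=
  powEqIff_of_regular_aux p (Nat.card G) G rfl hG

end Cfsg.Agent.Lib.Helper75
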