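import Mathlib
import Cfsg.Prelude.Def_PLocal
import Cfsg.Agent.Lib.Helper75.Regular

set_option autoImplicit false

namespace Cfsg.Agent.Lib.Helper75

open scoped commutatorElement

universe u

/-- quotients of regular groups are regular -/
theorem isRegularPGroup_quotient {G : Type*} [Group G] {p : ℕ} (hG : Cfsg.IsRegularPGroup p G)
    (N : Subgroup G) [N.Normal] : Cfsg.IsRegularPGroup p (G ⧸ N) := by
  obtain ⟨hp, hreg⟩ := hG
  refine ⟨hp.to_quotient N, ?_⟩
  intro a b n
  obtain ⟨a, rfl⟩ := QuotientGroup.mk'_surjective N a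
  obtain ⟨b, rfl⟩ := QuotientGroup.mk'_surjective N b
  obtain ⟨c, hc, hcc⟩ := hreg a b n
  refine ⟨(QuotientGroup.mk' N) c, ?_, ?_⟩
  · have h1 : (QuotientGroup.mk' N) c ∈ (Cfsg.powerClosure p n
        ⁅Subgroup.closure ({a, b} : Set G), Subgroup.closure ({a, b} : Set G)⁆).map
        (QuotientGroup.mk' N) := Subgroup.mem_map_of_mem _ hc
    rw [powerClosure_map, Subgroup.map_commutator, MonoidHom.map_closure, Set.image_pair] at h1
    exact h1
  · have := congrArg (QuotientGroup.mk' N) hcc
    simpa using this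

/-- the statement: products of `q`-th powers are `q`-th powers -/
def PowMulPow (p : ℕ) (G : Type*) [Group G] : Prop :=
  ∀ (x y : G) (k : ℕ), ∃ z ∈ Subgroup.closure ({x, y} : Set G), x ^ p ^ k * y ^ p ^ k = z ^ p ^ k

/-- the set of `q`-th powers of elements of `H`, as a subgroup -/
def PowMulPow.powers {p : ℕ} {G : Type*} [Group G] (h : PowMulPow p G) (k : ℕ) (H : Subgroup G) :
    Subgroup G where
  carrier := {y | ∃ x ∈ H, y = x ^ p ^ k}
  one_mem' := ⟨1, H.one_mem, by simp⟩
  mul_mem' := by
    rintro _ _ ⟨x, hx, rfl⟩ ⟨y, hy, rfl⟩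
    obtain ⟨z, hz, hzz⟩ := h x y k
    refine ⟨z, ?_, hzz⟩
    have hle : Subgroup.closure ({x, y} : Set G) ≤ H := by
      rw [Subgroup.closure_le]
      rintro w (rfl | rfl)
      · exact hx
      · exact hy
    exact hle hz
  inv_mem' := by
    rintro _ ⟨x, hx, rfl⟩
    exact ⟨x⁻¹, H.inv_mem hx, by simp⟩

theorem PowMulPow.powerClosure_eq {p : ℕ} {G : Type*} [Group G] (h : PowMulPow p G) (k : ℕ)
    (H : Subgroup G) : Cfsg.powerClosure p k H = h.powers k H := by
  apply le_antisymm
  · unfold Cfsg.powerClosure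
    rw [Subgroup.closure_le]
    intro y hy
    exact hy
  · intro y hy
    exact Subgroup.subset_closure hy

theorem PowMulPow.mem_powerClosure {p : ℕ} {G : Type*} [Group G] (h : PowMulPow p G) (k : ℕ)
    (H : Subgroup G) (y : G) : y ∈ Cfsg.powerClosure p k H ↔ ∃ x ∈ H, y = x ^ p ^ k := by
  rw [h.powerClosure_eq]
  rfl

theorem powMulPow_of_regular_aux (p : ℕ) [Fact p.Prime] : ∀ (n : ℕ) (G : Type u) [Group G] [Finite G],
    Nat.card G = n → Cfsg.IsRegularPGroup p G → PowMulPow p G := by
  intro n
  induction n using Nat.strong_induction_on with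
  | _ n ih =>
    intro G _ _ hcard hG
    have ihK : ∀ K : Subgroup G, K ≠ ⊤ → PowMulPow p K := by
      intro K hK
      exact ih (Nat.card K) (hcard ▸ card_subgroup_lt K hK) K rfl (isRegularPGroup_subgroup hG K)
    intro x y k
    by_cases hgen : Subgroup.closure ({x, y} : Set G) = ⊤
    swap
    · have hx : x ∈ Subgroup.closure ({x, y} : Set G) := Subgroup.subset_closure (by simp)
      have hy : y ∈ Subgroup.closure ({x, y} : Set G) := Subgroup.subset_closure (by simp)
      obtain ⟨z, -, hzz⟩ := ihK _ hgen ⟨x, hx⟩ ⟨y, hy⟩ k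
      refine ⟨z, z.2, ?_⟩
      have := congrArg Subtype.val hzz
      simpa using this
    rw [hgen]
    by_cases hcomm : Commute x y
    · exact ⟨x * y, Subgroup.mem_top _, (hcomm.mul_pow _).symm⟩
    have hnt : Nontrivial G := by
      by_contra h
      rw [not_nontrivial_iff_subsingleton] at h
      exact hcomm (Subsingleton.elim _ _)
    have hCne : commutator G ≠ ⊤ := commutator_ne_top_of_isPGroup hG.1
    have hC : PowMulPow p (commutator G) := ihK _ hCne
    obtain ⟨c, hc, hcxy⟩ := hG.2 x y k
    rw [hgen, ← commutator_def] at hc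
    -- `c⁻¹` is the `q`-th power of an element of `G'`
    have hc' : c⁻¹ ∈ Cfsg.powerClosure p k (commutator G) := inv_mem hc
    have hmap : Cfsg.powerClosure p k (commutator G)
        = (Cfsg.powerClosure p k (⊤ : Subgroup (commutator G))).map (commutator G).subtype := by
      rw [powerClosure_map, ← MonoidHom.range_eq_map, Subgroup.range_subtype]
    rw [hmap] at hc'
    obtain ⟨w, hw, hwc⟩ := hc'
    rw [SetLike.mem_coe, hC.mem_powerClosure] at hw
    obtain ⟨d, -, rfl⟩ := hw
    have hxy : x ^ p ^ k * y ^ p ^ k = (x * y) ^ p ^ k * (d : G) ^ p ^ k := by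
      rw [hcxy, mul_assoc]
      have : c * (d : G) ^ p ^ k = 1 := by
        have h2 : ((d ^ p ^ k : commutator G) : G) = c⁻¹ := hwc
        rw [Subgroup.coe_pow] at h2
        rw [h2, mul_inv_cancel]
      rw [this, mul_one]
    -- a maximal subgroup containing `x * y`
    have hxyne : Subgroup.zpowers (x * y) ≠ ⊤ := by
      intro hz
      apply hcomm
      have hx : x ∈ Subgroup.zpowers (x * y) := by rw [hz]; trivial
      have hy : y ∈ Subgroup.zpowers (x * y) := by rw [hz]; trivial
      obtain ⟨i, hi⟩ := hx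
      obtain ⟨j, hj⟩ := hy
      have h3 := (Commute.refl (x * y)).zpow_zpow i j
      beta_reduce at hi hj
      rwa [hi, hj] at h3
    rcases eq_top_or_exists_le_coatom (Subgroup.zpowers (x * y)) with h | ⟨M, hM, hzM⟩
    · exact absurd h hxyne
    have hxyM : x * y ∈ M := hzM (Subgroup.mem_zpowers _)
    have hdM : (d : G) ∈ M :=
      (le_trans (commutator_le_frattini_of_isPGroup' hG.1) (frattini_le_coatom hM)) d.2
    obtain ⟨z, -, hzz⟩ := ihK M hM.1 ⟨x * y, hxyM⟩ ⟨d, hdM⟩ k
    refine ⟨z, Subgroup.mem_top _, ?_⟩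
    rw [hxy]
    have := congrArg Subtype.val hzz
    simpa using this

/-- In a regular `p`-group products of `p^k`-th powers are `p^k`-th powers. -/
theorem powMulPow_of_regular {G : Type u} [Group G] [Finite G] {p : ℕ} [Fact p.Prime]
    (hG : Cfsg.IsRegularPGroup p G) : PowMulPow p G :=
  powMulPow_of_regular_aux p (Nat.card G) G rfl hG

/-- the power closure of a normal subgroup is normal -/
theorem powerClosure_normal {G : Type*} [Group G] (p n : ℕ) (S : Subgroup G) [hS : S.Normal] :
    (Cfsg.powerClosure p n S).Normal := by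
  constructor
  intro y hy g
  have hmap : (Cfsg.powerClosure p n S).map (MulAut.conj g).toMonoidHom = Cfsg.powerClosure p n S := by
    rw [powerClosure_map]
    congr 1
    ext z
    constructor
    · rintro ⟨w, hw, rfl⟩
      exact hS.conj_mem w hw g
    · intro hz
      refine ⟨g⁻¹ * z * g, ?_, by simp [mul_assoc]⟩
      have := hS.conj_mem z hz g⁻¹
      simpa using this
  rw [← hmap]
  exact ⟨y, hy, by simp⟩

/-- In a regular `p`-group `G`, `[x^q, y^q] ∈ ℧(G')`. -/
theorem commutator_pow_pow_mem {G : Type u} [Group G] [Finite G] {p : ℕ} [Fact p.Prime]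
    (hG : Cfsg.IsRegularPGroup p G) (x y : G) (k : ℕ) :
    ⁅x ^ p ^ k, y ^ p ^ k⁆ ∈ Cfsg.powerClosure p k (commutator G) := by
  haveI : (Cfsg.powerClosure p k (commutator G)).Normal := powerClosure_normal p k (commutator G)
  set N := Cfsg.powerClosure p k (commutator G) with hN
  have hQ : Cfsg.IsRegularPGroup p (G ⧸ N) := isRegularPGroup_quotient hG N
  have hA := powEqIff_of_regular hQ
  -- in the quotient all commutators have trivial `q`-th power
  have hcomm : ∀ a b : G, (QuotientGroup.mk' N (a⁻¹ * b⁻¹ * a * b)) ^ p ^ k = 1 := by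
    intro a b
    rw [← map_pow, QuotientGroup.mk'_apply, QuotientGroup.eq_one_iff]
    apply Subgroup.subset_closure
    refine ⟨a⁻¹ * b⁻¹ * a * b, ?_, rfl⟩
    rw [commutator_def]
    have : a⁻¹ * b⁻¹ * a * b = ⁅a⁻¹, b⁻¹⁆ := by rw [commutatorElement_def]; group
    rw [this]
    exact Subgroup.commutator_mem_commutator (Subgroup.mem_top _) (Subgroup.mem_top _)
  -- hence `q`-th powers are central in the quotient
  have hcentral : ∀ a b : G, (QuotientGroup.mk' N a) ^ p ^ k * QuotientGroup.mk' N b
      = QuotientGroup.mk' N b * (QuotientGroup.mk' N a) ^ p ^ k := by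
    intro a b
    set A := QuotientGroup.mk' N a
    set B := QuotientGroup.mk' N b
    have h := hA A (B⁻¹ * A * B) k
    have e1 : (B⁻¹ * A * B) ^ p ^ k = B⁻¹ * A ^ p ^ k * B := by
      have := conj_pow (a := B⁻¹) (b := A) (i := p ^ k)
      rw [inv_inv] at this
      exact this
    have e2 : A⁻¹ * (B⁻¹ * A * B) = QuotientGroup.mk' N (a⁻¹ * b⁻¹ * a * b) := by
      simp only [map_mul, map_inv, A, B]
      group
    rw [e1, e2] at h
    have h3 := h.2 (hcomm a b)
    calc A ^ p ^ k * B = B * (B⁻¹ * A ^ p ^ k * B) := by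
          simp only [mul_assoc, mul_inv_cancel_left]
      _ = B * A ^ p ^ k := by rw [← h3]
  rw [← QuotientGroup.eq_one_iff, ← QuotientGroup.mk'_apply, map_commutatorElement,
    commutatorElement_eq_one_iff_mul_comm, map_pow, map_pow, ← map_pow _ y]
  exact hcentral x (y ^ p ^ k)

end Cfsg.Agent.Lib.Helper75
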