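import Mathlib
import Cfsg.Prelude.Def_PLocal
import Cfsg.Agent.Lib.Helper75.RegularPower

set_option autoImplicit false

namespace Cfsg.Agent.Lib.Helper75

open scoped commutatorElement

universe u

/-- regularity at the single level `k` -/
def RegAt (p k : ℕ) (G : Type*) [Group G] : Prop :=
  IsPGroup p G ∧ ∀ a b : G,
    ∃ c ∈ Cfsg.powerClosure p k ⁅Subgroup.closure ({a, b} : Set G), Subgroup.closure ({a, b} : Set G)⁆,
      (a * b) ^ (p ^ k) = a ^ (p ^ k) * b ^ (p ^ k) * c

theorem isRegularPGroup_iff_regAt {p : ℕ} {G : Type*} [Group G] :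
    Cfsg.IsRegularPGroup p G ↔ ∀ k, RegAt p k G := by
  constructor
  · intro h k
    exact ⟨h.1, fun a b => h.2 a b k⟩
  · intro h
    exact ⟨(h 0).1, fun a b n => (h n).2 a b⟩

theorem regAt_subgroup {G : Type*} [Group G] {p k : ℕ} (hG : RegAt p k G)
    (K : Subgroup G) : RegAt p k K := by
  refine ⟨hG.1.to_subgroup K, ?_⟩
  intro a b
  obtain ⟨c, hc, hcab⟩ := hG.2 (a : G) (b : G)
  have hcl : Subgroup.closure ({(a : G), (b : G)} : Set G)
      = (Subgroup.closure ({a, b} : Set K)).map K.subtype := by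
    rw [MonoidHom.map_closure, Set.image_pair]
    rfl
  rw [hcl, ← Subgroup.map_commutator, ← powerClosure_map] at hc
  obtain ⟨c', hc', rfl⟩ := hc
  refine ⟨c', hc', ?_⟩
  apply Subtype.ext
  simpa using hcab

theorem regAt_quotient {G : Type*} [Group G] {p k : ℕ} (hG : RegAt p k G)
    (N : Subgroup G) [N.Normal] : RegAt p k (G ⧸ N) := by
  obtain ⟨hp, hreg⟩ := hG
  refine ⟨hp.to_quotient N, ?_⟩
  intro a b
  obtain ⟨a, rfl⟩ := QuotientGroup.mk'_surjective N a
  obtain ⟨b, rfl⟩ := QuotientGroup.mk'_surjective N b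
  obtain ⟨c, hc, hcc⟩ := hreg a b
  refine ⟨(QuotientGroup.mk' N) c, ?_, ?_⟩
  · have h1 : (QuotientGroup.mk' N) c ∈ (Cfsg.powerClosure p k
        ⁅Subgroup.closure ({a, b} : Set G), Subgroup.closure ({a, b} : Set G)⁆).map
        (QuotientGroup.mk' N) := Subgroup.mem_map_of_mem _ hc
    rw [powerClosure_map, Subgroup.map_commutator, MonoidHom.map_closure, Set.image_pair] at h1
    exact h1
  · have := congrArg (QuotientGroup.mk' N) hcc
    simpa using this

/-- `x^q = y^q ↔ (x⁻¹ y)^q = 1` at level `k` -/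
def PowEqIffAt (p k : ℕ) (G : Type*) [Group G] : Prop :=
  ∀ (x y : G), x ^ p ^ k = y ^ p ^ k ↔ (x⁻¹ * y) ^ p ^ k = 1

theorem PowEqIffAt.mul_pow_eq_one {p k : ℕ} {G : Type*} [Group G] (h : PowEqIffAt p k G) {x y : G}
    (hx : x ^ p ^ k = 1) (hy : y ^ p ^ k = 1) : (x * y) ^ p ^ k = 1 := by
  have := (h x⁻¹ y).1 (by rw [inv_pow, hx, hy, inv_one])
  simpa using this

/-- the elements with trivial `p^k`-th power, as a subgroup -/
def PowEqIffAt.omega {p k : ℕ} {G : Type*} [Group G] (h : PowEqIffAt p k G) : Subgroup G where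
  carrier := {x | x ^ p ^ k = 1}
  one_mem' := by simp
  mul_mem' := fun hx hy => h.mul_pow_eq_one hx hy
  inv_mem' := fun {x} hx => by
    have : x ^ p ^ k = 1 := hx
    show (x⁻¹) ^ p ^ k = 1
    rw [inv_pow, this, inv_one]

theorem mul_pow_of_commutator_pow_eq_one_at {G : Type*} [Group G] {p k : ℕ}
    (hG : RegAt p k G) (hC : PowEqIffAt p k (commutator G)) (u v : G)
    (hgen : Subgroup.closure ({u, v} : Set G) = ⊤) (huv : ⁅u, v⁆ ^ p ^ k = 1) :
    (u * v) ^ p ^ k = u ^ p ^ k * v ^ p ^ k := by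
  let T : Subgroup G := (hC.omega).map (commutator G).subtype
  have hT : ∀ g : G, g ∈ T ↔ g ∈ commutator G ∧ g ^ p ^ k = 1 := by
    intro g
    constructor
    · rintro ⟨w, hw, rfl⟩
      refine ⟨w.2, ?_⟩
      have : w ^ p ^ k = 1 := hw
      have := congrArg Subtype.val this
      simpa using this
    · rintro ⟨hg1, hg2⟩
      refine ⟨⟨g, hg1⟩, ?_, rfl⟩
      show (⟨g, hg1⟩ : commutator G) ^ p ^ k = 1
      apply Subtype.ext
      simpa using hg2
  have hTn : T.Normal := by
    constructor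
    intro g hg t
    rw [hT] at hg ⊢
    refine ⟨(inferInstance : (commutator G).Normal).conj_mem g hg.1 t, ?_⟩
    rw [conj_pow, hg.2]
    simp
  have huvT : ⁅u, v⁆ ∈ T := by
    rw [hT]
    refine ⟨?_, huv⟩
    rw [commutator_def]
    exact Subgroup.commutator_mem_commutator (Subgroup.mem_top _) (Subgroup.mem_top _)
  have hle : commutator G ≤ T :=
    le_trans (commutator_le_normalClosure_of_closure_pair u v hgen)
      (Subgroup.normalClosure_le_normal (by
        intro w hw
        rw [Set.mem_singleton_iff] at hw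
        rw [hw]
        exact huvT))
  have hexp : ∀ g ∈ commutator G, g ^ p ^ k = 1 := fun g hg => ((hT g).1 (hle hg)).2
  obtain ⟨c, hc, hcuv⟩ := hG.2 u v
  rw [hgen, ← commutator_def, powerClosure_eq_bot p k _ hexp, Subgroup.mem_bot] at hc
  rw [hcuv, hc, mul_one]

theorem powEqIffAt_of_regAt_aux (p k : ℕ) [Fact p.Prime] : ∀ (n : ℕ) (G : Type u) [Group G] [Finite G],
    Nat.card G = n → RegAt p k G → PowEqIffAt p k G := by
  intro n
  induction n using Nat.strong_induction_on with
  | _ n ih =>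
    intro G _ _ hcard hG
    have ihK : ∀ K : Subgroup G, K ≠ ⊤ → PowEqIffAt p k K := by
      intro K hK
      exact ih (Nat.card K) (hcard ▸ card_subgroup_lt K hK) K rfl (regAt_subgroup hG K)
    intro x y
    by_cases hgen : Subgroup.closure ({x, y} : Set G) = ⊤
    swap
    · have hx : x ∈ Subgroup.closure ({x, y} : Set G) := Subgroup.subset_closure (by simp)
      have hy : y ∈ Subgroup.closure ({x, y} : Set G) := Subgroup.subset_closure (by simp)
      have := ihK _ hgen ⟨x, hx⟩ ⟨y, hy⟩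
      simp only [Subtype.ext_iff, Subgroup.coe_pow, Subgroup.coe_mul, Subgroup.coe_inv,
        Subgroup.coe_one] at this
      exact this
    by_cases hcomm : Commute x y
    · have h1 : (x⁻¹ * y) ^ p ^ k = (x ^ p ^ k)⁻¹ * y ^ p ^ k := by
        rw [(hcomm.inv_left).mul_pow, inv_pow]
      rw [h1, inv_mul_eq_one]
    have hnt : Nontrivial G := by
      by_contra h
      rw [not_nontrivial_iff_subsingleton] at h
      exact hcomm (Subsingleton.elim _ _)
    have hCne : commutator G ≠ ⊤ := commutator_ne_top_of_isPGroup hG.1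
    have hC : PowEqIffAt p k (commutator G) := ihK _ hCne
    have hcoatom : ∀ z : G, Subgroup.zpowers z ≠ ⊤ → ∃ M : Subgroup G, M ≠ ⊤ ∧ M.Normal ∧ z ∈ M := by
      intro z hz
      rcases eq_top_or_exists_le_coatom (Subgroup.zpowers z) with h | ⟨M, hM, hzM⟩
      · exact absurd h hz
      · exact ⟨M, hM.1, normal_of_isCoatom_of_isPGroup' hG.1 hM, hzM (Subgroup.mem_zpowers z)⟩
    have hcyc : ∀ z : G, Subgroup.zpowers z = ⊤ → False := by
      intro z hz
      apply hcomm
      have hx : x ∈ Subgroup.zpowers z := by rw [hz]; trivial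
      have hy : y ∈ Subgroup.zpowers z := by rw [hz]; trivial
      obtain ⟨i, rfl⟩ := hx
      obtain ⟨j, rfl⟩ := hy
      exact (Commute.refl z).zpow_zpow i j
    constructor
    · intro hxy
      obtain ⟨M, hMtop, hMn, hxM⟩ := hcoatom x (fun h => hcyc x h)
      have hAM := ihK M hMtop
      have hx'M : y * x * y⁻¹ ∈ M := hMn.conj_mem x hxM y
      have hpow : (⟨x, hxM⟩ : M) ^ p ^ k = (⟨y * x * y⁻¹, hx'M⟩ : M) ^ p ^ k := by
        apply Subtype.ext
        simp only [Subgroup.coe_pow]
        rw [conj_pow, hxy]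
        group
      have h2 := (hAM ⟨x, hxM⟩ ⟨y * x * y⁻¹, hx'M⟩).1 hpow
      have h3 : (x⁻¹ * (y * x * y⁻¹)) ^ p ^ k = 1 := by
        have := congrArg Subtype.val h2
        simpa using this
      have h4 : ⁅x⁻¹, y⁆ ^ p ^ k = 1 := by
        rw [commutatorElement_def, inv_inv]
        rw [← h3]
        congr 1
        group
      have hgen' : Subgroup.closure ({x⁻¹, y} : Set G) = ⊤ := by
        rw [eq_top_iff, ← hgen, Subgroup.closure_le]
        rintro w (rfl | rfl)
        · have : w⁻¹ ∈ Subgroup.closure ({w⁻¹, y} : Set G) := Subgroup.subset_closure (by simp)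
          simpa using inv_mem this
        · exact Subgroup.subset_closure (by simp)
      have h5 := mul_pow_of_commutator_pow_eq_one_at hG hC x⁻¹ y hgen' h4
      rw [h5, inv_pow, hxy, inv_mul_cancel]
    · intro hz
      set z := x⁻¹ * y with hzdef
      have hy : y = x * z := by rw [hzdef]; group
      obtain ⟨M, hMtop, hMn, hzM⟩ := hcoatom z (fun h => hcyc z h)
      have hAM := ihK M hMtop
      have h1M : x * z * x⁻¹ ∈ M := hMn.conj_mem z hzM x
      have h2M : z⁻¹ ∈ M := inv_mem hzM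
      have hp1 : (⟨x * z * x⁻¹, h1M⟩ : M) ^ p ^ k = 1 := by
        apply Subtype.ext
        simp only [Subgroup.coe_pow, Subgroup.coe_one]
        rw [conj_pow, hz]
        group
      have hp2 : (⟨z⁻¹, h2M⟩ : M) ^ p ^ k = 1 := by
        apply Subtype.ext
        simp only [Subgroup.coe_pow, Subgroup.coe_one]
        rw [inv_pow, hz, inv_one]
      have h3 := hAM.mul_pow_eq_one hp1 hp2
      have h4 : ⁅x, z⁆ ^ p ^ k = 1 := by
        have := congrArg Subtype.val h3
        simpa [commutatorElement_def] using this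
      have hgen' : Subgroup.closure ({x, z} : Set G) = ⊤ := by
        rw [eq_top_iff, ← hgen, Subgroup.closure_le]
        rintro w (rfl | rfl)
        · exact Subgroup.subset_closure (by simp)
        · rw [hy]
          exact mul_mem (Subgroup.subset_closure (by simp)) (Subgroup.subset_closure (by simp))
      have h5 := mul_pow_of_commutator_pow_eq_one_at hG hC x z hgen' h4
      rw [hy, h5, hz, mul_one]

theorem powEqIffAt_of_regAt {G : Type u} [Group G] [Finite G] {p k : ℕ} [Fact p.Prime]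
    (hG : RegAt p k G) : PowEqIffAt p k G :=
  powEqIffAt_of_regAt_aux p k (Nat.card G) G rfl hG

/-- products of `q`-th powers are `q`-th powers, level `k` -/
def PowMulPowAt (p k : ℕ) (G : Type*) [Group G] : Prop :=
  ∀ (x y : G), ∃ z ∈ Subgroup.closure ({x, y} : Set G), x ^ p ^ k * y ^ p ^ k = z ^ p ^ k

/-- the set of `q`-th powers of elements of `H`, as a subgroup -/
def PowMulPowAt.powers {p k : ℕ} {G : Type*} [Group G] (h : PowMulPowAt p k G) (H : Subgroup G) :
    Subgroup G where
  carrier := {y | ∃ x ∈ H, y = x ^ p ^ k}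
  one_mem' := ⟨1, H.one_mem, by simp⟩
  mul_mem' := by
    rintro _ _ ⟨x, hx, rfl⟩ ⟨y, hy, rfl⟩
    obtain ⟨z, hz, hzz⟩ := h x y
    refine ⟨z, ?_, hzz⟩
    have hle : Subgroup.closure ({x, y} : Set G) ≤ H := by
      rw [Subgroup.closure_le]
      rintro w (rfl | rfl)
      · exact hx
      · exact hy
    exact hle hz
  inv_mem' := by
    rintro _ ⟨x, hx, rfl⟩
    exact ⟨x⁻¹, H.inv_mem hx, by simp⟩

theorem PowMulPowAt.powerClosure_eq {p k : ℕ} {G : Type*} [Group G] (h : PowMulPowAt p k G)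
    (H : Subgroup G) : Cfsg.powerClosure p k H = h.powers H := by
  apply le_antisymm
  · unfold Cfsg.powerClosure
    rw [Subgroup.closure_le]
    intro y hy
    exact hy
  · intro y hy
    exact Subgroup.subset_closure hy

theorem PowMulPowAt.mem_powerClosure {p k : ℕ} {G : Type*} [Group G] (h : PowMulPowAt p k G)
    (H : Subgroup G) (y : G) : y ∈ Cfsg.powerClosure p k H ↔ ∃ x ∈ H, y = x ^ p ^ k := by
  rw [h.powerClosure_eq]
  rfl

theorem powMulPowAt_of_regAt_aux (p k : ℕ) [Fact p.Prime] : ∀ (n : ℕ) (G : Type u) [Group G] [Finite G],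
    Nat.card G = n → RegAt p k G → PowMulPowAt p k G := by
  intro n
  induction n using Nat.strong_induction_on with
  | _ n ih =>
    intro G _ _ hcard hG
    have ihK : ∀ K : Subgroup G, K ≠ ⊤ → PowMulPowAt p k K := by
      intro K hK
      exact ih (Nat.card K) (hcard ▸ card_subgroup_lt K hK) K rfl (regAt_subgroup hG K)
    intro x y
    by_cases hgen : Subgroup.closure ({x, y} : Set G) = ⊤
    swap
    · have hx : x ∈ Subgroup.closure ({x, y} : Set G) := Subgroup.subset_closure (by simp)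
      have hy : y ∈ Subgroup.closure ({x, y} : Set G) := Subgroup.subset_closure (by simp)
      obtain ⟨z, -, hzz⟩ := ihK _ hgen ⟨x, hx⟩ ⟨y, hy⟩
      refine ⟨z, z.2, ?_⟩
      have := congrArg Subtype.val hzz
      simpa using this
    rw [hgen]
    by_cases hcomm : Commute x y
    · exact ⟨x * y, Subgroup.mem_top _, (hcomm.mul_pow _).symm⟩
    have hnt : Nontrivial G := by
      by_contra h
      rw [not_nontrivial_iff_subsingleton] at h
      exact hcomm (Subsingleton.elim _ _)
    have hCne : commutator G ≠ ⊤ := commutator_ne_top_of_isPGroup hG.1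
    have hC : PowMulPowAt p k (commutator G) := ihK _ hCne
    obtain ⟨c, hc, hcxy⟩ := hG.2 x y
    rw [hgen, ← commutator_def] at hc
    have hc' : c⁻¹ ∈ Cfsg.powerClosure p k (commutator G) := inv_mem hc
    have hmap : Cfsg.powerClosure p k (commutator G)
        = (Cfsg.powerClosure p k (⊤ : Subgroup (commutator G))).map (commutator G).subtype := by
      rw [powerClosure_map, ← MonoidHom.range_eq_map, Subgroup.range_subtype]
    rw [hmap] at hc'
    obtain ⟨w, hw, hwc⟩ := hc'
    rw [SetLike.mem_coe, hC.mem_powerClosure] at hw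
    obtain ⟨d, -, rfl⟩ := hw
    have hxy : x ^ p ^ k * y ^ p ^ k = (x * y) ^ p ^ k * (d : G) ^ p ^ k := by
      rw [hcxy, mul_assoc]
      have : c * (d : G) ^ p ^ k = 1 := by
        have h2 : ((d ^ p ^ k : commutator G) : G) = c⁻¹ := hwc
        rw [Subgroup.coe_pow] at h2
        rw [h2, mul_inv_cancel]
      rw [this, mul_one]
    have hxyne : Subgroup.zpowers (x * y) ≠ ⊤ := by
      intro hz
      apply hcomm
      have hx : x ∈ Subgroup.zpowers (x * y) := by rw [hz]; trivial
      have hy : y ∈ Subgroup.zpowers (x * y) := by rw [hz]; trivial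
      obtain ⟨i, hi⟩ := hx
      obtain ⟨j, hj⟩ := hy
      have h3 := (Commute.refl (x * y)).zpow_zpow i j
      beta_reduce at hi hj
      rwa [hi, hj] at h3
    rcases eq_top_or_exists_le_coatom (Subgroup.zpowers (x * y)) with h | ⟨M, hM, hzM⟩
    · exact absurd h hxyne
    have hxyM : x * y ∈ M := hzM (Subgroup.mem_zpowers _)
    have hdM : (d : G) ∈ M :=
      (le_trans (commutator_le_frattini_of_isPGroup' hG.1) (frattini_le_coatom hM)) d.2
    obtain ⟨z, -, hzz⟩ := ihK M hM.1 ⟨x * y, hxyM⟩ ⟨d, hdM⟩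
    refine ⟨z, Subgroup.mem_top _, ?_⟩
    rw [hxy]
    have := congrArg Subtype.val hzz
    simpa using this

theorem powMulPowAt_of_regAt {G : Type u} [Group G] [Finite G] {p k : ℕ} [Fact p.Prime]
    (hG : RegAt p k G) : PowMulPowAt p k G :=
  powMulPowAt_of_regAt_aux p k (Nat.card G) G rfl hG

/-- `[x^q, y^q] ∈ ℧_k(G')`, level `k`. -/
theorem commutator_pow_pow_mem_at {G : Type u} [Group G] [Finite G] {p k : ℕ} [Fact p.Prime]
    (hG : RegAt p k G) (x y : G) :
    ⁅x ^ p ^ k, y ^ p ^ k⁆ ∈ Cfsg.powerClosure p k (commutator G) := by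
  haveI : (Cfsg.powerClosure p k (commutator G)).Normal := powerClosure_normal p k (commutator G)
  set N := Cfsg.powerClosure p k (commutator G) with hN
  have hQ : RegAt p k (G ⧸ N) := regAt_quotient hG N
  have hA := powEqIffAt_of_regAt hQ
  have hcomm : ∀ a b : G, (QuotientGroup.mk' N (a⁻¹ * b⁻¹ * a * b)) ^ p ^ k = 1 := by
    intro a b
    rw [← map_pow, QuotientGroup.mk'_apply, QuotientGroup.eq_one_iff]
    apply Subgroup.subset_closure
    refine ⟨a⁻¹ * b⁻¹ * a * b, ?_, rfl⟩
    rw [commutator_def]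
    have : a⁻¹ * b⁻¹ * a * b = ⁅a⁻¹, b⁻¹⁆ := by rw [commutatorElement_def]; group
    rw [this]
    exact Subgroup.commutator_mem_commutator (Subgroup.mem_top _) (Subgroup.mem_top _)
  have hcentral : ∀ a b : G, (QuotientGroup.mk' N a) ^ p ^ k * QuotientGroup.mk' N b
      = QuotientGroup.mk' N b * (QuotientGroup.mk' N a) ^ p ^ k := by
    intro a b
    set A := QuotientGroup.mk' N a
    set B := QuotientGroup.mk' N b
    have h := hA A (B⁻¹ * A * B)
    have e1 : (B⁻¹ * A * B) ^ p ^ k = B⁻¹ * A ^ p ^ k * B := by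
      have := conj_pow (a := B⁻¹) (b := A) (i := p ^ k)
      rw [inv_inv] at this
      exact this
    have e2 : A⁻¹ * (B⁻¹ * A * B) = QuotientGroup.mk' N (a⁻¹ * b⁻¹ * a * b) := by
      simp only [map_mul, map_inv, A, B]
      group
    rw [e1, e2] at h
    have h3 := h.2 (hcomm a b)
    calc A ^ p ^ k * B = B * (B⁻¹ * A ^ p ^ k * B) := by
          simp only [mul_assoc, mul_inv_cancel_left]
      _ = B * A ^ p ^ k := by rw [← h3]
  rw [← QuotientGroup.eq_one_iff, ← QuotientGroup.mk'_apply, map_commutatorElement,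
    commutatorElement_eq_one_iff_mul_comm, map_pow, map_pow, ← map_pow _ y]
  exact hcentral x (y ^ p ^ k)

/-- `[℧_k(H), ℧_k(H)] ≤ ℧_k(H')`, level `k`. -/
theorem commutator_powerClosure_le_at {G : Type u} [Group G] [Finite G] {p k : ℕ} [Fact p.Prime]
    (hG : RegAt p k G) (H : Subgroup G) :
    ⁅Cfsg.powerClosure p k H, Cfsg.powerClosure p k H⁆ ≤ Cfsg.powerClosure p k ⁅H, H⁆ := by
  have hPM := powMulPowAt_of_regAt hG
  have hmem := hPM.mem_powerClosure H
  rw [Subgroup.commutator_le]
  intro g₁ hg₁ g₂ hg₂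
  rw [hmem] at hg₁ hg₂
  obtain ⟨x, hx, rfl⟩ := hg₁
  obtain ⟨y, hy, rfl⟩ := hg₂
  have hH : RegAt p k H := regAt_subgroup hG H
  have h1 := commutator_pow_pow_mem_at hH ⟨x, hx⟩ ⟨y, hy⟩
  have h2 : H.subtype ⁅(⟨x, hx⟩ : H) ^ p ^ k, (⟨y, hy⟩ : H) ^ p ^ k⁆ ∈
      (Cfsg.powerClosure p k (commutator H)).map H.subtype := Subgroup.mem_map_of_mem _ h1
  rw [powerClosure_map, Subgroup.map_subtype_commutator] at h2
  simpa using h2

end Cfsg.Agent.Lib.Helper75
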