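import Mathlib
import Cfsg.Agent.S1417
import Cfsg.Agent.S1418
import Cfsg.Agent.S1428
import Cfsg.Agent.Lib.Helper78.BG128

/-!
# BG Lemma 13.7 (`tau12_regular`), abelian-Sylow case

`p ∈ τ₁(M)`, `P ≤ E` of order `p`, `q ∈ τ₂(M)` with abelian Sylow `q`-subgroups of `G`,
`A ≤ E` elementary abelian of order `q ^ 2` with `C_A(P) ≠ 1`.  Then `C_{M_σ}(P) = 1`.
-/

set_option autoImplicit false
set_option linter.unusedSectionVars false
set_option linter.unusedVariables false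

namespace Cfsg.Agent.Lib.Helper75.BG137

open Cfsg
open scoped commutatorElement

variable {G : Type*} [Group G] [Finite G]

/-- conjugation-closed implies normalizing -/
theorem le_normalizer_of_conj_mem_137 {H N : Subgroup G}
    (h : ∀ g ∈ H, ∀ n ∈ N, g * n * g⁻¹ ∈ N) : H ≤ Subgroup.normalizer (N : Set G) := by
  intro g hg
  rw [Subgroup.mem_normalizer_iff]
  intro n
  constructor
  · exact h g hg n
  · intro hn
    have := h g⁻¹ (H.inv_mem hg) _ hn
    simpa [mul_assoc] using this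

/-- **BG 13.7**, abelian-Sylow case. -/
theorem tau12_regular_of_abelian (hG : IsMinSimpleOddOrder G) {M : Subgroup G} (hM : IsCoatom M)
    {E : Subgroup G} (hE : IsComplIn E (sigmaCore M) M) {p : ℕ} (hp : p ∈ tau1 M)
    {P : Subgroup G} (hPE : P ≤ E) (hP : Nat.card P = p) {q : ℕ} [Fact q.Prime] (hq : q ∈ tau2 M)
    {A : Subgroup G} (hA : A ≤ E ∧ IsElementaryAbelian q A ∧ Nat.card A = q ^ 2)
    (hab : ∀ S : Sylow q G, IsMulCommutative (S : Subgroup G))
    (hCA : A ⊓ Subgroup.centralizer (P : Set G) ≠ ⊥) :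
    sigmaCore M ⊓ Subgroup.centralizer (P : Set G) = ⊥ := by
  by_contra hC
  have hqp : q.Prime := Fact.out
  obtain ⟨hAE, hAe, hAc⟩ := hA
  obtain ⟨⟨hEN, hXA⟩, ⟨hCAle, hMN, hNM⟩, h18c⟩ :=
    Cfsg.Agent.S1418.result hG M hM E hE q hq A ⟨hAE, hAe, hAc⟩
  have hCE : Subgroup.centralizer (A : Set G) ≤ E := by rw [← hMN]; exact hCAle
  obtain ⟨-, -, -, -, -, A₁, hA₁A, hA₁c, hA₁⟩ :=
    Cfsg.Agent.S1417.result hG M hM q hq A ⟨hAE.trans hE.1, hAe, hAc⟩
  have hAp : IsPGroup q A := Cfsg.Agent.Lib.Helper55.isPGroup_of_pow_eq_one hAe.2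
  -- `R = C_A(P)` has order `q`
  have hRA : A ⊓ Subgroup.centralizer (P : Set G) ≤ A := inf_le_left
  have hRcard : Nat.card ↥(A ⊓ Subgroup.centralizer (P : Set G)) = q := by
    have hdvd : Nat.card ↥(A ⊓ Subgroup.centralizer (P : Set G)) ∣ q ^ 2 := by
      rw [← hAc]; exact Subgroup.card_dvd_of_le hRA
    obtain ⟨m, hm, hRm⟩ := (Nat.dvd_prime_pow hqp).mp hdvd
    interval_cases m
    · exfalso
      exact hCA (Subgroup.card_eq_one.mp (by simpa using hRm))
    · simpa using hRm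
    · exfalso
      have hRe : A ⊓ Subgroup.centralizer (P : Set G) = A :=
        Subgroup.eq_of_le_of_card_ge hRA (by rw [hRm, hAc])
      have hAP : A ≤ Subgroup.centralizer (P : Set G) := by
        rw [← hRe]; exact inf_le_right
      have h28 := Cfsg.Agent.S1428.result hG M hM E hE p hp P hPE hP A₁
        (le_inf (hA₁A.trans hAE) (hA₁A.trans hAP)) (by rw [hA₁c]; exact hqp)
      rw [hA₁] at h28
      exact hC (le_bot_iff.mp h28)
  -- `R` is a bad line
  have h28 := Cfsg.Agent.S1428.result hG M hM E hE p hp P hPE hP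
    (A ⊓ Subgroup.centralizer (P : Set G)) (le_inf (hRA.trans hAE) inf_le_right)
    (by rw [hRcard]; exact hqp)
  have hRbad : sigmaCore M ⊓ Subgroup.centralizer
      ((A ⊓ Subgroup.centralizer (P : Set G) : Subgroup G) : Set G) ≠ ⊥ := by
    intro h
    rw [h] at h28
    exact hC (le_bot_iff.mp h28)
  obtain ⟨hCRM, hCRuniq⟩ := h18c _ hRA hRcard hRbad
  -- `N_G(R) ≤ M`
  have hNR : Subgroup.normalizer
      ((A ⊓ Subgroup.centralizer (P : Set G) : Subgroup G) : Set G) ≤ M := by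
    have hRp : IsPGroup q ↥(A ⊓ Subgroup.centralizer (P : Set G)) := hAp.to_le hRA
    have hRtop : A ⊓ Subgroup.centralizer (P : Set G) ≠ ⊤ :=
      Cfsg.Agent.Lib.Helper55.ms_pgroup_ne_top hG hRp
    obtain ⟨L', hL', hNL'⟩ := Cfsg.Agent.Lib.Helper55.ms_exists_coatom_ge
      (Cfsg.Agent.Lib.Helper55.ms_normalizer_ne_top hG hCA hRtop)
    have hLM : L' = M := hCRuniq L' hL' ((Subgroup.centralizer_le_normalizer _).trans hNL')
    rw [← hLM]; exact hNL'
  -- an abelian Sylow `q`-subgroup `S ⊇ A`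
  obtain ⟨S, hAS⟩ := hAp.exists_le_sylow
  have hSab : ∀ x ∈ (S : Subgroup G), ∀ y ∈ (S : Subgroup G), x * y = y * x := by
    intro x hx y hy
    have := (hab S).is_comm.comm (⟨x, hx⟩ : (S : Subgroup G)) ⟨y, hy⟩
    exact congrArg Subtype.val this
  obtain ⟨hSE, hES, -, hNNC, hCSE⟩ :=
    Cfsg.Agent.Lib.Helper78.BG128.sylow_abelian_structure hG hM hE hq ⟨hAE, hAe, hAc⟩ S hAS hSab
  -- `N_G(A) ≤ N_G(S)`
  have hNAS : Subgroup.normalizer (A : Set G) ≤ Subgroup.normalizer ((S : Subgroup G) : Set G) := by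
    apply le_normalizer_of_conj_mem_137
    intro n hn s hs
    set t := n * s * n⁻¹ with ht
    -- `t` centralizes `A`
    have htC : t ∈ Subgroup.centralizer (A : Set G) := by
      rw [Subgroup.mem_centralizer_iff]
      intro a ha
      have ha' : n⁻¹ * a * n⁻¹⁻¹ ∈ A :=
        ((Subgroup.mem_normalizer_iff.mp (Subgroup.inv_mem _ hn)) a).mp ha
      have hcomm := hSab _ (hAS ha') s hs
      have e1 : a = n * (n⁻¹ * a * n⁻¹⁻¹) * n⁻¹ := by group
      rw [e1, ht]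
      calc n * (n⁻¹ * a * n⁻¹⁻¹) * n⁻¹ * (n * s * n⁻¹)
          = n * ((n⁻¹ * a * n⁻¹⁻¹) * s) * n⁻¹ := by group
        _ = n * (s * (n⁻¹ * a * n⁻¹⁻¹)) * n⁻¹ := by rw [hcomm]
        _ = n * s * n⁻¹ * (n * (n⁻¹ * a * n⁻¹⁻¹) * n⁻¹) := by group
    have htN : t ∈ Subgroup.normalizer ((S : Subgroup G) : Set G) := hES (hCE htC)
    -- `⟨t⟩` is a `q`-group normalizing `S`
    have htq : IsPGroup q (Subgroup.zpowers t) := by
      obtain ⟨k, hk⟩ := (IsPGroup.iff_orderOf.mp S.isPGroup') ⟨s, hs⟩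
      have hos : orderOf s = q ^ k := by rw [← Subgroup.orderOf_coe] at hk; exact hk
      have hot : orderOf t = q ^ k := by
        rw [ht, ← hos]
        have h0 : orderOf (MulAut.conj n s) = orderOf s :=
          orderOf_injective (MulAut.conj n).toMonoidHom (MulAut.conj n).injective s
        rwa [MulAut.conj_apply] at h0
      exact IsPGroup.of_card (n := k) (by rw [Nat.card_zpowers, hot])
    have hZN : Subgroup.zpowers t ≤ Subgroup.normalizer ((S : Subgroup G) : Set G) := by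
      rw [Subgroup.zpowers_le]; exact htN
    have hsup : IsPGroup q ↥((S : Subgroup G) ⊔ Subgroup.zpowers t) :=
      IsPGroup.to_sup_of_normal_left' S.isPGroup' htq hZN
    have heq := S.is_maximal' hsup le_sup_left
    have : t ∈ (S : Subgroup G) ⊔ Subgroup.zpowers t :=
      (le_sup_right : Subgroup.zpowers t ≤ _) (Subgroup.mem_zpowers t)
    rw [heq] at this
    exact this
  -- `N_G(A) ≤ N_G(R)`
  have hNAR : Subgroup.normalizer (A : Set G) ≤ Subgroup.normalizer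
      ((A ⊓ Subgroup.centralizer (P : Set G) : Subgroup G) : Set G) := by
    apply le_normalizer_of_conj_mem_137
    intro n hn a ha
    obtain ⟨haA, haP⟩ := Subgroup.mem_inf.mp ha
    have hbA : n * a * n⁻¹ ∈ A := ((Subgroup.mem_normalizer_iff.mp hn) a).mp haA
    refine Subgroup.mem_inf.mpr ⟨hbA, ?_⟩
    rw [Subgroup.mem_centralizer_iff]
    intro x hx
    -- `c = ⁅n, x⁆ ∈ C(S)`
    have hnS : n ∈ Subgroup.normalizer ((S : Subgroup G) : Set G) := hNAS hn
    have hxS : x ∈ Subgroup.normalizer ((S : Subgroup G) : Set G) := hES (hPE hx)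
    have hc : ⁅n, x⁆ ∈ Subgroup.centralizer ((S : Subgroup G) : Set G) :=
      hNNC (Subgroup.commutator_mem_commutator hnS hxS)
    have hcb : (n * a * n⁻¹) * ⁅n, x⁆ = ⁅n, x⁆ * (n * a * n⁻¹) :=
      (Subgroup.mem_centralizer_iff.mp hc) _ (hAS hbA)
    have hax : x * a = a * x := (Subgroup.mem_centralizer_iff.mp haP) x hx
    -- `n x n⁻¹ = c x` commutes with `b = n a n⁻¹`
    have h1 : (n * a * n⁻¹) * (⁅n, x⁆ * x) = (⁅n, x⁆ * x) * (n * a * n⁻¹) := by
      have e1 : ⁅n, x⁆ * x = n * x * n⁻¹ := by rw [commutatorElement_def]; group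
      rw [e1]
      calc n * a * n⁻¹ * (n * x * n⁻¹) = n * (a * x) * n⁻¹ := by group
        _ = n * (x * a) * n⁻¹ := by rw [hax]
        _ = n * x * n⁻¹ * (n * a * n⁻¹) := by group
    have h2 : ⁅n, x⁆ * ((n * a * n⁻¹) * x) = ⁅n, x⁆ * (x * (n * a * n⁻¹)) := by
      calc ⁅n, x⁆ * ((n * a * n⁻¹) * x) = ((n * a * n⁻¹) * ⁅n, x⁆) * x := by
            rw [hcb, mul_assoc ⁅n, x⁆ (n * a * n⁻¹) x]
        _ = (n * a * n⁻¹) * (⁅n, x⁆ * x) := by rw [mul_assoc (n * a * n⁻¹) ⁅n, x⁆ x]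
        _ = (⁅n, x⁆ * x) * (n * a * n⁻¹) := h1
        _ = ⁅n, x⁆ * (x * (n * a * n⁻¹)) := by rw [mul_assoc ⁅n, x⁆ x (n * a * n⁻¹)]
    exact (mul_left_cancel h2).symm
  exact hNM (hNAR.trans hNR)

end Cfsg.Agent.Lib.Helper75.BG137
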