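import Mathlib
import Cfsg.Agent.S1417
import Cfsg.Agent.S1418
import Cfsg.Agent.S1428
import Cfsg.Agent.Lib.Helper78.BG128

/-!
# BG Lemma 13.7 (`tau12_regular`): the first steps of the counterexample configuration (both cases)

`p ∈ τ₁(M)`, `P ≤ E` of order `p`, `q ∈ τ₂(M)`, `A ≤ E` elementary abelian of order `q ^ 2`, `R := C_A(P) ≠ 1`
and `C := C_{M_σ}(P) ≠ 1`.  Then `|R| = q`, `C ≤ C_{M_σ}(R) ≠ 1`, `M` is the only maximal subgroup over `C_G(R)`,
and `N_G(R) ≤ M`.
-/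

set_option autoImplicit false
set_option linter.unusedSectionVars false
set_option linter.unusedVariables false

namespace Cfsg.Agent.Lib.Helper75.BG137

open Cfsg

variable {G : Type*} [Group G] [Finite G]

/-- steps (a), (b) of the BG 13.7 counterexample analysis -/
theorem bad_line (hG : IsMinSimpleOddOrder G) {M : Subgroup G} (hM : IsCoatom M)
    {E : Subgroup G} (hE : IsComplIn E (sigmaCore M) M) {p : ℕ} (hp : p ∈ tau1 M)
    {P : Subgroup G} (hPE : P ≤ E) (hP : Nat.card P = p) {q : ℕ} [Fact q.Prime] (hq : q ∈ tau2 M)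
    {A : Subgroup G} (hA : A ≤ E ∧ IsElementaryAbelian q A ∧ Nat.card A = q ^ 2)
    (hCA : A ⊓ Subgroup.centralizer (P : Set G) ≠ ⊥)
    (hC : sigmaCore M ⊓ Subgroup.centralizer (P : Set G) ≠ ⊥) :
    Nat.card ↥(A ⊓ Subgroup.centralizer (P : Set G)) = q ∧
      sigmaCore M ⊓ Subgroup.centralizer (P : Set G) ≤
        sigmaCore M ⊓ Subgroup.centralizer ((A ⊓ Subgroup.centralizer (P : Set G) : Subgroup G) : Set G) ∧
      sigmaCore M ⊓ Subgroup.centralizer ((A ⊓ Subgroup.centralizer (P : Set G) : Subgroup G) : Set G) ≠ ⊥ ∧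
      Subgroup.centralizer ((A ⊓ Subgroup.centralizer (P : Set G) : Subgroup G) : Set G) ≤ M ∧
      (∀ L : Subgroup G, IsCoatom L →
        Subgroup.centralizer ((A ⊓ Subgroup.centralizer (P : Set G) : Subgroup G) : Set G) ≤ L → L = M) ∧
      Subgroup.normalizer ((A ⊓ Subgroup.centralizer (P : Set G) : Subgroup G) : Set G) ≤ M := by
  have hqp : q.Prime := Fact.out
  obtain ⟨hAE, hAe, hAc⟩ := hA
  obtain ⟨⟨hEN, hXA⟩, ⟨hCAle, hMN, hNM⟩, h18c⟩ :=
    Cfsg.Agent.S1418.result hG M hM E hE q hq A ⟨hAE, hAe, hAc⟩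
  have hCE : Subgroup.centralizer (A : Set G) ≤ E := by rw [← hMN]; exact hCAle
  obtain ⟨-, -, -, -, -, A₁, hA₁A, hA₁c, hA₁⟩ :=
    Cfsg.Agent.S1417.result hG M hM q hq A ⟨hAE.trans hE.1, hAe, hAc⟩
  have hAp : IsPGroup q A := Cfsg.Agent.Lib.Helper55.isPGroup_of_pow_eq_one hAe.2
  -- `R = C_A(P)` has order `q`
  have hRA : A ⊓ Subgroup.centralizer (P : Set G) ≤ A := inf_le_left
  have hRcard : Nat.card ↥(A ⊓ Subgroup.centralizer (P : Set G)) = q := by
    have hdvd : Nat.card ↥(A ⊓ Subgroup.centralizer (P : Set G)) ∣ q ^ 2 := by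
      rw [← hAc]; exact Subgroup.card_dvd_of_le hRA
    obtain ⟨m, hm, hRm⟩ := (Nat.dvd_prime_pow hqp).mp hdvd
    interval_cases m
    · exfalso
      exact hCA (Subgroup.card_eq_one.mp (by simpa using hRm))
    · simpa using hRm
    · exfalso
      have hRe : A ⊓ Subgroup.centralizer (P : Set G) = A :=
        Subgroup.eq_of_le_of_card_ge hRA (by rw [hRm, hAc])
      have hAP : A ≤ Subgroup.centralizer (P : Set G) := by
        rw [← hRe]; exact inf_le_right
      have h28 := Cfsg.Agent.S1428.result hG M hM E hE p hp P hPE hP A₁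
        (le_inf (hA₁A.trans hAE) (hA₁A.trans hAP)) (by rw [hA₁c]; exact hqp)
      rw [hA₁] at h28
      exact hC (le_bot_iff.mp h28)
  -- `R` is a bad line
  have h28 := Cfsg.Agent.S1428.result hG M hM E hE p hp P hPE hP
    (A ⊓ Subgroup.centralizer (P : Set G)) (le_inf (hRA.trans hAE) inf_le_right)
    (by rw [hRcard]; exact hqp)
  have hRbad : sigmaCore M ⊓ Subgroup.centralizer
      ((A ⊓ Subgroup.centralizer (P : Set G) : Subgroup G) : Set G) ≠ ⊥ := by
    intro h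
    rw [h] at h28
    exact hC (le_bot_iff.mp h28)
  obtain ⟨hCRM, hCRuniq⟩ := h18c _ hRA hRcard hRbad
  -- `N_G(R) ≤ M`
  have hNR : Subgroup.normalizer
      ((A ⊓ Subgroup.centralizer (P : Set G) : Subgroup G) : Set G) ≤ M := by
    have hRp : IsPGroup q ↥(A ⊓ Subgroup.centralizer (P : Set G)) := hAp.to_le hRA
    have hRtop : A ⊓ Subgroup.centralizer (P : Set G) ≠ ⊤ :=
      Cfsg.Agent.Lib.Helper55.ms_pgroup_ne_top hG hRp
    obtain ⟨L', hL', hNL'⟩ := Cfsg.Agent.Lib.Helper55.ms_exists_coatom_ge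
      (Cfsg.Agent.Lib.Helper55.ms_normalizer_ne_top hG hCA hRtop)
    have hLM : L' = M := hCRuniq L' hL' ((Subgroup.centralizer_le_normalizer _).trans hNL')
    rw [← hLM]; exact hNL'
  exact ⟨hRcard, h28, hRbad, hCRM, hCRuniq, hNR⟩

end Cfsg.Agent.Lib.Helper75.BG137
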