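import Mathlib
import Cfsg.Agent.Lib.Helper31.BG137Defs
import Cfsg.Agent.Lib.Helper75.BG137C

/-!
# K-137N-A (keystone 137701): `Cfg.basic`, steps (a), (b) of the BG 13.7 counterexample analysis
-/

set_option autoImplicit false

namespace Cfsg.Agent.Lib.Helper75.BG137

open Cfsg Cfsg.Agent.Lib.Helper55 Cfsg.Agent.Lib.Helper31.BG137 Cfsg.Agent.Lib.Helper15.BG139

variable {G : Type*} [Group G] [Finite G]

/-- KEYSTONE 137701  K-137N-A -/
theorem Cfg.basic {M E P A : Subgroup G} {p q : ℕ} (c : Cfg M E P A p q) :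
    Nat.card ↥(A ⊓ Subgroup.centralizer (P : Set G)) = q ∧
    sigmaCore M ⊓ Subgroup.centralizer ((A ⊓ Subgroup.centralizer (P : Set G) : Subgroup G) : Set G) ≠ ⊥ ∧
    (Subgroup.centralizer ((A ⊓ Subgroup.centralizer (P : Set G) : Subgroup G) : Set G) ≤ M ∧
      ∀ L : Subgroup G, IsCoatom L →
        Subgroup.centralizer ((A ⊓ Subgroup.centralizer (P : Set G) : Subgroup G) : Set G) ≤ L → L = M) ∧
    Subgroup.normalizer ((A ⊓ Subgroup.centralizer (P : Set G) : Subgroup G) : Set G) ≤ M := by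
  haveI : Fact q.Prime := ⟨c.hq.1⟩
  obtain ⟨h1, -, h3, h4, h5, h6⟩ :=
    bad_line c.hG c.hM c.hE c.hp c.hPE c.hP c.hq ⟨c.hAE, c.hAe, c.hAc⟩ c.hCA c.hC
  exact ⟨h1, h3, ⟨h4, h5⟩, h6⟩

end Cfsg.Agent.Lib.Helper75.BG137
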