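import Mathlib
import Cfsg.Agent.Lib.Helper31.BG137Defs
import Cfsg.Agent.Lib.Helper91.BG125e
import Cfsg.Agent.Lib.Helper13.BG127
import Cfsg.Agent.S1408
import Cfsg.Agent.S1414
import Cfsg.Agent.S1418

/-!
# K-137N-E (keystone 137706): `LCfg.not_sigma`, step (f) of the BG 13.7 nonabelian case: `p ∉ σ(L)`
-/

set_option autoImplicit false
set_option linter.unusedSectionVars false

namespace Cfsg.Agent.Lib.Helper75.BG137

open Cfsg Cfsg.Agent.Lib.Helper55 Cfsg.Agent.Lib.Helper31.BG137 Cfsg.Agent.Lib.Helper15.BG139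

variable {G : Type*} [Group G] [Finite G]

/-- `q` is not an ideal prime, hence `q ∉ β(L)` for every `L` -/
theorem LCfg.not_ideal {M E P A L : Subgroup G} {p q : ℕ} (l : LCfg M E P A L p q) :
    ¬ IsIdealPrime q G := by
  haveI : Fact q.Prime := ⟨l.c.hq.1⟩
  exact (Cfsg.Agent.S1408.result l.c.hG M l.c.hM q l.c.hq.2.1 l.c.hq.2.2.1 l.c.hq.2.2.2).1

theorem LCfg.p_ne_q {M E P A L : Subgroup G} {p q : ℕ} (l : LCfg M E P A L p q) : p ≠ q := by
  intro h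
  exact l.c.hq.2.2.2 (h ▸ l.c.hp.2.2.2.2)

theorem LCfg.q_dvd_card_L {M E P A L : Subgroup G} {p q : ℕ} (l : LCfg M E P A L p q) :
    q ∣ Nat.card L := by
  have h1 : Nat.card A ∣ Nat.card L := Subgroup.card_dvd_of_le (l.c.hAE.trans l.hEL)
  rw [l.c.hAc] at h1
  exact (dvd_pow_self q (by norm_num)).trans h1

/-- the core of steps (f) and (h): if `P` and `A` lie in a subgroup `K ≤ L` with a normal `q`-complement,
then `A ≤ C(P)` -/
theorem LCfg.le_centralizer_of_normal_complement {M E P A L : Subgroup G} {p q : ℕ}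
    (l : LCfg M E P A L p q) {K : Subgroup G} (hc : HasNormalPComplement q ↥K) (hPK : P ≤ K)
    (hAK : A ≤ K) : A ≤ Subgroup.centralizer (P : Set G) := by
  haveI : Fact q.Prime := ⟨l.c.hq.1⟩
  haveI : Fact p.Prime := ⟨l.c.hp.1⟩
  have hEN : E ≤ Subgroup.normalizer (A : Set G) :=
    (Cfsg.Agent.S1418.result l.c.hG M l.c.hM E l.c.hE q l.c.hq A ⟨l.c.hAE, l.c.hAe, l.c.hAc⟩).1.1
  intro b hb
  rw [Subgroup.mem_centralizer_iff]
  intro x hx
  have hxN : x ∈ Subgroup.normalizer (A : Set G) := hEN (l.c.hPE hx)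
  have hxbx : x * b * x⁻¹ ∈ A := (Subgroup.mem_normalizer_iff.mp hxN b).mp hb
  have hcomm : x * b * x⁻¹ * b⁻¹ ∈ A := A.mul_mem hxbx (A.inv_mem hb)
  have hq1 : (x * b * x⁻¹ * b⁻¹) ^ q = 1 := l.c.hAe.2 _ hcomm
  have hxp : x ^ p ^ 1 = 1 := by
    rw [pow_one]
    have := pow_card_eq_one' (G := P) (x := ⟨x, hx⟩)
    rw [l.c.hP] at this
    exact congrArg Subtype.val this
  have key := Cfsg.Agent.Lib.Helper13.BG127.commute_of_normal_complement (K := ↥K) (LCfg.p_ne_q l) hc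
    (x := ⟨x, hPK hx⟩) (b := ⟨b, hAK hb⟩) ⟨1, Subtype.ext hxp⟩ (Subtype.ext hq1)
  exact congrArg Subtype.val key

/-- KEYSTONE 137706  K-137N-E  (step (f)).  `p ∉ σ(L)`. -/
theorem LCfg.not_sigma {M E P A L : Subgroup G} {p q : ℕ} (l : LCfg M E P A L p q)
    (hAP : ¬ A ≤ Subgroup.centralizer (P : Set G)) : p ∉ sigma L := by
  intro hpL
  haveI : Fact q.Prime := ⟨l.c.hq.1⟩
  haveI : Fact p.Prime := ⟨l.c.hp.1⟩
  have hqβ : q ∉ beta L := fun h => LCfg.not_ideal l h.2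
  obtain ⟨-, hc, -⟩ :=
    (Cfsg.Agent.S1414.result l.c.hG L l.hL).2.2.2.2 q l.c.hq.1 (LCfg.q_dvd_card_L l) hqβ
  have hPp : IsPGroup p P := IsPGroup.of_card (n := 1) (by rw [l.c.hP, pow_one])
  have hAq : IsPGroup q A := IsPGroup.of_card l.c.hAc
  have hPσ : P ≤ sigmaCore L :=
    Cfsg.Agent.Lib.Helper91.BG125.le_sigmaCore_of_mem_sigma l.c.hG l.hL hpL hPp
      (l.c.hPE.trans l.hEL)
  have hAσ : A ≤ sigmaCore L :=
    Cfsg.Agent.Lib.Helper91.BG125.le_sigmaCore_of_mem_sigma l.c.hG l.hL l.hqL hAq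
      (l.c.hAE.trans l.hEL)
  exact hAP (LCfg.le_centralizer_of_normal_complement l hc hPσ hAσ)

end Cfsg.Agent.Lib.Helper75.BG137
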