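import Mathlib
import Cfsg.Agent.Lib.Helper11.BG144Defs
import Cfsg.Agent.Lib.Helper71.BG11a
import Cfsg.Agent.Lib.Helper55.Uniq2
import Cfsg.Agent.S1404

/-!
# K-144-A (keystone 137402, parallel hand): `exists_cent_conj : HQ G → HA G`
(BG 14.4: `C_G(x)` is transitive on the conjugates of `M` through `x ∈ M_σ - 1`)
-/

set_option autoImplicit false
set_option linter.unusedSectionVars false
set_option linter.unusedVariables false

namespace Cfsg.Agent.Lib.Helper75.BG144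

open Cfsg Subgroup Cfsg.Agent.Lib.Helper11.BG144

variable {G : Type*} [Group G] [Finite G]

theorem mem_cj_iff (g : G) (M : Subgroup G) (y : G) : y ∈ cj g M ↔ g⁻¹ * y * g ∈ M := by
  constructor
  · rintro ⟨z, hz, rfl⟩
    have : g⁻¹ * (MulAut.conj g).toMonoidHom z * g = z := by
      show g⁻¹ * (g * z * g⁻¹) * g = z
      group
    rw [this]; exact hz
  · intro h
    refine ⟨g⁻¹ * y * g, h, ?_⟩
    show g * (g⁻¹ * y * g) * g⁻¹ = y
    group

theorem cj_mul_of_mem {M : Subgroup G} (c m : G) (hm : m ∈ M) : cj (c * m) M = cj c M := by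
  ext y
  rw [mem_cj_iff, mem_cj_iff]
  have e : (c * m)⁻¹ * y * (c * m) = m⁻¹ * (c⁻¹ * y * c) * m := by group
  rw [e]
  constructor
  · intro h
    have : c⁻¹ * y * c = m * (m⁻¹ * (c⁻¹ * y * c) * m) * m⁻¹ := by group
    rw [this]
    exact M.mul_mem (M.mul_mem hm h) (M.inv_mem hm)
  · intro h
    exact M.mul_mem (M.mul_mem (M.inv_mem hm) h) hm

/-- K-144-A (137402). -/
theorem exists_cent_conj (hG : IsMinSimpleOddOrder G) (hQ : HQ G) : HA G := by
  intro M hM x hx hx1 g hxg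
  have hσM : sigmaCore M ≤ M := Cfsg.Agent.Lib.Helper71.BG11.sigmaCore_le M
  have hxM : x ∈ M := hσM hx
  -- a prime divisor of the order of `x`
  have hox : orderOf x ≠ 1 := fun h => hx1 (orderOf_eq_one_iff.mp h)
  obtain ⟨p, hp, hpx⟩ := Nat.exists_prime_and_dvd hox
  haveI : Fact p.Prime := ⟨hp⟩
  have hpσ : p ∈ sigma M := by
    apply Cfsg.Agent.Lib.Helper71.BG11.sigmaCore_pi hG hM hp
    have h1 : orderOf x ∣ Nat.card (sigmaCore M) := Subgroup.orderOf_dvd_natCard _ hx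
    exact hpx.trans h1
  -- `X ≤ ⟨x⟩` of order `p`
  obtain ⟨k, hk⟩ := hpx
  set z : G := x ^ k with hz
  have hzo : orderOf z = p := by
    have hk0 : k ≠ 0 := by
      rintro rfl
      rw [mul_zero] at hk
      exact (orderOf_pos x).ne' hk
    have h1 : orderOf (x ^ k) = orderOf x / Nat.gcd (orderOf x) k := orderOf_pow x
    rw [hz, h1, hk, Nat.gcd_mul_left_left, Nat.mul_div_cancel _ (Nat.pos_of_ne_zero hk0)]
  set X : Subgroup G := Subgroup.zpowers z with hX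
  have hXc : Nat.card X = p := by rw [hX, Nat.card_zpowers, hzo]
  have hXp : IsPGroup p X := IsPGroup.of_card (n := 1) (by rw [hXc, pow_one])
  have hX1 : X ≠ ⊥ := by
    intro h
    rw [h, Subgroup.card_bot] at hXc
    exact hp.one_lt.ne hXc
  have hzM : z ∈ M := M.pow_mem hxM k
  have hXM : X ≤ M := by rw [hX, Subgroup.zpowers_le]; exact hzM
  -- `x` centralizes `X`
  have hxCX : x ∈ centralizer (X : Set G) := by
    rw [mem_centralizer_iff]
    intro y hy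
    obtain ⟨n, rfl⟩ := Subgroup.mem_zpowers_iff.mp hy
    have hc : Commute x z := (Commute.refl x).pow_right k
    exact ((hc.zpow_right n).eq).symm
  have hCXx : centralizer ({x} : Set G) ≤ centralizer ({x} : Set G) := le_rfl
  -- `g⁻¹ X g ≤ M`
  have hgx : g⁻¹ * x * g ∈ M := (mem_cj_iff g M x).mp hxg
  have hXg : X.map (MulAut.conj g⁻¹).toMonoidHom ≤ M := by
    rintro _ ⟨y, hy, rfl⟩
    obtain ⟨n, rfl⟩ := Subgroup.mem_zpowers_iff.mp hy
    show g⁻¹ * z ^ n * g⁻¹⁻¹ ∈ M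
    rw [inv_inv]
    have e : g⁻¹ * z ^ n * g = (g⁻¹ * x * g) ^ ((k : ℤ) * n) := by
      have h1 : g⁻¹ * x * g = (MulAut.conj g⁻¹) x := by simp [MulAut.conj_apply]
      have h2 : g⁻¹ * z ^ n * g = (MulAut.conj g⁻¹) (z ^ n) := by simp [MulAut.conj_apply]
      rw [h1, h2, ← map_zpow, hz, zpow_mul, zpow_natCast]
    rw [e]
    exact M.zpow_mem hgx _
  obtain ⟨m, hm, c, hc, hgmc⟩ :=
    (Cfsg.Agent.S1404.result hG M hM p hpσ X hXp hX1 hXM).1 g⁻¹ hXg
  -- `g = c⁻¹ * m⁻¹`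
  have hg : g = c⁻¹ * m⁻¹ := by
    have : g = (g⁻¹)⁻¹ := (inv_inv g).symm
    rw [this, hgmc, mul_inv_rev]
  have hcj : cj g M = cj c⁻¹ M := by
    rw [hg]; exact cj_mul_of_mem c⁻¹ m⁻¹ (M.inv_mem hm)
  have hc' : c⁻¹ ∈ centralizer (X : Set G) := (centralizer _).inv_mem hc
  by_cases hCM : centralizer (X : Set G) ≤ M
  · -- `M^g = M`
    refine ⟨1, Subgroup.one_mem _, ?_⟩
    rw [hcj]
    have h1 : cj c⁻¹ M = cj (1 * c⁻¹) M := by rw [one_mul]
    rw [h1, cj_mul_of_mem 1 c⁻¹ (hCM hc')]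
  · -- a maximal subgroup over `N_G(X)`
    have hXtop : X ≠ ⊤ := Cfsg.Agent.Lib.Helper55.ms_pgroup_ne_top hG hXp
    obtain ⟨N, hN, hNX⟩ := Cfsg.Agent.Lib.Helper55.ms_exists_coatom_ge
      (Cfsg.Agent.Lib.Helper55.ms_normalizer_ne_top hG hX1 hXtop)
    have hCN : centralizer (X : Set G) ≤ N := (Subgroup.centralizer_le_normalizer _).trans hNX
    have hNM : N ≠ M := by
      rintro rfl
      exact hCM hCN
    obtain ⟨-, -, hbot, hcompl, -⟩ := hQ M hM p hp hpσ X hXp hX1 hXM N hN hNM hNX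
    -- decompose `c = e * a`, so `c⁻¹ = a⁻¹ * e⁻¹`
    obtain ⟨e, he, a, ha, hcea⟩ := hcompl.2.2.2 c (hCN hc)
    have heM : e ∈ M := (mem_inf.mp he).1
    have hcj2 : cj g M = cj a⁻¹ M := by
      rw [hcj, hcea, mul_inv_rev]
      exact cj_mul_of_mem a⁻¹ e⁻¹ (M.inv_mem heM)
    have haσ : a⁻¹ ∈ sigmaCore N := (sigmaCore N).inv_mem ha
    have hxN : x ∈ N := hCN hxCX
    -- `w = a x a⁻¹ x⁻¹ ∈ N_σ ∩ M`
    have hw1 : a * x * a⁻¹ ∈ M := by
      have := (mem_cj_iff a⁻¹ M x).mp (hcj2 ▸ hxg)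
      rwa [inv_inv] at this
    have hNn : N ≤ normalizer (sigmaCore N : Set G) :=
      Cfsg.Agent.Lib.Helper71.BG11.le_normalizer_sigmaCore N
    have hw2 : x * a⁻¹ * x⁻¹ ∈ sigmaCore N :=
      (mem_normalizer_iff.mp (hNn hxN) a⁻¹).mp haσ
    have hw : a * x * a⁻¹ * x⁻¹ ∈ sigmaCore N ⊓ M := by
      refine mem_inf.mpr ⟨?_, M.mul_mem hw1 (M.inv_mem hxM)⟩
      have : a * x * a⁻¹ * x⁻¹ = a * (x * a⁻¹ * x⁻¹) := by group
      rw [this]
      exact (sigmaCore N).mul_mem ha hw2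
    rw [hbot, mem_bot] at hw
    refine ⟨a⁻¹, ?_, hcj2.symm⟩
    rw [mem_centralizer_iff]
    intro y hy
    rw [Set.mem_singleton_iff.mp hy]
    -- `x * a⁻¹ = a⁻¹ * x`
    have h1 : a * x = x * a := by
      have : a * x = (a * x * a⁻¹ * x⁻¹) * (x * a) := by group
      rw [this, hw, one_mul]
    calc x * a⁻¹ = a⁻¹ * (a * x) * a⁻¹ := by group
      _ = a⁻¹ * (x * a) * a⁻¹ := by rw [h1]
      _ = a⁻¹ * x := by group

end Cfsg.Agent.Lib.Helper75.BG144
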