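import Mathlib

/-!
# K-1370-P (keystone 137001): commuting coprime parts are unique
-/

set_option autoImplicit false

namespace Cfsg.Agent.Lib.Helper75.BG14D

/-- the `m`-part of a product of commuting elements of coprime exponents -/
theorem pow_crt_eq {G : Type*} [Group G] {a b : G} {m n : ℕ} (hmn : m.Coprime n)
    (ha : a ^ m = 1) (hb : b ^ n = 1) (hab : a * b = b * a) :
    (a * b) ^ ((Nat.chineseRemainder hmn 1 0 : ℕ)) = a := by
  have he := (Nat.chineseRemainder hmn 1 0).2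
  have hc : Commute a b := hab
  rw [hc.mul_pow]
  have h1 : a ^ ((Nat.chineseRemainder hmn 1 0 : ℕ)) = a ^ 1 := by
    rw [pow_eq_pow_iff_modEq]
    exact he.1.of_dvd (orderOf_dvd_of_pow_eq_one ha)
  have h2 : b ^ ((Nat.chineseRemainder hmn 1 0 : ℕ)) = b ^ 0 := by
    rw [pow_eq_pow_iff_modEq]
    exact he.2.of_dvd (orderOf_dvd_of_pow_eq_one hb)
  rw [h1, h2, pow_one, pow_zero, mul_one]

/-- K-1370-P (137001).  PURE GROUP THEORY. -/
theorem eq_of_mul_eq_mul_of_coprime {G : Type*} [Group G] {a b a' b' : G} {m n : ℕ} (hmn : m.Coprime n)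
    (ha : a ^ m = 1) (ha' : a' ^ m = 1) (hb : b ^ n = 1) (hb' : b' ^ n = 1)
    (hab : a * b = b * a) (hab' : a' * b' = b' * a') (h : a * b = a' * b') : a = a' ∧ b = b' := by
  have h1 : a = a' := by
    rw [← pow_crt_eq hmn ha hb hab, ← pow_crt_eq hmn ha' hb' hab', h]
  refine ⟨h1, ?_⟩
  rw [h1] at h
  exact mul_left_cancel h

end Cfsg.Agent.Lib.Helper75.BG14D
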