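import Mathlib
import Cfsg.Agent.Lib.Helper16.BG1363Defs
import Cfsg.Agent.Lib.Helper55.Basic
import Cfsg.Agent.Lib.Helper64.BG1363H
import Cfsg.Agent.Lib.Helper31.BG15KA
import Cfsg.Agent.Lib.Helper31.FittingHall
import Cfsg.Agent.Lib.Helper01.Coprime

/-!
# K-1363-G (keystone 136307, architect helper16): `H_σ ⊓ M ≤ U` (pure orders)
-/

set_option autoImplicit false

namespace Cfsg.Agent.Lib.Helper75.BG1363

open Cfsg Subgroup Cfsg.Agent.Lib.Helper55 Cfsg.Agent.Lib.Helper11.BG14D Cfsg.Agent.Lib.Helper16.BG1363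

variable {G : Type*} [Group G] [Finite G]

theorem NU.inf_le_U (hG : IsMinSimpleOddOrder G) {M K U R H : Subgroup G} {r : ℕ} (c : NU M K U R H r)
    (hp : (Nat.card K).Prime) (hUKH : U ⊔ K ≤ H) (hpH : Nat.card K ∉ sigma H)
    (hbot : sigmaCore H ⊓ sigmaCore M = ⊥) :
    sigmaCore H ⊓ M ≤ U := by
  have hM := c.hM
  have hKU := c.hKU
  have hUM : U ≤ M := hKU.compl.1
  have hUH : U ≤ H := le_sup_left.trans hUKH
  -- `U` normalizes `V := H_σ ⊓ M`
  have hUN : U ≤ normalizer ((sigmaCore H ⊓ M : Subgroup G) : Set G) := by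
    intro u hu
    have h1 : u ∈ normalizer (sigmaCore H : Set G) :=
      Cfsg.Agent.Lib.Helper71.BG11.le_normalizer_sigmaCore H (hUH hu)
    have h2 : u ∈ normalizer (M : Set G) := le_normalizer (hUM hu)
    rw [mem_normalizer_iff] at h1 h2 ⊢
    intro x
    rw [mem_inf, mem_inf, ← h1 x, ← h2 x]
  -- orders
  have hcardM : Nat.card K * Nat.card U * Nat.card (sigmaCore M) = Nat.card M := by
    have e1 := Cfsg.Agent.Lib.Helper31.IsComplIn.card_mul
      (Cfsg.Agent.Lib.Helper31.BG15.isComplIn_sup_of_sigmaDecomposition hG hM hKU)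
    have e2 := Cfsg.Agent.Lib.Helper31.IsComplIn.card_mul
      (Cfsg.Agent.Lib.Helper31.BG15.isComplIn_kappa_of_sigmaDecomposition hKU)
    rw [← e1, ← e2]
  -- `|V|` is coprime to `p` and to `|M_σ|`
  have hVH : (sigmaCore H ⊓ M : Subgroup G) ≤ sigmaCore H := inf_le_left
  have hcop1 : (Nat.card (sigmaCore H ⊓ M : Subgroup G)).Coprime (Nat.card K) := by
    rw [Nat.coprime_comm, hp.coprime_iff_not_dvd]
    intro hd
    exact hpH (Cfsg.Agent.Lib.Helper71.BG11.sigmaCore_pi hG c.hH hp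
      (hd.trans (Subgroup.card_dvd_of_le hVH)))
  have hcop2 : (Nat.card (sigmaCore H ⊓ M : Subgroup G)).Coprime (Nat.card (sigmaCore M)) := by
    apply Nat.coprime_of_dvd
    intro q hq hqV hqS
    have : Fact q.Prime := ⟨hq⟩
    obtain ⟨y, hy⟩ := exists_prime_orderOf_dvd_card' (G := ↥(sigmaCore H ⊓ M : Subgroup G)) q hqV
    have hyo : orderOf (y : G) = q := by rw [Subgroup.orderOf_coe]; exact hy
    have hyM : (y : G) ∈ M := (mem_inf.mp y.2).2
    have hyS : (y : G) ∈ sigmaCore M := by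
      refine Cfsg.Agent.Lib.Helper64.BG1363.mem_sigmaCore_of_orderOf hG hM hyM ?_
      intro p' hp' hpd
      rw [hyo] at hpd
      have : p' = q := (Nat.prime_dvd_prime_iff_eq hp' hq).mp hpd
      rw [this]; exact hqS
    have hy1 : (y : G) ∈ sigmaCore H ⊓ sigmaCore M := mem_inf.mpr ⟨(mem_inf.mp y.2).1, hyS⟩
    rw [hbot, mem_bot] at hy1
    rw [hy1, orderOf_one] at hyo
    exact hq.one_lt.ne' hyo.symm
  -- product formula for `W := U ⊔ V`
  have hprod := Cfsg.Agent.Lib.Helper01.card_sup_mul_card_inf_of_le_normalizer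
    (sigmaCore H ⊓ M : Subgroup G) U hUN
  have hWM : U ⊔ (sigmaCore H ⊓ M : Subgroup G) ≤ M := sup_le hUM inf_le_right
  have hWdvd : Nat.card (U ⊔ (sigmaCore H ⊓ M : Subgroup G) : Subgroup G) ∣ Nat.card M :=
    Subgroup.card_dvd_of_le hWM
  -- `|V| = i * t`
  obtain ⟨t, ht⟩ : Nat.card ((sigmaCore H ⊓ M : Subgroup G) ⊓ U : Subgroup G) ∣
      Nat.card (sigmaCore H ⊓ M : Subgroup G) := Subgroup.card_dvd_of_le inf_le_left
  have hipos : 0 < Nat.card ((sigmaCore H ⊓ M : Subgroup G) ⊓ U : Subgroup G) := Nat.card_pos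
  have hW : Nat.card (U ⊔ (sigmaCore H ⊓ M : Subgroup G) : Subgroup G) = t * Nat.card U := by
    rw [ht] at hprod
    have : Nat.card ((sigmaCore H ⊓ M : Subgroup G) ⊓ U : Subgroup G) *
        Nat.card (U ⊔ (sigmaCore H ⊓ M : Subgroup G) : Subgroup G) =
        Nat.card ((sigmaCore H ⊓ M : Subgroup G) ⊓ U : Subgroup G) * (t * Nat.card U) := by
      rw [mul_comm, hprod]; ring
    exact Nat.eq_of_mul_eq_mul_left hipos this
  have htV : t ∣ Nat.card (sigmaCore H ⊓ M : Subgroup G) := ⟨_, by rw [ht, mul_comm]⟩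
  have hUpos : 0 < Nat.card U := Nat.card_pos
  have ht1 : t = 1 := by
    have h1 : t * Nat.card U ∣ Nat.card K * Nat.card (sigmaCore M) * Nat.card U := by
      rw [← hW]
      have : Nat.card K * Nat.card (sigmaCore M) * Nat.card U = Nat.card M := by
        rw [← hcardM]; ring
      rw [this]; exact hWdvd
    have h2 : t ∣ Nat.card K * Nat.card (sigmaCore M) :=
      Nat.dvd_of_mul_dvd_mul_right hUpos h1
    have h3 : t.Coprime (Nat.card K * Nat.card (sigmaCore M)) :=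
      Nat.Coprime.coprime_dvd_left htV (Nat.Coprime.mul_right hcop1 hcop2)
    exact Nat.Coprime.eq_one_of_dvd h3 h2
  rw [ht1, one_mul] at hW
  have hUW : U = U ⊔ (sigmaCore H ⊓ M : Subgroup G) :=
    Subgroup.eq_of_le_of_card_ge le_sup_left hW.le
  calc (sigmaCore H ⊓ M : Subgroup G) ≤ U ⊔ (sigmaCore H ⊓ M : Subgroup G) := le_sup_right
    _ = U := hUW.symm

end Cfsg.Agent.Lib.Helper75.BG1363
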