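import Mathlib
import Cfsg.Agent.Lib.Helper11.BG144Defs
import Cfsg.Agent.Lib.Helper71.BG11a

/-!
# K-144-E (keystone 137407): `s1375_of`, the assembly of S1375 (BG Theorem 14.4(b),(c)) from the supporting subgroup
-/

set_option autoImplicit false
set_option linter.unusedSectionVars false
set_option linter.unusedVariables false

namespace Cfsg.Agent.Lib.Helper75.BG144

open Cfsg Subgroup Cfsg.Agent.Lib.Helper11.BG144

variable {G : Type*} [Group G] [Finite G]

/-- `κ(N)` and `τ₂(N)` are disjoint: cyclic Sylow subgroups have rank one -/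
theorem not_mem_tau2_of_mem_kappa {N : Subgroup G} {r : ℕ} (hκ : r ∈ kappa N) : r ∉ tau2 N := by
  intro hτ
  have hr : r.Prime := hκ.1
  haveI : Fact r.Prime := ⟨hr⟩
  apply hτ.2.2.2
  intro A hAc hAe
  have hAp : IsPGroup r A := by
    intro a
    refine ⟨1, ?_⟩
    rw [pow_one]
    exact Subtype.ext (hAe a.1 a.2)
  obtain ⟨P, hAP⟩ := hAp.exists_le_sylow
  haveI : IsCyclic ↥(P : Subgroup ↥N) := (hκ.2.2.2 P).1
  haveI : IsCyclic ↥A :=
    isCyclic_of_injective (Subgroup.inclusion hAP) (Subgroup.inclusion_injective hAP)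
  obtain ⟨g, hg⟩ := IsCyclic.exists_generator (α := ↥A)
  have hcard : Nat.card ↥A = orderOf g := (orderOf_eq_card_of_forall_mem_zpowers hg).symm
  have hgr : g ^ r = 1 := Subtype.ext (hAe g.1 g.2)
  rw [hcard, pow_one]
  exact Nat.le_of_dvd hr.pos (orderOf_dvd_of_pow_eq_one hgr)

/-- K-144-E (137407).  S1375 from the supporting subgroup. -/
theorem s1375_of (hG : IsMinSimpleOddOrder G) (hB : HB G) (hC : HC G)
    (M : Subgroup G) (hM : IsCoatom M) (x : G) (hx : x ∈ sigmaCore M) (hx1 : x ≠ 1) (hxM : ¬ centralizer ({x} : Set G) ≤ M) :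
    ∃ N : Subgroup G, (IsCoatom N ∧ centralizer ({x} : Set G) ≤ N) ∧ (∀ L : Subgroup G, IsCoatom L → centralizer ({x} : Set G) ≤ L → L = N) ∧
        sigmaCore N = fittingHallOf N ∧
        centralizer ({x} : Set G) ≤ normalizer ((sigmaCore N ⊓ centralizer ({x} : Set G) : Subgroup G) : Set G) ∧
        IsComplIn (M ⊓ centralizer ({x} : Set G)) (sigmaCore N ⊓ centralizer ({x} : Set G)) (centralizer ({x} : Set G)) ∧
        IsComplIn (M ⊓ N) (sigmaCore N) N ∧
        ∀ K' U' : Subgroup G, IsSigmaDecomposition N K' U' → U' ≠ ⊥ ∧ x ∈ sigmaA N U' ∧ x ∉ sigmaCore N := by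
  obtain ⟨N, hN⟩ := hB M hM x hx hx1 hxM
  have hσM : sigmaCore M ≤ M := Cfsg.Agent.Lib.Helper71.BG11.sigmaCore_le M
  have hxMem : x ∈ M := hσM hx
  have hxC : x ∈ centralizer ({x} : Set G) := by
    rw [mem_centralizer_iff]
    intro h hh
    rw [Set.mem_singleton_iff.mp hh]
  have hxN : x ∈ N := hN.cent_le hxC
  have hNn : N ≤ normalizer (sigmaCore N : Set G) :=
    Cfsg.Agent.Lib.Helper71.BG11.le_normalizer_sigmaCore N
  have hxσN : x ∉ sigmaCore N := by
    intro h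
    have : x ∈ sigmaCore N ⊓ M := mem_inf.mpr ⟨h, hxMem⟩
    rw [hN.inf_bot, mem_bot] at this
    exact hx1 this
  refine ⟨N, ⟨hN.coatom, hN.cent_le⟩, hN.uniq, hC N hN.coatom hN.nilp, ?_, ?_, hN.compl, ?_⟩
  · -- `C(x)` normalizes `N_σ ∩ C(x)`
    intro c hc
    have hcN : c ∈ normalizer (sigmaCore N : Set G) := hNn (hN.cent_le hc)
    rw [mem_normalizer_iff]
    intro y
    constructor
    · intro hy
      obtain ⟨hy1, hy2⟩ := mem_inf.mp hy
      exact mem_inf.mpr ⟨(mem_normalizer_iff.mp hcN y).mp hy1,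
        (centralizer _).mul_mem ((centralizer _).mul_mem hc hy2) ((centralizer _).inv_mem hc)⟩
    · intro hy
      obtain ⟨hy1, hy2⟩ := mem_inf.mp hy
      refine mem_inf.mpr ⟨(mem_normalizer_iff.mp hcN y).mpr hy1, ?_⟩
      have : y = c⁻¹ * (c * y * c⁻¹) * c := by group
      rw [this]
      exact (centralizer _).mul_mem ((centralizer _).mul_mem ((centralizer _).inv_mem hc) hy2) hc
  · -- complement in `C(x)`
    refine ⟨inf_le_right, inf_le_right, ?_, hN.cent_split⟩
    rw [eq_bot_iff]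
    intro y hy
    obtain ⟨hy1, hy2⟩ := mem_inf.mp hy
    have : y ∈ sigmaCore N ⊓ M := mem_inf.mpr ⟨(mem_inf.mp hy2).1, (mem_inf.mp hy1).1⟩
    rw [hN.inf_bot] at this
    exact this
  · intro K' U' hKU
    have hUN : U' ≤ N := hKU.compl.1
    have hKN : K' ≤ N := hKU.hall.1
    have hT := Subgroup.coe_mul_of_left_le_normalizer_right U' (sigmaCore N) (hUN.trans hNn)
    have memT : ∀ t, t ∈ U' ⊔ sigmaCore N ↔ ∃ u ∈ U', ∃ s ∈ sigmaCore N, t = u * s := by
      intro t
      constructor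
      · intro ht
        have ht' : t ∈ ((U' ⊔ sigmaCore N : Subgroup G) : Set G) := ht
        rw [hT] at ht'
        obtain ⟨u, hu, s, hs, rfl⟩ := Set.mem_mul.mp ht'
        exact ⟨u, hu, s, hs, rfl⟩
      · rintro ⟨u, hu, s, hs, rfl⟩
        exact Subgroup.mul_mem_sup hu hs
    have conjU : ∀ k ∈ K', ∀ u ∈ U', k⁻¹ * u * k ∈ U' := by
      intro k hk u hu
      have hk' : k⁻¹ ∈ normalizer (U' : Set G) := hKU.normal (K'.inv_mem hk)
      have := (mem_normalizer_iff.mp hk' u).mp hu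
      rwa [inv_inv] at this
    have conjS : ∀ k ∈ K', ∀ s ∈ sigmaCore N, k⁻¹ * s * k ∈ sigmaCore N := by
      intro k hk s hs
      have hk' : k⁻¹ ∈ normalizer (sigmaCore N : Set G) := hNn (hKN (K'.inv_mem hk))
      have := (mem_normalizer_iff.mp hk' s).mp hs
      rwa [inv_inv] at this
    have conjT : ∀ k ∈ K', ∀ t ∈ U' ⊔ sigmaCore N, k⁻¹ * t * k ∈ U' ⊔ sigmaCore N := by
      intro k hk t ht
      obtain ⟨u, hu, s, hs, rfl⟩ := (memT t).mp ht
      have : k⁻¹ * (u * s) * k = (k⁻¹ * u * k) * (k⁻¹ * s * k) := by group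
      rw [this]
      exact Subgroup.mul_mem_sup (conjU k hk u hu) (conjS k hk s hs)
    -- decompose `x`
    obtain ⟨u, hu, b, hb, hxub⟩ := hKU.compl.2.2.2 x hxN
    have hKS := Subgroup.coe_mul_of_left_le_normalizer_right K' (sigmaCore N) (hKN.trans hNn)
    have hb' : b ∈ ((K' ⊔ sigmaCore N : Subgroup G) : Set G) := hb
    rw [hKS] at hb'
    obtain ⟨k, hk, s, hs, rfl⟩ := Set.mem_mul.mp hb'
    obtain ⟨t, ht, hxkt⟩ : ∃ t ∈ U' ⊔ sigmaCore N, x = k * t := by
      refine ⟨(k⁻¹ * u * k) * s, Subgroup.mul_mem_sup (conjU k hk u hu) hs, ?_⟩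
      rw [hxub]; group
    have hpow : ∀ n : ℕ, ∃ tn ∈ U' ⊔ sigmaCore N, x ^ n = k ^ n * tn := by
      intro n
      induction n with
      | zero => exact ⟨1, Subgroup.one_mem _, by simp⟩
      | succ n ih =>
        obtain ⟨tn, htn, hn⟩ := ih
        refine ⟨(k⁻¹ * tn * k) * t, Subgroup.mul_mem _ (conjT k hk tn htn) ht, ?_⟩
        rw [pow_succ, hn, pow_succ k n]
        conv_lhs => rw [hxkt]
        simp only [mul_assoc, mul_inv_cancel_left]
    obtain ⟨tm, htm, hm⟩ := hpow (orderOf x)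
    rw [pow_orderOf_eq_one] at hm
    have hkm : k ^ orderOf x ∈ U' ⊔ sigmaCore N := by
      have : k ^ orderOf x = tm⁻¹ := eq_inv_of_mul_eq_one_left hm.symm
      rw [this]
      exact Subgroup.inv_mem _ htm
    have hcop : (orderOf x).Coprime (orderOf k) := by
      apply Nat.coprime_of_dvd
      intro r hr hrx hrk
      have h1 : r ∈ tau2 N := hN.tau2 r hr hrx
      have h2 : r ∈ kappa N :=
        hKU.hall.2.1 r hr (hrk.trans (Subgroup.orderOf_dvd_natCard K' hk))
      exact not_mem_tau2_of_mem_kappa h2 h1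
    obtain ⟨j, hj⟩ := exists_pow_eq_self_of_coprime hcop
    have hkT : k ∈ U' ⊔ sigmaCore N := by
      rw [← hj]
      exact Subgroup.pow_mem _ hkm j
    have hxT : x ∈ U' ⊔ sigmaCore N := by
      rw [hxkt]
      exact Subgroup.mul_mem _ hkT ht
    refine ⟨?_, ⟨?_, hxT⟩, hxσN⟩
    · intro h
      rw [h, bot_sup_eq] at hxT
      exact hxσN hxT
    · refine ⟨hxN, ?_⟩
      obtain ⟨y, hy1⟩ := (Subgroup.ne_bot_iff_exists_ne_one).mp hN.R_ne
      obtain ⟨hyσ, hyC⟩ := mem_inf.mp y.2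
      refine ⟨y.1, hyσ, ?_, ?_⟩
      · intro h
        exact hy1 (Subtype.ext h)
      · exact (mem_centralizer_iff.mp hyC) x (Set.mem_singleton x)

end Cfsg.Agent.Lib.Helper75.BG144
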