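import Mathlib

/-!
# S5956 keystone K-Nd-C: the single Jordan block model

On `Fin a → F`: the shift `M` and the form `β x y = ∑ i, (-1)^i * x i * y (Fin.rev i)`.
-/

set_option autoImplicit false

namespace Cfsg.Agent.Lib.Helper75.Nd

open Module

universe u
variable {F : Type u} [Field F]

/-- the shift on `Fin (n+1) → F`: `(shift x) 0 = 0`, `(shift x) (i+1) = x i`. -/
noncomputable def shift (n : ℕ) : (Fin (n + 1) → F) →ₗ[F] (Fin (n + 1) → F) where
  toFun x := Fin.cons 0 (fun i : Fin n => x i.castSucc)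
  map_add' x y := by
    funext j
    refine Fin.cases ?_ (fun i => ?_) j
    · simp
    · simp
  map_smul' c x := by
    funext j
    refine Fin.cases ?_ (fun i => ?_) j
    · simp
    · simp

theorem shift_zero (n : ℕ) (x : Fin (n + 1) → F) : shift n x 0 = 0 := rfl

theorem shift_succ (n : ℕ) (x : Fin (n + 1) → F) (i : Fin n) :
    shift n x i.succ = x i.castSucc := by
  simp [shift]

/-- the block form -/
noncomputable def blockForm (n : ℕ) : LinearMap.BilinForm F (Fin (n + 1) → F) :=
  LinearMap.mk₂ F (fun x y => ∑ i : Fin (n + 1), (-1 : F) ^ (i : ℕ) * x i * y (Fin.rev i))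
    (fun x x' y => by
      simp only [Pi.add_apply, mul_add, add_mul, Finset.sum_add_distrib])
    (fun c x y => by
      simp only [Pi.smul_apply, smul_eq_mul, Finset.mul_sum]
      refine Finset.sum_congr rfl fun i _ => ?_
      ring)
    (fun x y y' => by
      simp only [Pi.add_apply, mul_add, Finset.sum_add_distrib])
    (fun c x y => by
      simp only [Pi.smul_apply, smul_eq_mul, Finset.mul_sum]
      refine Finset.sum_congr rfl fun i _ => ?_
      ring)

theorem blockForm_apply (n : ℕ) (x y : Fin (n + 1) → F) :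
    blockForm n x y = ∑ i : Fin (n + 1), (-1 : F) ^ (i : ℕ) * x i * y (Fin.rev i) := rfl

theorem blockForm_skew (n : ℕ) (x y : Fin (n + 1) → F) :
    blockForm n (shift n x) y = - blockForm n x (shift n y) := by
  rw [blockForm_apply, blockForm_apply, Fin.sum_univ_succ, Fin.sum_univ_castSucc]
  have h0 : shift n y (Fin.rev (Fin.last n)) = 0 := by
    rw [Fin.rev_last]; rfl
  rw [shift_zero, h0, mul_zero, zero_mul, zero_add, mul_zero, add_zero, ← Finset.sum_neg_distrib]
  refine Finset.sum_congr rfl fun i _ => ?_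
  rw [shift_succ, Fin.rev_castSucc, shift_succ, Fin.rev_succ, Fin.val_succ, Fin.val_castSucc,
    pow_succ]
  ring

theorem blockForm_symm (n : ℕ) (x y : Fin (n + 1) → F) :
    blockForm n y x = (-1) ^ (n + 1 + 1) * blockForm n x y := by
  rw [blockForm_apply, blockForm_apply, Finset.mul_sum]
  rw [← Equiv.sum_comp Fin.revPerm]
  refine Finset.sum_congr rfl fun i _ => ?_
  rw [Fin.revPerm_apply, Fin.rev_rev]
  have h1 : ((Fin.rev i : Fin (n + 1)) : ℕ) + (i : ℕ) = n := by
    rw [Fin.val_rev]; omega
  have h2 : (-1 : F) ^ ((Fin.rev i : Fin (n + 1)) : ℕ) = (-1) ^ (n + 1 + 1) * (-1) ^ (i : ℕ) := by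
    have h3 : (-1 : F) ^ (n + 1 + 1) = (-1) ^ ((Fin.rev i : Fin (n + 1)) : ℕ) * (-1) ^ (i : ℕ) := by
      rw [← pow_add, h1, pow_succ, pow_succ]; ring
    rw [h3, mul_assoc, ← pow_add, ← two_mul, pow_mul]
    simp
  rw [h2]
  ring

theorem blockForm_nondeg (n : ℕ) (x : Fin (n + 1) → F) (h : ∀ y, blockForm n x y = 0) : x = 0 := by
  funext i
  have h1 := h (Pi.single (Fin.rev i) 1)
  rw [blockForm_apply, Finset.sum_eq_single i] at h1
  · rw [Pi.single_eq_same, mul_one] at h1
    rcases mul_eq_zero.mp h1 with h2 | h2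
    · exact absurd h2 (pow_ne_zero _ (neg_ne_zero.mpr one_ne_zero))
    · exact h2
  · intro j _ hji
    have : Fin.rev j ≠ Fin.rev i := fun h => hji (Fin.rev_injective h)
    rw [Pi.single_eq_of_ne this, mul_zero]
  · intro hi
    exact absurd (Finset.mem_univ i) hi

/-- the kernel of `shift ^ k` -/
theorem shift_pow_eq_zero_iff (n k : ℕ) (x : Fin (n + 1) → F) :
    (shift n ^ k) x = 0 ↔ ∀ j : Fin (n + 1), (j : ℕ) + k < n + 1 → x j = 0 := by
  induction k generalizing x with
  | zero =>
    rw [pow_zero, Module.End.one_apply]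
    constructor
    · intro h j _; rw [h]; rfl
    · intro h; funext j; exact h j (by simpa using j.2)
  | succ k ih =>
    rw [pow_succ, Module.End.mul_apply, ih]
    constructor
    · intro h i hi
      have hi' : (i : ℕ) < n := by omega
      have h1 := h (⟨i, hi'⟩ : Fin n).succ (by simp; omega)
      rw [shift_succ] at h1
      simpa using h1
    · intro h j hj
      refine Fin.cases ?_ (fun i hi => ?_) j hj
      · intro _; exact shift_zero n x
      · rw [shift_succ]
        apply h
        simp only [Fin.val_succ, Fin.val_castSucc] at hi ⊢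
        omega

theorem shift_pow_top (n : ℕ) : (shift n : (Fin (n + 1) → F) →ₗ[F] _) ^ (n + 1) = 0 := by
  apply LinearMap.ext
  intro x
  rw [LinearMap.zero_apply, shift_pow_eq_zero_iff]
  intro j hj
  omega

theorem finrank_ker_shift_pow (n k : ℕ) :
    finrank F (LinearMap.ker ((shift n : (Fin (n + 1) → F) →ₗ[F] _) ^ k)) = min (n + 1) k := by
  classical
  let S := {j : Fin (n + 1) // (j : ℕ) + k < n + 1}
  let f : (Fin (n + 1) → F) →ₗ[F] (S → F) := LinearMap.funLeft F F (Subtype.val : S → Fin (n + 1))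
  have hker : LinearMap.ker ((shift n : (Fin (n + 1) → F) →ₗ[F] _) ^ k) = LinearMap.ker f := by
    ext x
    rw [LinearMap.mem_ker, LinearMap.mem_ker, shift_pow_eq_zero_iff]
    constructor
    · intro h
      funext s
      exact h s.1 s.2
    · intro h j hj
      exact congrFun h ⟨j, hj⟩
  have hsurj : Function.Surjective f :=
    LinearMap.funLeft_surjective_of_injective F F _ Subtype.val_injective
  have hcard : Fintype.card S = n + 1 - k := by
    have e : S ≃ Fin (n + 1 - k) :=
      { toFun := fun s => ⟨s.1.1, by have := s.2; omega⟩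
        invFun := fun i => ⟨⟨i.1, by have := i.2; omega⟩, by have := i.2; simp only; omega⟩
        left_inv := fun s => rfl
        right_inv := fun i => rfl }
    rw [Fintype.card_congr e, Fintype.card_fin]
  have h1 := LinearMap.finrank_range_add_finrank_ker f
  rw [LinearMap.range_eq_top.mpr hsurj, finrank_top, Module.finrank_fintype_fun_eq_card,
    Module.finrank_fin_fun, hcard] at h1
  rw [hker]
  omega

/-- **K-Nd-C** -/
theorem exists_block_model (a : ℕ) (ha : 0 < a) :
    ∃ (β : LinearMap.BilinForm F (Fin a → F)) (M : (Fin a → F) →ₗ[F] (Fin a → F)),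
      (∀ x y, β (M x) y = - β x (M y)) ∧ (∀ x y, β y x = (-1) ^ (a + 1) * β x y) ∧
      (∀ x, (∀ y, β x y = 0) → x = 0) ∧ M ^ a = 0 ∧
      ∀ k : ℕ, finrank F (LinearMap.ker (M ^ k)) = min a k := by
  obtain ⟨n, rfl⟩ := Nat.exists_eq_succ_of_ne_zero ha.ne'
  exact ⟨blockForm n, shift n, blockForm_skew n, fun x y => blockForm_symm n x y,
    blockForm_nondeg n, shift_pow_top n, finrank_ker_shift_pow n⟩

end Cfsg.Agent.Lib.Helper75.Nd
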