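import Cfsg.Agent.Lib.Helper98.Sy1
import Cfsg.Agent.Lib.Helper75.NdC

/-!
# S5956 keystone K-Nd-D: assembly of the skew model with prescribed Jordan type
-/

set_option autoImplicit false

namespace Cfsg.Agent.Lib.Helper75.Nd

open Module Cfsg.Agent.Lib.Helper98.Sy

universe u
variable {F : Type u} [Field F]

/-- `(V, B, M)` is a skew model of Jordan type `ν` (with `M ^ p = 0`). -/
def IsSkewModel {V : Type u} [AddCommGroup V] [Module F V] (B : LinearMap.BilinForm F V)
    (M : V →ₗ[F] V) (p : ℕ) (ν : Multiset ℕ) : Prop :=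
  B.IsAlt ∧ (∀ x, (∀ y, B x y = 0) → x = 0) ∧ (∀ x y, B (M x) y = - B x (M y)) ∧ M ^ p = 0 ∧
    ∀ k : ℕ, finrank F (LinearMap.ker (M ^ k)) = (ν.map (fun a => min a k)).sum

section Prod

variable {V₁ V₂ : Type u} [AddCommGroup V₁] [Module F V₁] [AddCommGroup V₂] [Module F V₂]

/-- orthogonal direct sum of two bilinear forms -/
noncomputable def prodForm (B₁ : LinearMap.BilinForm F V₁) (B₂ : LinearMap.BilinForm F V₂) :
    LinearMap.BilinForm F (V₁ × V₂) :=
  B₁.compl₁₂ (LinearMap.fst F V₁ V₂) (LinearMap.fst F V₁ V₂) +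
    B₂.compl₁₂ (LinearMap.snd F V₁ V₂) (LinearMap.snd F V₁ V₂)

theorem prodForm_apply (B₁ : LinearMap.BilinForm F V₁) (B₂ : LinearMap.BilinForm F V₂)
    (x y : V₁ × V₂) : prodForm B₁ B₂ x y = B₁ x.1 y.1 + B₂ x.2 y.2 := by
  simp [prodForm]

theorem prodMap_pow' (f : V₁ →ₗ[F] V₁) (g : V₂ →ₗ[F] V₂) (k : ℕ) :
    (f.prodMap g) ^ k = (f ^ k).prodMap (g ^ k) := by
  induction k with
  | zero => rw [pow_zero, pow_zero, pow_zero, LinearMap.prodMap_one]
  | succ k ih => rw [pow_succ, ih, pow_succ, pow_succ, LinearMap.prodMap_mul]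

theorem finrank_ker_prodMap [FiniteDimensional F V₁] [FiniteDimensional F V₂]
    (f : V₁ →ₗ[F] V₁) (g : V₂ →ₗ[F] V₂) :
    finrank F (LinearMap.ker (f.prodMap g)) =
      finrank F (LinearMap.ker f) + finrank F (LinearMap.ker g) := by
  rw [LinearMap.ker_prodMap]
  let e : ↥((LinearMap.ker f).prod (LinearMap.ker g)) ≃ₗ[F]
      (↥(LinearMap.ker f) × ↥(LinearMap.ker g)) :=
    { toFun := fun z => (⟨z.1.1, z.2.1⟩, ⟨z.1.2, z.2.2⟩)
      map_add' := fun z w => rfl
      map_smul' := fun c z => rfl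
      invFun := fun z => ⟨(z.1.1, z.2.1), ⟨z.1.2, z.2.2⟩⟩
      left_inv := fun z => rfl
      right_inv := fun z => rfl }
  rw [e.finrank_eq, Module.finrank_prod]

theorem IsSkewModel.prod [FiniteDimensional F V₁] [FiniteDimensional F V₂]
    {B₁ : LinearMap.BilinForm F V₁} {B₂ : LinearMap.BilinForm F V₂} {M₁ : V₁ →ₗ[F] V₁}
    {M₂ : V₂ →ₗ[F] V₂} {p : ℕ} {ν₁ ν₂ : Multiset ℕ}
    (h₁ : IsSkewModel B₁ M₁ p ν₁) (h₂ : IsSkewModel B₂ M₂ p ν₂) :
    IsSkewModel (prodForm B₁ B₂) (M₁.prodMap M₂) p (ν₁ + ν₂) := by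
  obtain ⟨a1, n1, s1, z1, k1⟩ := h₁
  obtain ⟨a2, n2, s2, z2, k2⟩ := h₂
  refine ⟨?_, ?_, ?_, ?_, ?_⟩
  · intro x
    rw [prodForm_apply, a1, a2, add_zero]
  · intro x hx
    have h1 : x.1 = 0 := n1 _ (fun y => by
      have := hx (y, 0)
      simpa [prodForm_apply] using this)
    have h2' : x.2 = 0 := n2 _ (fun y => by
      have := hx (0, y)
      simpa [prodForm_apply] using this)
    exact Prod.ext h1 h2'
  · intro x y
    simp only [prodForm_apply, LinearMap.prodMap_apply]
    rw [s1, s2]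
    ring
  · rw [prodMap_pow', z1, z2, LinearMap.prodMap_zero]
  · intro k
    rw [prodMap_pow', finrank_ker_prodMap, k1, k2, Multiset.map_add, Multiset.sum_add]

end Prod

/-- the even block -/
theorem isSkewModel_even (h2 : (2 : F) ≠ 0) {a p : ℕ} (ha : 0 < a) (hap : a ≤ p) (hev : Even a) :
    ∃ (β : LinearMap.BilinForm F (Fin a → F)) (M : (Fin a → F) →ₗ[F] (Fin a → F)),
      IsSkewModel β M p (a ::ₘ 0) := by
  obtain ⟨β, M, hs, hsym, hnd, hz, hk⟩ := exists_block_model (F := F) a ha
  refine ⟨β, M, ?_, hnd, hs, ?_, ?_⟩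
  · intro x
    have h := hsym x x
    have h1 : (-1 : F) ^ (a + 1) = -1 := by rw [pow_succ, hev.neg_one_pow, one_mul]
    rw [h1] at h
    have h3 : (2 : F) * β x x = 0 := by
      rw [two_mul]
      nth_rewrite 1 [h]
      ring
    exact (mul_eq_zero.mp h3).resolve_left h2
  · obtain ⟨c, rfl⟩ := Nat.exists_eq_add_of_le hap
    rw [pow_add, hz, zero_mul]
  · intro k
    rw [hk k]
    simp

/-- the pair form on `W × W` -/
noncomputable def pairForm {W : Type u} [AddCommGroup W] [Module F W]
    (β : LinearMap.BilinForm F W) : LinearMap.BilinForm F (W × W) :=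
  β.compl₁₂ (LinearMap.fst F W W) (LinearMap.snd F W W) -
    β.flip.compl₁₂ (LinearMap.snd F W W) (LinearMap.fst F W W)

theorem pairForm_apply {W : Type u} [AddCommGroup W] [Module F W]
    (β : LinearMap.BilinForm F W) (x y : W × W) :
    pairForm β x y = β x.1 y.2 - β y.1 x.2 := by
  simp [pairForm]

/-- the pair block (any `a`) -/
theorem isSkewModel_pair {a p : ℕ} (ha : 0 < a) (hap : a ≤ p) :
    ∃ (B : LinearMap.BilinForm F ((Fin a → F) × (Fin a → F)))
      (M : ((Fin a → F) × (Fin a → F)) →ₗ[F] ((Fin a → F) × (Fin a → F))),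
      IsSkewModel B M p (a ::ₘ a ::ₘ 0) := by
  obtain ⟨β, M, hs, hsym, hnd, hz, hk⟩ := exists_block_model (F := F) a ha
  refine ⟨pairForm β, M.prodMap M, ?_, ?_, ?_, ?_, ?_⟩
  · intro x
    rw [pairForm_apply, sub_self]
  · intro x hx
    have h1 : x.1 = 0 := hnd _ (fun y => by
      have := hx (0, y)
      simpa [pairForm_apply] using this)
    have h2 : x.2 = 0 := by
      apply hnd
      intro y
      have := hx (y, 0)
      have h3 : β y x.2 = 0 := by simpa [pairForm_apply] using this
      rw [hsym y x.2, h3, mul_zero]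
    exact Prod.ext h1 h2
  · intro x y
    simp only [pairForm_apply, LinearMap.prodMap_apply]
    rw [hs x.1 y.2, hs y.1 x.2]
    ring
  · obtain ⟨c, rfl⟩ := Nat.exists_eq_add_of_le hap
    rw [prodMap_pow', pow_add, hz, zero_mul, LinearMap.prodMap_zero]
  · intro k
    rw [prodMap_pow', finrank_ker_prodMap, hk k]
    simp

theorem exists_model_aux (h2 : (2 : F) ≠ 0) (p : ℕ) : ∀ (n : ℕ) (μ : Multiset ℕ), μ.card = n →
    (∀ a ∈ μ, 0 < a ∧ a ≤ p) → (∀ a : ℕ, Odd a → Even (μ.count a)) →
    ∃ (V : Type u) (_ : AddCommGroup V) (_ : Module F V) (_ : FiniteDimensional F V)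
      (B : LinearMap.BilinForm F V) (M : V →ₗ[F] V), IsSkewModel B M p μ := by
  intro n
  induction n using Nat.strong_induction_on with
  | _ n ih =>
    intro μ hcard hμ1 hμ2
    by_cases h0 : μ = 0
    · subst h0
      refine ⟨PUnit, inferInstance, inferInstance, inferInstance, 0, 0, ?_⟩
      refine ⟨fun x => rfl, fun x _ => Subsingleton.elim _ _, fun x y => by simp, ?_, ?_⟩
      · exact LinearMap.ext fun x => Subsingleton.elim _ _
      · intro k
        have : Subsingleton ↥(LinearMap.ker ((0 : PUnit.{u+1} →ₗ[F] PUnit.{u+1}) ^ k)) :=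
          ⟨fun x y => Subtype.ext (Subsingleton.elim _ _)⟩
        rw [Module.finrank_zero_of_subsingleton]
        simp
    · obtain ⟨a, ha⟩ := Multiset.exists_mem_of_ne_zero h0
      obtain ⟨hapos, hap⟩ := hμ1 a ha
      rcases Nat.even_or_odd a with hev | hodd
      · -- an even part
        have hcons : a ::ₘ μ.erase a = μ := Multiset.cons_erase ha
        have hc' : (μ.erase a).card < n := by
          rw [← hcard, ← hcons, Multiset.card_cons, hcons]
          omega
        obtain ⟨V, i1, i2, i3, B, M, hm⟩ := ih _ hc' (μ.erase a) rfl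
          (fun b hb => hμ1 b (Multiset.mem_of_mem_erase hb))
          (fun b hb => by
            have hne : b ≠ a := by
              rintro rfl
              exact (Nat.not_even_iff_odd.mpr hb) hev
            rw [Multiset.count_erase_of_ne hne]
            exact hμ2 b hb)
        obtain ⟨β, Mβ, hβ⟩ := isSkewModel_even h2 hapos hap hev
        refine ⟨(Fin a → F) × V, inferInstance, inferInstance, inferInstance, prodForm β B,
          Mβ.prodMap M, ?_⟩
        have := hβ.prod hm
        have he : (a ::ₘ (0 : Multiset ℕ)) + μ.erase a = μ := by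
          rw [Multiset.cons_add, zero_add, hcons]
        rwa [he] at this
      · -- an odd part, occurring at least twice
        have hc2 : 2 ≤ μ.count a := by
          have h1 := Multiset.count_pos.mpr ha
          rcases hμ2 a hodd with ⟨c, hc⟩
          omega
        have ha' : a ∈ μ.erase a := by
          rw [← Multiset.count_pos, Multiset.count_erase_self]
          omega
        have hcons : a ::ₘ a ::ₘ (μ.erase a).erase a = μ := by
          rw [Multiset.cons_erase ha', Multiset.cons_erase ha]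
        have hc' : ((μ.erase a).erase a).card < n := by
          have h1 : μ.card = ((μ.erase a).erase a).card + 1 + 1 := by
            conv_lhs => rw [← hcons]
            rw [Multiset.card_cons, Multiset.card_cons]
          omega
        obtain ⟨V, i1, i2, i3, B, M, hm⟩ := ih _ hc' ((μ.erase a).erase a) rfl
          (fun b hb => hμ1 b (Multiset.mem_of_mem_erase (Multiset.mem_of_mem_erase hb)))
          (fun b hb => by
            by_cases hba : b = a
            · subst hba
              rw [Multiset.count_erase_self, Multiset.count_erase_self]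
              rcases hμ2 b hb with ⟨c, hc⟩
              exact ⟨c - 1, by omega⟩
            · rw [Multiset.count_erase_of_ne hba, Multiset.count_erase_of_ne hba]
              exact hμ2 b hb)
        obtain ⟨β, Mβ, hβ⟩ := isSkewModel_pair (F := F) hapos hap
        refine ⟨((Fin a → F) × (Fin a → F)) × V, inferInstance, inferInstance, inferInstance,
          prodForm β B, Mβ.prodMap M, ?_⟩
        have := hβ.prod hm
        have he : (a ::ₘ a ::ₘ (0 : Multiset ℕ)) + (μ.erase a).erase a = μ := by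
          rw [Multiset.cons_add, Multiset.cons_add, zero_add, hcons]
        rwa [he] at this

/-- **K-Nd-D** -/
theorem exists_skew_model {p : ℕ} (h2 : (2 : F) ≠ 0) (μ : Multiset ℕ)
    (hμ1 : ∀ a ∈ μ, 0 < a ∧ a ≤ p) (hμ2 : ∀ a : ℕ, Odd a → Even (μ.count a)) :
    ∃ (V : Type u) (_ : AddCommGroup V) (_ : Module F V) (_ : FiniteDimensional F V)
      (B : LinearMap.BilinForm F V) (M : V →ₗ[F] V),
      B.IsAlt ∧ NonDeg B ⊤ ∧ (∀ x y, B (M x) y = - B x (M y)) ∧ M ^ p = 0 ∧
      ∀ k : ℕ, finrank F (LinearMap.ker (M ^ k)) = (μ.map (fun a => min a k)).sum := by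
  obtain ⟨V, i1, i2, i3, B, M, hA, hnd, hs, hz, hk⟩ :=
    exists_model_aux h2 p μ.card μ rfl hμ1 hμ2
  exact ⟨V, i1, i2, i3, B, M, hA, fun u _ h => hnd u (fun v => h v Submodule.mem_top), hs, hz, hk⟩

end Cfsg.Agent.Lib.Helper75.Nd
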