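import Cfsg.Agent.Lib.Helper19.S2716T

/-!
# K-S2717-V3: a similarity with multiplier `ν²` and determinant `ν ^ dim` induces an element of `PSO`
-/

set_option autoImplicit false

namespace Cfsg.Agent.Lib.Helper75.S2717K

open Module Matrix Cfsg.Agent.Lib.Helper08 Cfsg.Agent.Lib.Helper51.POAut

universe u

variable {F : Type u} [Field F] [Fintype F] {ι : Type} [Fintype ι] [DecidableEq ι]
variable (Q : QuadraticForm F (ι → F))

/-- K-S2717-V3 (generic): a similarity with multiplier `ν²` and determinant `ν ^ dim` induces an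
element of `PSO`. -/
theorem autPO_mem_psoAut_of_sq (t : ↥(Cfsg.Geo.quadSimilarityGroup (F := F) ⇑Q)) (ν : F)
    (hν : ν ≠ 0)
    (hμ : ∀ v, Q (((t : GL ι F) : Matrix ι ι F) *ᵥ v) = ν ^ 2 * Q v)
    (hdet : ((t : GL ι F) : Matrix ι ι F).det = ν ^ Fintype.card ι) :
    autPO ⇑Q t ∈ Cfsg.psoAut F ⇑Q := by
  set D : Fˣ := Units.mk0 ν hν with hD
  set sGL : GL ι F := Cfsg.Agent.Lib.Helper19.PgoCard.scalGL D⁻¹ * (t : GL ι F) with hsGL
  have hsval : (sGL : Matrix ι ι F) = ν⁻¹ • ((t : GL ι F) : Matrix ι ι F) := by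
    rw [hsGL, Units.val_mul, Cfsg.Agent.Lib.Helper19.PgoCard.scalGL_val, Matrix.smul_mul,
      Matrix.one_mul, Units.val_inv_eq_inv_val, hD, Units.val_mk0]
  have hsiso : sGL ∈ Cfsg.isometryGroup F ⇑Q := by
    rw [Cfsg.Agent.Lib.Helper19.mem_isometryGroup_iff]
    intro v
    rw [hsval, Matrix.smul_mulVec, QuadraticMap.map_smul, hμ, smul_eq_mul]
    field_simp
  set s : ↥(Cfsg.isometryGroup F ⇑Q) := ⟨sGL, hsiso⟩ with hs
  have hsSO : s ∈ Cfsg.specialIsometryGroup F ⇑Q := by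
    rw [mem_SO_iff_det]
    show (sGL : Matrix ι ι F).det = 1
    rw [hsval, Matrix.det_smul, hdet, ← mul_pow, inv_mul_cancel₀ hν, one_pow]
  have htval : ((t : GL ι F) : Matrix ι ι F) =
      ν • (((⟨sGL, isometryGroup_le_similarity (⇑Q) hsiso⟩ :
        ↥(Cfsg.Geo.quadSimilarityGroup (F := F) ⇑Q)) : GL ι F) : Matrix ι ι F) := by
    show ((t : GL ι F) : Matrix ι ι F) = ν • (sGL : Matrix ι ι F)
    rw [hsval, smul_smul, mul_inv_cancel₀ hν, one_smul]
  have heq : autPO ⇑Q t = autO ⇑Q s := by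
    rw [autO_apply]
    exact Cfsg.Agent.Lib.Helper19.S2716K.autPO_eq_of_smul Q _ t ν hν htval
  rw [heq, psoAut_eq]
  exact ⟨s, hsSO, rfl⟩

end Cfsg.Agent.Lib.Helper75.S2717K
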