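import Mathlib
import Cfsg.Agent.S0022
import Cfsg.Agent.Lib.Helper01.ActionSD
import Cfsg.Agent.Lib.Helper30.Generation

/-!
# Coprime actions given as `MulDistribMulAction`: lifting fixed points, quotient action

General lemmas used for the reduction `s4305_of_propB`.
-/

set_option autoImplicit false

namespace Cfsg.Agent.Lib.Helper75.S3Lift

open SemidirectProduct Cfsg.Agent.Lib.Helper01

variable {A G : Type*} [Group A] [Group G] [MulDistribMulAction A G]

/-- The image in the semidirect product of an invariant normal subgroup is normal. -/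
theorem map_inl_normal (N : Subgroup G) [hN : N.Normal]
    (hinv : ∀ (a : A) (n : G), n ∈ N → a • n ∈ N) :
    (N.map (inl : G →* SD A G)).Normal := by
  constructor
  rintro _ ⟨n, hn, rfl⟩ γ
  have hγ : γ = inl γ.left * inr γ.right := by
    ext <;> simp
  have h1 : γ * inl n * γ⁻¹ = inl (γ.left * (γ.right • n) * γ.left⁻¹) := by
    rw [hγ, mul_inv_rev, ← map_inv, ← map_inv]
    have := sd_conj (A := A) (G := G) γ.right n
    calc inl γ.left * inr γ.right * inl n * (inr γ.right⁻¹ * inl γ.left⁻¹)
        = inl γ.left * (inr γ.right * inl n * inr γ.right⁻¹) * inl γ.left⁻¹ := by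
          simp only [mul_assoc]
      _ = _ := by rw [this]; simp
  rw [h1]
  exact ⟨_, hN.conj_mem _ (hinv _ _ hn) _, rfl⟩

/-- Lifting fixed points through an invariant normal subgroup, coprime action, `G` solvable. -/
theorem exists_fixed_in_coset [Finite A] [Finite G] (hcop : (Nat.card A).Coprime (Nat.card G))
    (hsolv : Group.IsSolvable G) (N : Subgroup G) [hN : N.Normal]
    (hinv : ∀ (a : A) (n : G), n ∈ N → a • n ∈ N)
    (g : G) (hg : ∀ a : A, g⁻¹ * a • g ∈ N) :
    ∃ c : G, (∀ a : A, a • c = c) ∧ g⁻¹ * c ∈ N := by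
  have hNn : (N.map (inl : G →* SD A G)).Normal := map_inl_normal N hinv
  have hsK : Group.IsSolvable ((inl : G →* SD A G).range) :=
    Group.isSolvable_of_surjective (f := (inl : G →* SD A G).rangeRestrict)
      (inl : G →* SD A G).rangeRestrict_surjective
  obtain ⟨c', hc', hkc⟩ := Cfsg.Agent.S0022.result (G := SD A G)
    ((inr : A →* SD A G).range) ((inl : G →* SD A G).range)
    (by rw [Subgroup.normalizer_eq_top]; exact le_top)
    (by rw [sd_card_range_inr, sd_card_range_inl]; exact hcop)
    (Or.inr hsK)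
    (N.map (inl : G →* SD A G)) (Subgroup.map_le_range _ _)
    (by rw [Subgroup.normalizer_eq_top]; exact le_top)
    (by rw [Subgroup.normalizer_eq_top]; exact le_top)
    (inl g) ⟨g, rfl⟩
    (by
      rintro _ ⟨a, rfl⟩
      have h1 : (inr a : SD A G) * inl g * (inr a)⁻¹ * (inl g)⁻¹ = inl (a • g * g⁻¹) := by
        rw [← map_inv, sd_conj, ← map_inv, ← map_mul]
      rw [h1]
      refine ⟨_, ?_, rfl⟩
      have := hN.conj_mem _ (hg a) g
      simpa [mul_assoc] using this)
  obtain ⟨⟨c, rfl⟩, hcent⟩ := hc'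
  refine ⟨c, (sd_mem_centralizer_iff c).mp hcent, ?_⟩
  rw [← map_inv, ← map_mul] at hkc
  obtain ⟨n, hn, hne⟩ := hkc
  rw [← inl_injective hne]
  exact hn

/-- A fixed-point-free coprime action on a solvable group stays fixed-point-free on the quotient
by an invariant normal subgroup. -/
theorem quotient_fpf [Finite A] [Finite G] (hcop : (Nat.card A).Coprime (Nat.card G))
    (hsolv : Group.IsSolvable G) (N : Subgroup G) [hN : N.Normal]
    (hinv : ∀ (a : A) (n : G), n ∈ N → a • n ∈ N)
    (hfpf : ∀ g : G, (∀ a : A, a • g = g) → g = 1) :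
    letI := Cfsg.Agent.Lib.Helper30.quotientAction N hinv
    ∀ q : G ⧸ N, (∀ a : A, a • q = q) → q = 1 := by
  intro q hq
  induction q using QuotientGroup.induction_on with
  | H g =>
    have hg : ∀ a : A, g⁻¹ * a • g ∈ N := by
      intro a
      have h1 : ((a • g : G) : G ⧸ N) = (g : G ⧸ N) := hq a
      exact QuotientGroup.eq.mp h1.symm
    obtain ⟨c, hc, hgc⟩ := exists_fixed_in_coset hcop hsolv N hinv g hg
    rw [hfpf c hc, mul_one] at hgc
    rw [QuotientGroup.eq_one_iff]
    exact (Subgroup.inv_mem_iff N).mp hgc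

end Cfsg.Agent.Lib.Helper75.S3Lift
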