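import Mathlib
import Cfsg.Agent.Lib.Helper15.S3Defs
import Cfsg.Agent.Lib.Helper75.S3Lift

/-!
# Reduction of S4305 (Shult: `S₃` acting fixed-point-freely) to `PropB`

`s4305_of_propB`: strong induction on `|G|` with a minimal invariant normal subgroup `V`.
-/

set_option autoImplicit false

namespace Cfsg.Agent.Lib.Helper75.S3Reduce

open Cfsg.Agent.Lib.Helper15.S3
open scoped commutatorElement

section Abstract

/-- `PropB` applied to a group which is only known to be commutative by a hypothesis. -/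
theorem propB_apply.{u} (hB : PropB.{u}) (W : Type u) [Group W] [Finite W]
    (hcomm : ∀ x y : W, x * y = y * x) (t : ℕ) (ht : t.Prime) (ht6 : t.Coprime 6)
    (hW : ∀ v : W, v ^ t = 1) (α : Equiv.Perm (Fin 3) →* MulAut W) (H : Subgroup (MulAut W))
    (hHα : AInv α H) (hsol : Group.IsSolvable H) (hcop : (Nat.card H).Coprime 6)
    (hHfpf : AFpf α H) (hVfpf : ∀ v : W, (∀ g, α g v = v) → v = 1)
    (hOt : ∀ T : Subgroup (MulAut W), T ≤ H → IsPGroup t T →
      H ≤ Subgroup.normalizer (T : Set (MulAut W)) → T = ⊥)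
    (hnil : Group.IsNilpotent ↥⁅H, H⁆) : ∀ x ∈ H, ∀ y ∈ H, x * y = y * x := by
  let _ : CommGroup W := { (inferInstance : Group W) with mul_comm := hcomm }
  exact hB W t ht ht6 hW α H hHα hsol hcop hHfpf hVfpf hOt hnil

/-- A finite group has a largest normal `t`-subgroup below any subgroup `H`
(normal meaning normalized by `H`). -/
theorem exists_largest_normal_pgroup {M : Type*} [Group M] [Finite M] (t : ℕ) [Fact t.Prime]
    (H : Subgroup M) :
    ∃ T0 : Subgroup M, T0 ≤ H ∧ IsPGroup t T0 ∧ H ≤ Subgroup.normalizer (T0 : Set M) ∧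
      ∀ T : Subgroup M, T ≤ H → IsPGroup t T → H ≤ Subgroup.normalizer (T : Set M) → T ≤ T0 := by
  classical
  let S : Set (Subgroup M) :=
    {T | T ≤ H ∧ IsPGroup t T ∧ H ≤ Subgroup.normalizer (T : Set M)}
  have hSne : S.Nonempty := ⟨⊥, bot_le, IsPGroup.of_bot, by
    intro h _; rw [Subgroup.mem_normalizer_iff]; intro x; simp [Subgroup.mem_bot]⟩
  obtain ⟨T0, hT0⟩ := S.toFinite.exists_maximal hSne
  refine ⟨T0, hT0.prop.1, hT0.prop.2.1, hT0.prop.2.2, ?_⟩
  intro T hTH hT hTn
  have hmem : T0 ⊔ T ∈ S := by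
    refine ⟨sup_le hT0.prop.1 hTH, ?_, ?_⟩
    · exact IsPGroup.to_sup_of_normal_right' hT0.prop.2.1 hT (hT0.prop.1.trans hTn)
    · exact Cfsg.Agent.Lib.Helper30.gen_le_normalizer_sup hT0.prop.2.2 hTn
  have := hT0.le_of_ge hmem le_sup_left
  exact le_sup_right.trans this

/-- A `t`-group of automorphisms of a nontrivial finite `t`-group has a nontrivial fixed point. -/
theorem exists_fixed_ne_one {W : Type*} [Group W] [Finite W] [Nontrivial W] (t : ℕ)
    [Fact t.Prime] (hW : IsPGroup t W) (T : Subgroup (MulAut W)) (hT : IsPGroup t T) :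
    ∃ w : W, w ≠ 1 ∧ ∀ τ ∈ T, τ w = w := by
  have hdvd : t ∣ Nat.card W := by
    obtain ⟨n, hn⟩ := IsPGroup.iff_card.mp hW
    have hn0 : n ≠ 0 := by
      rintro rfl
      have h1 : 1 < Nat.card W := Finite.one_lt_card
      rw [hn, pow_zero] at h1
      exact lt_irrefl _ h1
    rw [hn]
    exact dvd_pow_self t hn0
  have h1 : (1 : W) ∈ MulAction.fixedPoints T W := by
    intro τ
    show (τ : MulAut W) (1 : W) = 1
    exact map_one _
  obtain ⟨b, hb, hne⟩ := hT.exists_fixed_point_of_prime_dvd_card_of_fixed_point W hdvd h1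
  refine ⟨b, fun h => hne h.symm, ?_⟩
  intro τ hτ
  exact hb ⟨τ, hτ⟩

end Abstract

section Act

variable {A G : Type*} [Group A] [Group G] [MulDistribMulAction A G]

/-- Restriction of an action by automorphisms to an invariant subgroup. -/
def actRestrict (V : Subgroup G) (hV : ∀ (a : A) (v : G), v ∈ V → a • v ∈ V) : A →* MulAut ↥V where
  toFun a :=
    { toFun := fun v => ⟨a • (v : G), hV a v v.2⟩
      invFun := fun v => ⟨a⁻¹ • (v : G), hV a⁻¹ v v.2⟩
      left_inv := fun v => by ext; simp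
      right_inv := fun v => by ext; simp
      map_mul' := fun x y => by ext; simp [smul_mul'] }
  map_one' := by ext; simp
  map_mul' a b := by ext; simp [mul_smul]

@[simp] theorem actRestrict_apply (V : Subgroup G) (hV : ∀ (a : A) (v : G), v ∈ V → a • v ∈ V)
    (a : A) (v : V) : ((actRestrict V hV a v : V) : G) = a • (v : G) := rfl

theorem actRestrict_conj (V : Subgroup G) [V.Normal]
    (hV : ∀ (a : A) (v : G), v ∈ V → a • v ∈ V) (a : A) (g : G) :
    actRestrict V hV a * MulAut.conjNormal g * (actRestrict V hV a)⁻¹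
      = MulAut.conjNormal (a • g) := by
  have hinv : (actRestrict V hV a)⁻¹ = actRestrict V hV a⁻¹ := (map_inv _ _).symm
  rw [hinv]
  ext v
  show ((actRestrict V hV a (MulAut.conjNormal g (actRestrict V hV a⁻¹ v)) : V) : G)
    = ((MulAut.conjNormal (a • g) v : V) : G)
  rw [actRestrict_apply, MulAut.conjNormal_apply, actRestrict_apply, MulAut.conjNormal_apply]
  simp only [smul_mul', smul_inv', smul_inv_smul]

/-- Invariant normal subgroups. -/
def IsInvNormal (A : Type*) [Group A] [MulDistribMulAction A G] (V : Subgroup G) : Prop :=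
  V.Normal ∧ ∀ (a : A) (v : G), v ∈ V → a • v ∈ V

/-- Minimal nontrivial invariant normal subgroups. -/
def IsMinInv (A : Type*) [Group A] [MulDistribMulAction A G] (V : Subgroup G) : Prop :=
  IsInvNormal A V ∧ V ≠ ⊥ ∧ ∀ W : Subgroup G, IsInvNormal A W → W ≠ ⊥ → W ≤ V → V ≤ W

theorem exists_isMinInv (A : Type*) [Group A] [MulDistribMulAction A G] [Finite G] [Nontrivial G] :
    ∃ V : Subgroup G, IsMinInv A V := by
  classical
  let S : Set (Subgroup G) := {V | IsInvNormal A V ∧ V ≠ ⊥}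
  have hSne : S.Nonempty := ⟨⊤, ⟨inferInstance, fun _ _ _ => Subgroup.mem_top _⟩, top_ne_bot⟩
  obtain ⟨V, hV⟩ := S.toFinite.exists_minimal hSne
  exact ⟨V, hV.prop.1, hV.prop.2, fun W hW hW0 hWV => hV.le_of_le ⟨hW, hW0⟩ hWV⟩

theorem IsMinInv.comm [Group.IsSolvable G] {V : Subgroup G} (hV : IsMinInv A V) :
    ∀ x ∈ V, ∀ y ∈ V, x * y = y * x := by
  have hn : V.Normal := hV.1.1
  have hW : IsInvNormal A ⁅V, V⁆ := by
    refine ⟨inferInstance, ?_⟩
    intro a
    have : ⁅V, V⁆ ≤ (⁅V, V⁆).comap (MulDistribMulAction.toMonoidHom G a) := by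
      rw [Subgroup.commutator_le]
      intro x hx y hy
      rw [Subgroup.mem_comap, map_commutatorElement]
      exact Subgroup.commutator_mem_commutator (hV.1.2 a x hx) (hV.1.2 a y hy)
    intro v hv
    exact this hv
  have hlt : ⁅V, V⁆ < V := Group.IsSolvable.commutator_lt_of_ne_bot hV.2.1
  have hbot : ⁅V, V⁆ = ⊥ := by
    by_contra h
    exact absurd (hV.2.2 _ hW h hlt.le) (not_le_of_gt hlt)
  rw [Subgroup.commutator_eq_bot_iff_le_centralizer] at hbot
  intro x hx y hy
  exact ((Subgroup.mem_centralizer_iff.mp (hbot hx)) y hy).symm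

theorem IsMinInv.exists_prime [Finite G] [Group.IsSolvable G] {V : Subgroup G}
    (hV : IsMinInv A V) : ∃ t : ℕ, t.Prime ∧ t ∣ Nat.card G ∧ ∀ v ∈ V, v ^ t = 1 := by
  have hn : V.Normal := hV.1.1
  have hcomm := hV.comm
  have hcard : Nat.card V ≠ 1 := by
    intro h
    exact hV.2.1 ((Subgroup.card_eq_one).mp h)
  obtain ⟨t, ht, htV⟩ := Nat.exists_prime_and_dvd hcard
  have : Fact t.Prime := ⟨ht⟩
  obtain ⟨v0, hv0⟩ := exists_prime_orderOf_dvd_card' t htV
  refine ⟨t, ht, htV.trans (Subgroup.card_subgroup_dvd_card V), ?_⟩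
  let W : Subgroup G :=
    { carrier := {v | v ∈ V ∧ v ^ t = 1}
      one_mem' := ⟨V.one_mem, one_pow _⟩
      mul_mem' := by
        rintro x y ⟨hx, hx1⟩ ⟨hy, hy1⟩
        refine ⟨V.mul_mem hx hy, ?_⟩
        rw [(show Commute x y from hcomm x hx y hy).mul_pow, hx1, hy1, one_mul]
      inv_mem' := by
        rintro x ⟨hx, hx1⟩
        exact ⟨V.inv_mem hx, by rw [inv_pow, hx1, inv_one]⟩ }
  have hWV : W ≤ V := fun v hv => hv.1
  have hW : IsInvNormal A W := by
    refine ⟨⟨?_⟩, ?_⟩
    · rintro n ⟨hn1, hn2⟩ g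
      exact ⟨hn.conj_mem n hn1 g, by rw [conj_pow, hn2]; simp⟩
    · rintro a v ⟨hv1, hv2⟩
      exact ⟨hV.1.2 a v hv1, by rw [← smul_pow', hv2, smul_one]⟩
  have hW0 : W ≠ ⊥ := by
    intro h
    have hmem : (v0 : G) ∈ W := by
      refine ⟨v0.2, ?_⟩
      have : v0 ^ t = 1 := by rw [← hv0]; exact pow_orderOf_eq_one v0
      have h2 := congrArg (Subtype.val) this
      simpa using h2
    rw [h, Subgroup.mem_bot] at hmem
    have : v0 = 1 := Subtype.ext hmem
    rw [this, orderOf_one] at hv0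
    exact ht.one_lt.ne hv0
  intro v hv
  exact (hV.2.2 W hW hW0 hWV hv).2

end Act

section Main

universe u

variable {G : Type u} [Group G] [Finite G] [MulDistribMulAction (Equiv.Perm (Fin 3)) G]

theorem card_perm_three : Nat.card (Equiv.Perm (Fin 3)) = 6 := by
  rw [Nat.card_eq_fintype_card, Fintype.card_perm, Fintype.card_fin]
  rfl

/-- `O_t(H) = 1` for the group `H` induced on a minimal invariant normal subgroup. -/
theorem no_normal_pgroup {V : Subgroup G} (hV : IsMinInv (Equiv.Perm (Fin 3)) V) [hn : V.Normal]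
    (t : ℕ) (ht : t.Prime) (hVt : ∀ v ∈ V, v ^ t = 1)
    (T : Subgroup (MulAut ↥V))
    (hTH : T ≤ (MulAut.conjNormal : G →* MulAut ↥V).range) (hTt : IsPGroup t T)
    (hTn : (MulAut.conjNormal : G →* MulAut ↥V).range ≤ Subgroup.normalizer (T : Set (MulAut ↥V))) :
    T = ⊥ := by
  have : Fact t.Prime := ⟨ht⟩
  set c : G →* MulAut ↥V := MulAut.conjNormal with hc
  set α : Equiv.Perm (Fin 3) →* MulAut ↥V := actRestrict V hV.1.2 with hα
  have hrel : ∀ a g, α a * c g * (α a)⁻¹ = c (a • g) := fun a g => actRestrict_conj V hV.1.2 a g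
  have hHα : ∀ a, ∀ x ∈ c.range, α a * x * (α a)⁻¹ ∈ c.range := by
    rintro a _ ⟨g, rfl⟩
    exact ⟨a • g, (hrel a g).symm⟩
  obtain ⟨T0, hT0H, hT0t, hT0n, hT0max⟩ := exists_largest_normal_pgroup t c.range
  suffices h0 : T0 = ⊥ by
    have := hT0max T hTH hTt hTn
    rw [h0] at this
    exact le_bot_iff.mp this
  -- `T0` is `α`-invariant
  have hT0α : ∀ a, ∀ τ ∈ T0, α a * τ * (α a)⁻¹ ∈ T0 := by
    intro a τ hτ
    have h1 : T0.map (MulAut.conj (α a)).toMonoidHom ≤ T0 := by
      apply hT0max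
      · rintro _ ⟨x, hx, rfl⟩
        exact hHα a x (hT0H hx)
      · exact hT0t.map _
      · rw [← Subgroup.map_equiv_normalizer_eq]
        intro h hh
        refine ⟨α a⁻¹ * h * (α a⁻¹)⁻¹, hT0n (hHα a⁻¹ h hh), ?_⟩
        simp [map_inv, mul_assoc]
    exact h1 ⟨τ, hτ, rfl⟩
  -- the fixed points of `T0`
  let U0 : Subgroup ↥V :=
    { carrier := {v | ∀ τ ∈ T0, τ v = v}
      one_mem' := fun τ _ => map_one τ
      mul_mem' := by
        intro x y hx hy τ hτ
        rw [map_mul, hx τ hτ, hy τ hτ]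
      inv_mem' := by
        intro x hx τ hτ
        rw [map_inv, hx τ hτ] }
  have hU0mem : ∀ v : ↥V, v ∈ U0 ↔ ∀ τ ∈ T0, τ v = v := fun v => Iff.rfl
  have hkey : ∀ (σ : MulAut ↥V), (∀ τ ∈ T0, σ⁻¹ * τ * σ ∈ T0) → ∀ u ∈ U0, σ u ∈ U0 := by
    intro σ hσ u hu τ hτ
    have h1 : τ * σ = σ * (σ⁻¹ * τ * σ) := by group
    calc τ (σ u) = (τ * σ) u := rfl
      _ = (σ * (σ⁻¹ * τ * σ)) u := by rw [h1]
      _ = σ ((σ⁻¹ * τ * σ) u) := rfl
      _ = σ u := by rw [hu _ (hσ τ hτ)]
  have hUinv : IsInvNormal (Equiv.Perm (Fin 3)) (U0.map V.subtype) := by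
    refine ⟨⟨?_⟩, ?_⟩
    · rintro _ ⟨u, hu, rfl⟩ g
      refine ⟨c g u, ?_, by simp [hc, MulAut.conjNormal_apply]⟩
      apply hkey (c g) _ u hu
      intro τ hτ
      have hmem : (c g)⁻¹ ∈ Subgroup.normalizer (T0 : Set (MulAut ↥V)) :=
        Subgroup.inv_mem _ (hT0n ⟨g, rfl⟩)
      have := (Subgroup.mem_normalizer_iff.mp hmem τ).mp hτ
      simpa using this
    · rintro a _ ⟨u, hu, rfl⟩
      refine ⟨α a u, ?_, by simp [hα]⟩
      apply hkey (α a) _ u hu
      intro τ hτ
      have := hT0α a⁻¹ τ hτ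
      simpa [map_inv] using this
  have hVnt : Nontrivial ↥V := (Subgroup.nontrivial_iff_ne_bot V).mpr hV.2.1
  have hVp : IsPGroup t ↥V := by
    intro v
    refine ⟨1, ?_⟩
    rw [pow_one]
    exact Subtype.ext (by simpa using hVt v v.2)
  have hU0 : U0.map V.subtype ≠ ⊥ := by
    obtain ⟨w, hw1, hw⟩ := exists_fixed_ne_one t hVp T0 hT0t
    intro h
    have hmem : (w : G) ∈ U0.map V.subtype := ⟨w, hw, rfl⟩
    rw [h, Subgroup.mem_bot] at hmem
    exact hw1 (Subtype.ext hmem)
  have hVU : V ≤ U0.map V.subtype :=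
    hV.2.2 _ hUinv hU0 (Subgroup.map_subtype_le U0)
  rw [Subgroup.eq_bot_iff_forall]
  intro τ hτ
  ext v
  obtain ⟨u, hu, huv⟩ := hVU v.2
  have : u = v := Subtype.ext huv
  rw [← this]
  show ((τ u : ↥V) : G) = _
  rw [hu τ hτ]
  rfl

/-- With `PropB`: the derived subgroup centralizes a minimal invariant normal subgroup `V`,
provided the derived subgroup of `G ⧸ V` is nilpotent. -/
theorem commutator_le_ker (hB : PropB.{u}) [hsolv : Group.IsSolvable G]
    (hcop : (Nat.card G).Coprime 6)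
    (hfpf : ∀ g : G, (∀ a : Equiv.Perm (Fin 3), a • g = g) → g = 1)
    {V : Subgroup G} (hV : IsMinInv (Equiv.Perm (Fin 3)) V) [hn : V.Normal]
    (hq : Group.IsNilpotent ↥(commutator (G ⧸ V))) :
    commutator G ≤ (MulAut.conjNormal : G →* MulAut ↥V).ker := by
  set c : G →* MulAut ↥V := MulAut.conjNormal with hc
  set α : Equiv.Perm (Fin 3) →* MulAut ↥V := actRestrict V hV.1.2 with hα
  have hrel : ∀ a g, α a * c g * (α a)⁻¹ = c (a • g) := fun a g => actRestrict_conj V hV.1.2 a g
  have hcomm : ∀ x y : ↥V, x * y = y * x := fun x y => Subtype.ext (hV.comm x x.2 y y.2)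
  obtain ⟨t, ht, htG, hVt⟩ := hV.exists_prime
  have ht6 : t.Coprime 6 := Nat.Coprime.coprime_dvd_left htG hcop
  have hW : ∀ v : ↥V, v ^ t = 1 := fun v => Subtype.ext (by simpa using hVt v v.2)
  have hHα : AInv α c.range := by
    rintro a _ ⟨g, rfl⟩
    exact ⟨a • g, (hrel a g).symm⟩
  have hsolH : Group.IsSolvable c.range :=
    Group.isSolvable_of_surjective c.rangeRestrict_surjective
  have hcopH : (Nat.card c.range).Coprime 6 :=
    Nat.Coprime.coprime_dvd_left (Subgroup.card_range_dvd c) hcop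
  have hcopA : (Nat.card (Equiv.Perm (Fin 3))).Coprime (Nat.card G) := by
    rw [card_perm_three]; exact hcop.symm
  have hkerinv : ∀ (a : Equiv.Perm (Fin 3)) (n : G), n ∈ c.ker → a • n ∈ c.ker := by
    intro a n hn
    rw [MonoidHom.mem_ker] at hn ⊢
    rw [← hrel, hn]
    simp
  have hHfpf : AFpf α c.range := by
    rintro _ ⟨y, rfl⟩ hx
    have hy : ∀ a : Equiv.Perm (Fin 3), y⁻¹ * a • y ∈ c.ker := by
      intro a
      rw [MonoidHom.mem_ker, map_mul, map_inv, ← hrel, hx a]
      simp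
    obtain ⟨c0, hc0, hyc⟩ := S3Lift.exists_fixed_in_coset hcopA hsolv c.ker hkerinv y hy
    rw [hfpf c0 hc0, mul_one, MonoidHom.mem_ker, map_inv, inv_eq_one] at hyc
    exact hyc
  have hVfpf : ∀ v : ↥V, (∀ g, α g v = v) → v = 1 := by
    intro v hv
    apply Subtype.ext
    exact hfpf v (fun a => congrArg Subtype.val (hv a))
  have hOt : ∀ T : Subgroup (MulAut ↥V), T ≤ c.range → IsPGroup t T →
      c.range ≤ Subgroup.normalizer (T : Set (MulAut ↥V)) → T = ⊥ :=
    fun T hTH hTt hTn => no_normal_pgroup hV t ht hVt T hTH hTt hTn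
  -- nilpotency of `⁅H, H⁆`
  have hVker : ∀ v ∈ V, c v = 1 := by
    intro v hv
    ext w
    simp only [hc, MulAut.conjNormal_apply, MulAut.one_apply]
    rw [hV.comm v hv w w.2, mul_inv_cancel_right]
  let cbar : G ⧸ V →* MulAut ↥V := QuotientGroup.lift V c hVker
  have hrange : c.range = (⊤ : Subgroup (G ⧸ V)).map cbar := by
    ext x
    constructor
    · rintro ⟨g, rfl⟩
      exact ⟨(g : G ⧸ V), Subgroup.mem_top _, rfl⟩
    · rintro ⟨q, -, rfl⟩
      induction q using QuotientGroup.induction_on with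
      | H g => exact ⟨g, rfl⟩
  have hcomm_eq : ⁅c.range, c.range⁆ = (commutator (G ⧸ V)).map cbar := by
    rw [hrange, ← Subgroup.map_commutator, ← commutator_def]
  have hnil : Group.IsNilpotent ↥⁅c.range, c.range⁆ := by
    rw [hcomm_eq]
    exact Group.nilpotent_of_surjective (cbar.subgroupMap (commutator (G ⧸ V)))
      (cbar.subgroupMap_surjective _)
  have habel := propB_apply hB ↥V hcomm t ht ht6 hW α c.range hHα hsolH hcopH hHfpf hVfpf hOt hnil
  rw [commutator_def, Subgroup.commutator_le]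
  intro x _ y _
  rw [MonoidHom.mem_ker, map_commutatorElement, commutatorElement_eq_one_iff_commute]
  exact habel (c x) ⟨x, rfl⟩ (c y) ⟨y, rfl⟩

end Main

section Final

universe u

theorem main (hB : PropB.{u}) : ∀ (n : ℕ) (G : Type u) [Group G] [Finite G] [Group.IsSolvable G]
    [MulDistribMulAction (Equiv.Perm (Fin 3)) G], Nat.card G = n → (Nat.card G).Coprime 6 →
    (∀ g : G, (∀ a : Equiv.Perm (Fin 3), a • g = g) → g = 1) →
    Group.IsNilpotent ↥(commutator G) := by
  intro n
  induction n using Nat.strong_induction_on with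
  | _ n ih =>
    intro G _ _ hsolv _ hn hcop hfpf
    by_cases hG : Subsingleton G
    · infer_instance
    · rw [not_subsingleton_iff_nontrivial] at hG
      obtain ⟨V, hV⟩ := exists_isMinInv (Equiv.Perm (Fin 3)) (G := G)
      have hVn : V.Normal := hV.1.1
      let act : MulDistribMulAction (Equiv.Perm (Fin 3)) (G ⧸ V) :=
        Cfsg.Agent.Lib.Helper30.quotientAction V hV.1.2
      have hcard : Nat.card G = Nat.card (G ⧸ V) * Nat.card V :=
        Subgroup.card_eq_card_quotient_mul_card_subgroup V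
      have hV1 : 1 < Nat.card V := (Subgroup.one_lt_card_iff_ne_bot V).mpr hV.2.1
      have hpos : 0 < Nat.card (G ⧸ V) := Nat.card_pos
      have hlt : Nat.card (G ⧸ V) < n := by
        rw [← hn, hcard]
        nlinarith
      have hcopq : (Nat.card (G ⧸ V)).Coprime 6 :=
        Nat.Coprime.coprime_dvd_left ⟨_, hcard⟩ hcop
      have hcopA : (Nat.card (Equiv.Perm (Fin 3))).Coprime (Nat.card G) := by
        rw [card_perm_three]; exact hcop.symm
      have hfpfq := S3Lift.quotient_fpf hcopA hsolv V hV.1.2 hfpf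
      have hq : Group.IsNilpotent ↥(commutator (G ⧸ V)) :=
        ih _ hlt (G ⧸ V) rfl hcopq hfpfq
      have hle := commutator_le_ker hB hcop hfpf hV hq
      -- the image of `commutator G` in the quotient
      have hmap : (commutator G).map (QuotientGroup.mk' V) = commutator (G ⧸ V) := by
        rw [commutator_def, Subgroup.map_commutator,
          Subgroup.map_top_of_surjective _ (QuotientGroup.mk'_surjective V), ← commutator_def]
      have hnilmap : Group.IsNilpotent ↥((commutator G).map (QuotientGroup.mk' V)) := by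
        rw [hmap]; exact hq
      apply Subgroup.isNilpotent_of_ker_le_center
        ((QuotientGroup.mk' V).subgroupMap (commutator G))
      intro x hx
      rw [MonoidHom.mem_ker] at hx
      have hxV : (x : G) ∈ V := by
        have h1 := congrArg Subtype.val hx
        simpa using h1
      rw [Subgroup.mem_center_iff]
      intro y
      have hy : MulAut.conjNormal (y : G) = (1 : MulAut ↥V) := MonoidHom.mem_ker.mp (hle y.2)
      have h2 : ((MulAut.conjNormal (y : G) ⟨(x : G), hxV⟩ : ↥V) : G) = (x : G) := by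
        rw [hy]; rfl
      rw [MulAut.conjNormal_apply] at h2
      apply Subtype.ext
      show (y : G) * (x : G) = (x : G) * (y : G)
      have h3 : (y : G) * (x : G) * (y : G)⁻¹ = (x : G) := h2
      calc (y : G) * (x : G) = (y : G) * (x : G) * (y : G)⁻¹ * (y : G) := by group
        _ = (x : G) * (y : G) := by rw [h3]

/-- (D3) reduction of S4305 to `PropB`. -/
theorem s4305_of_propB (hB : PropB.{u}) {G : Type u} [Group G] [Finite G] [Group.IsSolvable G]
    [MulDistribMulAction (Equiv.Perm (Fin 3)) G] (hcop : (Nat.card G).Coprime 6)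
    (hfpf : ∀ g : G, (∀ a : Equiv.Perm (Fin 3), a • g = g) → g = 1) :
    Group.IsNilpotent ↥(commutator G) :=
  main hB (Nat.card G) G rfl hcop hfpf

end Final

end Cfsg.Agent.Lib.Helper75.S3Reduce
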