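import Mathlib
import Cfsg.Agent.Lib.Helper74.ConjClass
import Cfsg.Agent.Lib.Helper01.Basic

set_option autoImplicit false

/-!
# Products of conjugacy classes of coprime sizes (Bertram–Herzog–Mann style lemmas)
-/

namespace Cfsg.Agent.Lib.Helper75.ClassProd

open scoped Pointwise

variable {G : Type*} [Group G]

/-- the class size of `g`, as the index of its centralizer -/
noncomputable abbrev idx (g : G) : ℕ := (Subgroup.centralizer ({g} : Set G)).index

theorem mem_cent_iff (g a : G) : g ∈ Subgroup.centralizer ({a} : Set G) ↔ a * g = g * a := by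
  rw [Subgroup.mem_centralizer_iff]; simp

theorem idx_eq_card (a : G) : idx a = Nat.card {y : G // IsConj a y} :=
  Cfsg.Agent.Lib.Helper74.index_centralizer_eq_card_conj a

theorem idx_eq_of_isConj {a a' : G} (h : IsConj a a') : idx a = idx a' := by
  rw [idx_eq_card, idx_eq_card]
  exact Nat.card_congr (Equiv.subtypeEquivRight fun y =>
    ⟨fun h' => h.symm.trans h', fun h' => h.trans h'⟩)

theorem idx_conj (g a : G) : idx (g * a * g⁻¹) = idx a :=
  (idx_eq_of_isConj (isConj_iff.2 ⟨g, rfl⟩)).symm

theorem idx_inv (a : G) : idx a⁻¹ = idx a := by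
  have : Subgroup.centralizer ({a⁻¹} : Set G) = Subgroup.centralizer ({a} : Set G) := by
    ext g
    rw [mem_cent_iff, mem_cent_iff]
    exact Commute.inv_left_iff
  unfold idx; rw [this]

theorem idx_pos [Finite G] (a : G) : 0 < idx a :=
  Nat.pos_of_ne_zero Subgroup.index_ne_zero_of_finite

theorem idx_eq_one_iff (a : G) : idx a = 1 ↔ a ∈ Subgroup.center G := by
  unfold idx
  rw [Subgroup.index_eq_one, Subgroup.centralizer_eq_top_iff_subset, Set.singleton_subset_iff]
  rfl

theorem idx_mul_central (a : G) {z : G} (hz : z ∈ Subgroup.center G) : idx (a * z) = idx a := by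
  have : Subgroup.centralizer ({a * z} : Set G) = Subgroup.centralizer ({a} : Set G) := by
    ext g
    rw [mem_cent_iff, mem_cent_iff]
    have hz' := Subgroup.mem_center_iff.1 hz g
    constructor
    · intro h
      have : a * g * z = g * a * z := by
        rw [mul_assoc, hz', ← mul_assoc, h, mul_assoc]
      exact mul_right_cancel this
    · intro h
      rw [mul_assoc, ← hz', ← mul_assoc, h, mul_assoc]
  unfold idx; rw [this]

/-! ### subgroups of coprime index -/

theorem relIndex_eq_index_of_coprime [Finite G] (H K : Subgroup G)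
    (h : H.index.Coprime K.index) : H.relIndex K = H.index := by
  have h1 : (H ⊓ K).index = H.relIndex K * K.index := by
    rw [← Subgroup.inf_relIndex_right, Subgroup.relIndex_mul_index inf_le_right]
  have h2 : H.index ∣ (H ⊓ K).index := Subgroup.index_dvd_of_le inf_le_left
  have h3 : H.index ∣ H.relIndex K := by
    rw [h1] at h2
    exact Nat.Coprime.dvd_of_dvd_mul_right h h2
  have h4 : (H ⊓ K).index ≤ H.index * K.index := Subgroup.index_inf_le
  have hK : 0 < K.index := Nat.pos_of_ne_zero Subgroup.index_ne_zero_of_finite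
  have h5 : H.relIndex K ≤ H.index := by
    rw [h1] at h4
    exact Nat.le_of_mul_le_mul_right h4 hK
  have h6 : 0 < H.relIndex K := Nat.pos_of_ne_zero (Subgroup.index_ne_zero_of_finite (H := H.subgroupOf K))
  exact Nat.le_antisymm h5 (Nat.le_of_dvd h6 h3)

theorem index_inf_of_coprime [Finite G] (H K : Subgroup G)
    (h : H.index.Coprime K.index) : (H ⊓ K).index = H.index * K.index := by
  rw [← relIndex_eq_index_of_coprime H K h, ← Subgroup.inf_relIndex_right,
    Subgroup.relIndex_mul_index inf_le_right]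

theorem exists_mul_of_relIndex_eq_index [Finite G] (H K : Subgroup G)
    (h : H.relIndex K = H.index) (g : G) : ∃ k ∈ K, ∃ x ∈ H, g = k * x := by
  let φ : K ⧸ H.subgroupOf K → G ⧸ H :=
    Quotient.map' (fun k : K => (k : G)) (by
      intro a b hab
      rw [QuotientGroup.leftRel_apply] at hab ⊢
      exact hab)
  have hinj : Function.Injective φ := by
    refine Quotient.ind₂' ?_
    intro a b hab
    simp only [φ, Quotient.map'_mk''] at hab
    rw [Quotient.eq''] at hab ⊢
    rw [QuotientGroup.leftRel_apply] at hab ⊢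
    exact hab
  have hcard : Nat.card (G ⧸ H) ≤ Nat.card (K ⧸ H.subgroupOf K) := by
    have e1 : Nat.card (G ⧸ H) = H.index := rfl
    have e2 : Nat.card (K ⧸ H.subgroupOf K) = H.relIndex K := rfl
    rw [e1, e2, h]
  have hbij := hinj.bijective_of_nat_card_le hcard
  obtain ⟨q, hq⟩ := hbij.2 (QuotientGroup.mk g)
  induction q using Quotient.inductionOn' with
  | h k =>
    simp only [φ, Quotient.map'_mk''] at hq
    have hq' : ((k : G) : G ⧸ H) = (g : G ⧸ H) := hq
    rw [QuotientGroup.eq] at hq'
    exact ⟨k, k.2, _, hq', by group⟩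

theorem exists_mul_of_coprime_index [Finite G] (H K : Subgroup G)
    (h : H.index.Coprime K.index) (g : G) : ∃ k ∈ K, ∃ x ∈ H, g = k * x :=
  exists_mul_of_relIndex_eq_index H K (relIndex_eq_index_of_coprime H K h) g

/-- For `K` normal, `|K : H ∩ K|` divides `|G : H|`. -/
theorem relIndex_dvd_index_of_normal_right [Finite G] (H K : Subgroup G) [K.Normal] :
    H.relIndex K ∣ H.index := by
  have h1 := Cfsg.Agent.Lib.Helper01.card_sup_mul_card_inf K H
  have h2 := (H.subgroupOf K).card_mul_index
  rw [Cfsg.Agent.Lib.Helper01.card_subgroupOf_eq_card_inf] at h2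
  have h3 := (H.subgroupOf (H ⊔ K)).card_mul_index
  rw [Cfsg.Agent.Lib.Helper01.card_subgroupOf_of_le le_sup_left] at h3
  change _ * H.relIndex K = _ at h2
  change _ * H.relIndex (H ⊔ K) = _ at h3
  have hH : 0 < Nat.card H := Nat.card_pos
  have hHK : 0 < Nat.card (H ⊓ K : Subgroup G) := Nat.card_pos
  have e : (K ⊓ H : Subgroup G) = H ⊓ K := inf_comm _ _
  rw [e] at h1
  have h4 : H.relIndex K = H.relIndex (H ⊔ K) := by
    have : Nat.card H * Nat.card (H ⊓ K : Subgroup G) * H.relIndex K =
        Nat.card H * Nat.card (H ⊓ K : Subgroup G) * H.relIndex (H ⊔ K) := by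
      calc Nat.card H * Nat.card (H ⊓ K : Subgroup G) * H.relIndex K
          = Nat.card H * (Nat.card (H ⊓ K : Subgroup G) * H.relIndex K) := by ring
        _ = Nat.card H * Nat.card K := by rw [h2]
        _ = Nat.card K * Nat.card H := by ring
        _ = Nat.card (H ⊔ K : Subgroup G) * Nat.card (H ⊓ K : Subgroup G) := h1.symm
        _ = (Nat.card H * H.relIndex (H ⊔ K)) * Nat.card (H ⊓ K : Subgroup G) := by rw [h3]
        _ = _ := by ring
    exact Nat.eq_of_mul_eq_mul_left (Nat.mul_pos hH hHK) this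
  rw [h4]
  exact Subgroup.relIndex_dvd_index_of_le le_sup_left

/-! ### products of classes -/

theorem cent_inf_le_cent_mul (a b : G) :
    Subgroup.centralizer ({a} : Set G) ⊓ Subgroup.centralizer ({b} : Set G) ≤
      Subgroup.centralizer ({a * b} : Set G) := by
  intro g hg
  obtain ⟨h1, h2⟩ := Subgroup.mem_inf.1 hg
  rw [mem_cent_iff] at h1 h2 ⊢
  rw [mul_assoc, h2, ← mul_assoc, h1, mul_assoc]

theorem idx_mul_dvd [Finite G] {a b : G} (h : (idx a).Coprime (idx b)) :
    idx (a * b) ∣ idx a * idx b := by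
  rw [← index_inf_of_coprime _ _ h]
  exact Subgroup.index_dvd_of_le (cent_inf_le_cent_mul a b)

/-- `L2`: a product of a conjugate of `a` and a conjugate of `b` is a conjugate of `a * b`,
when the class sizes are coprime. -/
theorem isConj_mul_of_coprime [Finite G] {a b : G} (h : (idx a).Coprime (idx b)) {c d : G}
    (hc : IsConj a c) (hd : IsConj b d) : IsConj (a * b) (c * d) := by
  obtain ⟨g, rfl⟩ := isConj_iff.1 hc
  obtain ⟨t, rfl⟩ := isConj_iff.1 hd
  obtain ⟨k, hk, x, hx, hkx⟩ := exists_mul_of_coprime_index _ _ h.symm (g⁻¹ * t)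
  -- k ∈ C(a), x ∈ C(b), g⁻¹ t = k x
  rw [mem_cent_iff] at hk hx
  rw [isConj_iff]
  refine ⟨g * k, ?_⟩
  have ht : t = g * k * x := by rw [mul_assoc, ← hkx]; group
  rw [ht]
  have e1 : g * k * x * b * (g * k * x)⁻¹ = g * k * (x * b * x⁻¹) * (g * k)⁻¹ := by group
  have e2 : x * b * x⁻¹ = b := by rw [← hx]; group
  have e3 : g * a * g⁻¹ = g * k * a * (g * k)⁻¹ := by
    have : k * a * k⁻¹ = a := by rw [← hk]; group
    calc g * a * g⁻¹ = g * (k * a * k⁻¹) * g⁻¹ := by rw [this]
      _ = _ := by group
  rw [e1, e2, e3]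
  group

theorem idx_le_idx_mul [Finite G] {a b : G} (h : (idx a).Coprime (idx b)) :
    idx a ≤ idx (a * b) := by
  rw [idx_eq_card, idx_eq_card]
  refine Nat.card_le_card_of_injective
    (fun c : {y : G // IsConj a y} => (⟨c.1 * b, isConj_mul_of_coprime h c.2 (IsConj.refl b)⟩ :
      {y : G // IsConj (a * b) y})) ?_
  intro c c' hcc
  have := congrArg Subtype.val hcc
  exact Subtype.ext (mul_right_cancel this)

theorem idx_le_idx_mul' [Finite G] {a b : G} (h : (idx a).Coprime (idx b)) :
    idx b ≤ idx (a * b) := by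
  rw [idx_eq_card, idx_eq_card]
  refine Nat.card_le_card_of_injective
    (fun c : {y : G // IsConj b y} => (⟨a * c.1, isConj_mul_of_coprime h (IsConj.refl a) c.2⟩ :
      {y : G // IsConj (a * b) y})) ?_
  intro c c' hcc
  have := congrArg Subtype.val hcc
  exact Subtype.ext (mul_left_cancel this)

/-- `L3'` -/
theorem idx_mul_eq_of_lt [Finite G] {u v : G} (h : (idx u).Coprime (idx v)) (hlt : idx v < idx u)
    (ht : (idx (u * v)).Coprime (idx v) ∨ (idx (u * v)).Coprime (idx u)) :
    idx (u * v) = idx u := by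
  have h1 := idx_mul_dvd h
  have h2 := idx_le_idx_mul h
  have h3 := idx_le_idx_mul' h
  rcases ht with ht | ht
  · have : idx (u * v) ∣ idx u := Nat.Coprime.dvd_of_dvd_mul_right ht h1
    exact Nat.le_antisymm (Nat.le_of_dvd (idx_pos u) this) h2
  · have : idx (u * v) ∣ idx v := Nat.Coprime.dvd_of_dvd_mul_left ht h1
    have := Nat.le_of_dvd (idx_pos v) this
    omega

/-- `L4` (general form): if all products `x * c` (`x ~ u`, `c ~ v`) lie in one class of the same
size as the class of `u`, then right multiplication by `c * c'⁻¹` preserves the class of `u`. -/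
theorem isConj_mul_mul_inv [Finite G] {u v w : G}
    (hprod : ∀ x c : G, IsConj u x → IsConj v c → IsConj w (x * c)) (hw : idx w = idx u)
    {x c c' : G} (hx : IsConj u x) (hc : IsConj v c) (hc' : IsConj v c') :
    IsConj u (x * c * c'⁻¹) := by
  let f : {y : G // IsConj u y} → {y : G // IsConj w y} :=
    fun y => ⟨y.1 * c', hprod y.1 c' y.2 hc'⟩
  have hinj : Function.Injective f := by
    intro y y' hyy
    have := congrArg Subtype.val hyy
    exact Subtype.ext (mul_right_cancel this)
  have hcard : Nat.card {y : G // IsConj w y} ≤ Nat.card {y : G // IsConj u y} := by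
    rw [← idx_eq_card, ← idx_eq_card, hw]
  have hbij := hinj.bijective_of_nat_card_le hcard
  obtain ⟨y, hy⟩ := hbij.2 ⟨x * c, hprod x c hx hc⟩
  have hy' : y.1 * c' = x * c := congrArg Subtype.val hy
  have : x * c * c'⁻¹ = y.1 := by rw [← hy']; group
  rw [this]
  exact y.2

/-! ### right stabilizers -/

/-- the subgroup of elements whose right multiplication preserves the set `A` -/
def stabR (A : Set G) : Subgroup G where
  carrier := {k | (∀ x ∈ A, x * k ∈ A) ∧ (∀ x ∈ A, x * k⁻¹ ∈ A)}
  one_mem' := by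
    refine ⟨fun x hx => by simpa using hx, fun x hx => by simpa using hx⟩
  mul_mem' := by
    rintro k l ⟨hk1, hk2⟩ ⟨hl1, hl2⟩
    refine ⟨fun x hx => ?_, fun x hx => ?_⟩
    · rw [← mul_assoc]; exact hl1 _ (hk1 x hx)
    · rw [mul_inv_rev, ← mul_assoc]; exact hk2 _ (hl2 x hx)
  inv_mem' := by
    rintro k ⟨hk1, hk2⟩
    exact ⟨hk2, fun x hx => by rw [inv_inv]; exact hk1 x hx⟩

theorem card_dvd_of_mul_stable (A : Set G) (N : Subgroup G)
    (h : ∀ x ∈ A, ∀ k ∈ N, x * k ∈ A) : Nat.card N ∣ Nat.card A := by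
  have hA : (A * (N : Set G)) = A := by
    ext x
    constructor
    · rintro ⟨x, hx, k, hk, rfl⟩
      exact h x hx k hk
    · intro hx
      exact ⟨x, hx, 1, N.one_mem, mul_one x⟩
  have h2 := Subgroup.card_mul_eq_card_subgroup_mul_card_quotient N A
  rw [hA] at h2
  exact Dvd.intro _ h2.symm

theorem card_stabR_dvd (A : Set G) : Nat.card (stabR A) ∣ Nat.card A :=
  card_dvd_of_mul_stable A (stabR A) (fun x hx _ hk => hk.1 x hx)

end Cfsg.Agent.Lib.Helper75.ClassProd
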