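import Mathlib
import Cfsg.Prelude.Def_Solvable
import Cfsg.Agent.Lib.Helper77.ConjUnion

set_option autoImplicit false

/-!
# Recognising a Frobenius group `A ⋊ H` from a free action, and the quotient by the centre
-/

namespace Cfsg.Agent.Lib.Helper75.FrobQuot

open scoped Pointwise

theorem frob_of_complement {Γ : Type*} [Group Γ] [Finite Γ] (A H : Subgroup Γ) [A.Normal]
    (hc : A.IsComplement' H) (hA1 : A ≠ ⊥) (hA2 : A ≠ ⊤)
    (hfpf : ∀ h ∈ H, h ≠ 1 → ∀ a ∈ A, h * a = a * h → a = 1) :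
    Cfsg.IsFrobeniusComplement H ∧ ∀ x ∈ Cfsg.frobeniusKernel H, x ∈ A := by
  have hdec : ∀ g : Γ, ∃ a ∈ A, ∃ h ∈ H, g = a * h := by
    intro g
    obtain ⟨⟨a, h⟩, hah, _⟩ := (Subgroup.isComplement'_def.1 hc).existsUnique g
    exact ⟨a.1, a.2, h.1, h.2, hah.symm⟩
  have hdisj : ∀ x : Γ, x ∈ A → x ∈ H → x = 1 := by
    intro x hxA hxH
    have := hc.disjoint
    rw [Subgroup.disjoint_def] at this
    exact this hxA hxH
  refine ⟨⟨?_, ?_, ?_⟩, ?_⟩
  · -- H ≠ ⊥
    intro hH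
    apply hA2
    rw [eq_top_iff]
    intro g _
    obtain ⟨a, ha, h, hh, rfl⟩ := hdec g
    rw [hH, Subgroup.mem_bot] at hh
    rw [hh, mul_one]
    exact ha
  · -- H ≠ ⊤
    intro hH
    apply hA1
    rw [eq_bot_iff]
    intro a ha
    rw [Subgroup.mem_bot]
    exact hdisj a ha (by rw [hH]; exact Subgroup.mem_top a)
  · -- malnormal
    intro g hg
    rw [eq_bot_iff]
    intro t ht
    rw [Subgroup.mem_bot]
    obtain ⟨htH, htc⟩ := Subgroup.mem_inf.1 ht
    rw [Cfsg.Agent.Lib.Helper77.mem_conj_smul_iff] at htc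
    obtain ⟨a, ha, h₀, hh₀, rfl⟩ := hdec g
    have ha1 : a ≠ 1 := by
      rintro rfl
      apply hg
      rw [one_mul]
      exact hh₀
    have h1 : a⁻¹ * t * a ∈ H := by
      have : a⁻¹ * t * a = h₀ * ((a * h₀)⁻¹ * t * (a * h₀)) * h₀⁻¹ := by group
      rw [this]
      exact H.mul_mem (H.mul_mem hh₀ htc) (H.inv_mem hh₀)
    have h2 : t⁻¹ * (a⁻¹ * t * a) ∈ A := by
      have : t⁻¹ * (a⁻¹ * t * a) = (t⁻¹ * a⁻¹ * t⁻¹⁻¹) * a := by group
      rw [this]
      exact A.mul_mem (Subgroup.Normal.conj_mem inferInstance a⁻¹ (A.inv_mem ha) t⁻¹) ha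
    have h3 : t⁻¹ * (a⁻¹ * t * a) ∈ H := H.mul_mem (H.inv_mem htH) h1
    have h4 := hdisj _ h2 h3
    have h5 : t * a = a * t := by
      have : t * a = a * t * (t⁻¹ * (a⁻¹ * t * a)) := by group
      rw [this, h4, mul_one]
    by_contra ht1
    exact ha1 (hfpf t htH ht1 a ha h5)
  · -- kernel ⊆ A
    intro x hx
    obtain ⟨a, ha, h, hh, rfl⟩ := hdec x
    by_cases hh1 : h = 1
    · rw [hh1, mul_one]
      exact ha
    · exfalso
      have hmemA : ∀ u : A, (u : Γ) * h * (u : Γ)⁻¹ * h⁻¹ ∈ A := by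
        intro u
        have : (u : Γ) * h * (u : Γ)⁻¹ * h⁻¹ = (u : Γ) * (h * (u : Γ)⁻¹ * h⁻¹) := by group
        rw [this]
        exact A.mul_mem u.2 (Subgroup.Normal.conj_mem inferInstance _ (A.inv_mem u.2) h)
      let ψ : A → A := fun u => ⟨(u : Γ) * h * (u : Γ)⁻¹ * h⁻¹, hmemA u⟩
      have hinj : Function.Injective ψ := by
        intro u v huv
        have e : (u : Γ) * h * (u : Γ)⁻¹ * h⁻¹ = (v : Γ) * h * (v : Γ)⁻¹ * h⁻¹ :=
          congrArg Subtype.val huv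
        have e' : (u : Γ) * h * (u : Γ)⁻¹ = (v : Γ) * h * (v : Γ)⁻¹ := mul_right_cancel e
        have e2 : h * ((v : Γ)⁻¹ * (u : Γ)) = ((v : Γ)⁻¹ * (u : Γ)) * h := by
          have : h * ((v : Γ)⁻¹ * (u : Γ)) =
              (v : Γ)⁻¹ * ((v : Γ) * h * (v : Γ)⁻¹) * (u : Γ) := by group
          rw [this, ← e']; group
        have := hfpf h hh hh1 _ (A.mul_mem (A.inv_mem v.2) u.2) e2
        apply Subtype.ext
        have e3 : (u : Γ) = (v : Γ) * ((v : Γ)⁻¹ * (u : Γ)) := by group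
        rw [e3, this, mul_one]
      have hsurj : Function.Surjective ψ := Finite.injective_iff_surjective.1 hinj
      obtain ⟨u, hu⟩ := hsurj ⟨a, ha⟩
      have hu' : (u : Γ) * h * (u : Γ)⁻¹ * h⁻¹ = a := congrArg Subtype.val hu
      have hx1 : a * h ≠ 1 := by
        intro h1
        apply hh1
        have haH : a ∈ H := by
          have : a = h⁻¹ := eq_inv_of_mul_eq_one_left h1
          rw [this]; exact H.inv_mem hh
        have := hdisj a ha haH
        rw [this, one_mul] at h1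
        exact h1
      rcases hx with hx | hx
      · exact hx1 hx
      · apply hx (u : Γ)
        rw [Cfsg.Agent.Lib.Helper77.mem_conj_smul_iff, ← hu']
        have : (u : Γ)⁻¹ * ((u : Γ) * h * (u : Γ)⁻¹ * h⁻¹ * h) * (u : Γ) = h := by group
        rw [this]
        exact hh

theorem exists_frob_quot {G : Type*} [Group G] [Finite G] (Y : Subgroup G) [Y.Normal] (S : Set ℕ)
    (hZY : Subgroup.center G ≤ Y) (hYtop : ∃ g : G, g ∉ Y)
    (hYZ : ∃ y ∈ Y, y ∉ Subgroup.center G)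
    (hab : ∀ y ∈ Y, ∀ y' ∈ Y, y * y' = y' * y)
    (hcomm : ∀ g h : G, g * h * g⁻¹ * h⁻¹ ∈ Y)
    (hfpf : ∀ x : G, x ∉ Y → ∀ y ∈ Y, x⁻¹ * y⁻¹ * x * y ∈ Subgroup.center G →
      y ∈ Subgroup.center G)
    (hD2 : ∀ g : G, g ∉ Y → ∀ p : ℕ, p.Prime → g ^ p ∈ Y → p ∉ S)
    (hD3 : ∀ y ∈ Y, y ∉ Subgroup.center G → ∀ p : ℕ, p.Prime →
      y ^ p ∈ Subgroup.center G → p ∈ S) :
    ∃ H : Subgroup (G ⧸ Subgroup.center G), Cfsg.IsFrobeniusComplement H ∧ IsMulCommutative H ∧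
      ∀ x ∈ Cfsg.frobeniusKernel H, ∀ y ∈ Cfsg.frobeniusKernel H, x * y = y * x := by
  classical
  set π : G →* G ⧸ Subgroup.center G := QuotientGroup.mk' (Subgroup.center G) with hπ
  have hπs : Function.Surjective π := QuotientGroup.mk'_surjective _
  have hπ1 : ∀ g : G, π g = 1 ↔ g ∈ Subgroup.center G := fun g => QuotientGroup.eq_one_iff g
  set A : Subgroup (G ⧸ Subgroup.center G) := Y.map π with hA
  have hAn : A.Normal := Subgroup.Normal.map inferInstance π hπs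
  have hpre : ∀ g : G, π g ∈ A ↔ g ∈ Y := by
    intro g
    constructor
    · intro h
      obtain ⟨y, hy, hyg⟩ := Subgroup.mem_map.1 h
      have : π (y⁻¹ * g) = 1 := by rw [map_mul, map_inv, hyg]; group
      have h2 := hZY ((hπ1 _).1 this)
      have : g = y * (y⁻¹ * g) := by group
      rw [this]
      exact Y.mul_mem hy h2
    · intro h
      exact Subgroup.mem_map_of_mem π h
  -- coprimality
  have hcardS : ∀ p : ℕ, p.Prime → p ∣ Nat.card A → p ∈ S := by
    intro p hp hd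
    have : Fact p.Prime := ⟨hp⟩
    obtain ⟨x, hx⟩ := exists_prime_orderOf_dvd_card' p hd
    obtain ⟨y, hy, hyx⟩ := Subgroup.mem_map.1 x.2
    have hx1 : x ≠ 1 := by
      intro h
      rw [h, orderOf_one] at hx
      exact hp.ne_one hx.symm
    have hxp : x ^ p = 1 := by rw [← hx]; exact pow_orderOf_eq_one x
    have hyZ : y ∉ Subgroup.center G := by
      intro h
      apply hx1
      apply Subtype.ext
      rw [← hyx]
      exact (hπ1 y).2 h
    have hyp : y ^ p ∈ Subgroup.center G := by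
      rw [← hπ1, map_pow, hyx]
      have := congrArg Subtype.val hxp
      simpa using this
    exact hD3 y hy hyZ p hp hyp
  have hidxS : ∀ p : ℕ, p.Prime → p ∣ A.index → p ∉ S := by
    intro p hp hd
    have : Fact p.Prime := ⟨hp⟩
    have hd' : p ∣ Nat.card ((G ⧸ Subgroup.center G) ⧸ A) := hd
    obtain ⟨q, hq⟩ := exists_prime_orderOf_dvd_card' p hd'
    obtain ⟨gbar, rfl⟩ := QuotientGroup.mk_surjective q
    obtain ⟨g, rfl⟩ := hπs gbar
    have hq1 : (QuotientGroup.mk (π g) : (G ⧸ Subgroup.center G) ⧸ A) ≠ 1 := by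
      intro h
      rw [h, orderOf_one] at hq
      exact hp.ne_one hq.symm
    have hqp : (QuotientGroup.mk (π g) : (G ⧸ Subgroup.center G) ⧸ A) ^ p = 1 := by
      rw [← hq]; exact pow_orderOf_eq_one _
    have hgY : g ∉ Y := by
      intro h
      apply hq1
      rw [QuotientGroup.eq_one_iff]
      exact (hpre g).2 h
    have hgp : g ^ p ∈ Y := by
      rw [← hpre, map_pow]
      rw [← QuotientGroup.mk_pow, QuotientGroup.eq_one_iff] at hqp
      exact hqp
    exact hD2 g hgY p hp hgp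
  have hcop : Nat.Coprime (Nat.card A) A.index :=
    Nat.coprime_of_dvd (fun k hk h1 h2 => hidxS k hk h2 (hcardS k hk h1))
  obtain ⟨H, hH⟩ := Subgroup.exists_right_complement'_of_coprime hcop
  have hA1 : A ≠ ⊥ := by
    obtain ⟨y, hy, hyZ⟩ := hYZ
    intro h
    have : π y ∈ A := Subgroup.mem_map_of_mem π hy
    rw [h, Subgroup.mem_bot, hπ1] at this
    exact hyZ this
  have hA2 : A ≠ ⊤ := by
    obtain ⟨g, hg⟩ := hYtop
    intro h
    apply hg
    rw [← hpre, h]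
    exact Subgroup.mem_top _
  have hdisj : ∀ x : G ⧸ Subgroup.center G, x ∈ A → x ∈ H → x = 1 := by
    intro x hxA hxH
    have := hH.disjoint
    rw [Subgroup.disjoint_def] at this
    exact this hxA hxH
  have hfree : ∀ h ∈ H, h ≠ 1 → ∀ a ∈ A, h * a = a * h → a = 1 := by
    intro h hh hh1 a ha hcomm'
    obtain ⟨x, rfl⟩ := hπs h
    obtain ⟨y, hy, rfl⟩ := Subgroup.mem_map.1 ha
    have hxY : x ∉ Y := by
      intro hxY
      exact hh1 (hdisj _ ((hpre x).2 hxY) hh)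
    have hz : x⁻¹ * y⁻¹ * x * y ∈ Subgroup.center G := by
      rw [← hπ1]
      have : π (x⁻¹ * y⁻¹ * x * y) = (π x)⁻¹ * (π y)⁻¹ * (π x * π y) := by
        simp only [map_mul, map_inv]; group
      rw [this, hcomm']; group
    exact (hπ1 y).2 (hfpf x hxY y hy hz)
  obtain ⟨hfrob, hker⟩ := frob_of_complement A H hH hA1 hA2 hfree
  refine ⟨H, hfrob, ⟨⟨fun a b => ?_⟩⟩, ?_⟩
  · apply Subtype.ext
    show (a : G ⧸ Subgroup.center G) * b = b * a
    obtain ⟨x₁, hx₁⟩ := hπs a.1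
    obtain ⟨x₂, hx₂⟩ := hπs b.1
    have h1 : (a : G ⧸ Subgroup.center G) * b * (a : G ⧸ Subgroup.center G)⁻¹ *
        (b : G ⧸ Subgroup.center G)⁻¹ ∈ A := by
      rw [← hx₁, ← hx₂]
      have : π x₁ * π x₂ * (π x₁)⁻¹ * (π x₂)⁻¹ = π (x₁ * x₂ * x₁⁻¹ * x₂⁻¹) := by
        simp only [map_mul, map_inv]
      rw [this]
      exact Subgroup.mem_map_of_mem π (hcomm x₁ x₂)
    have h2 : (a : G ⧸ Subgroup.center G) * b * (a : G ⧸ Subgroup.center G)⁻¹ *
        (b : G ⧸ Subgroup.center G)⁻¹ ∈ H :=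
      H.mul_mem (H.mul_mem (H.mul_mem a.2 b.2) (H.inv_mem a.2)) (H.inv_mem b.2)
    have h3 := hdisj _ h1 h2
    have : (a : G ⧸ Subgroup.center G) * b = (a : G ⧸ Subgroup.center G) * b *
        (a : G ⧸ Subgroup.center G)⁻¹ * (b : G ⧸ Subgroup.center G)⁻¹ * (b * a) := by group
    rw [this, h3, one_mul]
  · intro x hx y hy
    obtain ⟨u, hu, rfl⟩ := Subgroup.mem_map.1 (hker x hx)
    obtain ⟨v, hv, rfl⟩ := Subgroup.mem_map.1 (hker y hy)
    rw [← map_mul, ← map_mul, hab u hu v hv]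

end Cfsg.Agent.Lib.Helper75.FrobQuot
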