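import Cfsg.Agent.Lib.Helper49.StOpDefs
import Cfsg.Agent.Lib.Helper59.StOpR0a

/-!
# K-StOp-I2 (keystone 254806, S2548 pack of helper49): `r = rFlip (m-1)` normalises `B` and `B⁻`,
is an involution and is not in `B` (helper75).  The middle-entry facts (leaf R3) are proved here
under private names so that the file does not wait for R3.
-/

set_option autoImplicit false
set_option linter.unusedSectionVars false
set_option linter.unusedVariables false

namespace Cfsg.Agent.Lib.Helper75.StOp

open Cfsg Cfsg.Agent.Lib.Helper49.StOp Matrix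

variable {m : ℕ} {F : Type*} [Field F]

theorem i2_flipE_mul_self (k : Fin m) : flipE m k * flipE m k = 1 :=
  Equiv.swap_mul_self _ _

theorem i2_flipE_flipE (k : Fin m) (a : OI m) : flipE m k (flipE m k a) = a := by
  have h := congrArg (fun σ : Equiv.Perm (OI m) => σ a) (i2_flipE_mul_self k)
  exact h

theorem i2_rFlipMat_mul_self (k : Fin m) : rFlipMat m F k * rFlipMat m F k = 1 := by
  unfold rFlipMat
  rw [← Matrix.permMatrix_mul, i2_flipE_mul_self, Matrix.permMatrix_one]

theorem rFlip_mul_self (k : Fin m) : rFlip m F k * rFlip m F k = 1 := by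
  apply mat_injective
  rw [mat_mul, Cfsg.Agent.Lib.Helper59.StOp.mat_rFlip, i2_rFlipMat_mul_self, mat_one]

theorem i2_mat_rFlip_inv (k : Fin m) : mat (rFlip m F k)⁻¹ = rFlipMat m F k := by
  rw [mat_inv, Cfsg.Agent.Lib.Helper59.StOp.mat_rFlip]
  exact Matrix.inv_eq_right_inv (i2_rFlipMat_mul_self k)

theorem i2_entry (k : Fin m) (M : Matrix (OI m) (OI m) F) (a c : OI m) :
    (rFlipMat m F k * M * rFlipMat m F k) a c = M (flipE m k a) (flipE m k c) := by
  unfold rFlipMat Equiv.Perm.permMatrix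
  rw [PEquiv.mul_toMatrix_toPEquiv, Matrix.submatrix_apply, PEquiv.toMatrix_toPEquiv_mul,
    Matrix.submatrix_apply]
  have h : (flipE m k).symm c = flipE m k c := by
    rw [Equiv.symm_apply_eq, i2_flipE_flipE]
  rw [h]
  rfl

theorem i2_mat_conj (k : Fin m) (b : OG m F) (a c : OI m) :
    mat (rFlip m F k * b * (rFlip m F k)⁻¹) a c = mat b (flipE m k a) (flipE m k c) := by
  rw [mat_mul, mat_mul, i2_mat_rFlip_inv, Cfsg.Agent.Lib.Helper59.StOp.mat_rFlip, i2_entry]

/-! ### diagonal entries -/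

theorem i2_diag_ne_zero_B (g : OG m F) (hg : g ∈ Bsub m F) (a : OI m) : mat g a a ≠ 0 := by
  have hB := (mem_Bsub_iff g).1 hg
  have hB' := (mem_Bsub_iff g⁻¹).1 ((Bsub m F).inv_mem hg)
  have h1 : (mat g * mat g⁻¹) a a = 1 := by rw [mat_mul_mat_inv, Matrix.one_apply_eq]
  rw [Matrix.mul_apply, Finset.sum_eq_single a] at h1
  · intro h0
    rw [h0, zero_mul] at h1
    exact zero_ne_one h1
  · intro c _ hc
    rcases lt_or_gt_of_ne (fun e => hc (pos_injective m e)) with h | h
    · rw [hB a c h, zero_mul]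
    · rw [hB' c a h, mul_zero]
  · intro h; exact absurd (Finset.mem_univ _) h

theorem i2_diag_ne_zero_Bminus (g : OG m F) (hg : g ∈ Bminus m F) (a : OI m) : mat g a a ≠ 0 := by
  have hB := (mem_Bminus_iff g).1 hg
  have hB' := (mem_Bminus_iff g⁻¹).1 ((Bminus m F).inv_mem hg)
  have h1 : (mat g * mat g⁻¹) a a = 1 := by rw [mat_mul_mat_inv, Matrix.one_apply_eq]
  rw [Matrix.mul_apply, Finset.sum_eq_single a] at h1
  · intro h0
    rw [h0, zero_mul] at h1
    exact zero_ne_one h1
  · intro c _ hc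
    rcases lt_or_gt_of_ne (fun e => hc (pos_injective m e)) with h | h
    · rw [hB' c a h, mul_zero]
    · rw [hB a c h, zero_mul]
  · intro h; exact absurd (Finset.mem_univ _) h

/-! ### positions -/

theorem i2_pos_eI_last (hm : 0 < m) : pos m (eI (lastF hm)) = m - 1 := rfl

theorem i2_pos_fI_last (hm : 0 < m) : pos m (fI (lastF hm)) = m := by
  show 2 * m - 1 - (m - 1) = m
  omega

/-- an index of position `m - 1` is `e_last` -/
theorem i2_eq_eI_of_pos (hm : 0 < m) (a : OI m) (h : pos m a = m - 1) : a = eI (lastF hm) :=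
  pos_injective m (by rw [h, i2_pos_eI_last])

theorem i2_eq_fI_of_pos (hm : 0 < m) (a : OI m) (h : pos m a = m) : a = fI (lastF hm) :=
  pos_injective m (by rw [h, i2_pos_fI_last])

theorem i2_flipE_eI (k : Fin m) : flipE m k (eI k) = fI k := Equiv.swap_apply_left _ _

theorem i2_flipE_fI (k : Fin m) : flipE m k (fI k) = eI k := Equiv.swap_apply_right _ _

theorem i2_flipE_of_ne (k : Fin m) (a : OI m) (h1 : a ≠ eI k) (h2 : a ≠ fI k) :
    flipE m k a = a := Equiv.swap_apply_of_ne_of_ne h1 h2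

/-- the position of `flipE last a` -/
theorem i2_pos_flipE (hm : 0 < m) (a : OI m) :
    pos m (flipE m (lastF hm) a) =
      if pos m a = m - 1 then m else if pos m a = m then m - 1 else pos m a := by
  by_cases h1 : a = eI (lastF hm)
  · subst h1
    rw [i2_flipE_eI, i2_pos_fI_last, if_pos (i2_pos_eI_last hm)]
  · by_cases h2 : a = fI (lastF hm)
    · subst h2
      rw [i2_flipE_fI, i2_pos_eI_last, i2_pos_fI_last, if_neg (by omega), if_pos rfl]
    · rw [i2_flipE_of_ne _ _ h1 h2,
        if_neg (fun h => h1 (i2_eq_eI_of_pos hm a h)),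
        if_neg (fun h => h2 (i2_eq_fI_of_pos hm a h))]

/-! ### the middle entries (leaf R3, private copy) -/

theorem i2_quad_single (a : OI m) : Cfsg.quadFormPlus m F (Pi.single a (1 : F)) = 0 := by
  unfold Cfsg.quadFormPlus
  apply Finset.sum_eq_zero
  intro i _
  rcases a with a | a
  · have : (Pi.single (Sum.inl a : OI m) (1 : F) : OI m → F) (Sum.inr i) = 0 :=
      Pi.single_eq_of_ne (by simp) _
    rw [this, mul_zero]
  · have : (Pi.single (Sum.inr a : OI m) (1 : F) : OI m → F) (Sum.inl i) = 0 :=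
      Pi.single_eq_of_ne (by simp) _
    rw [this, zero_mul]

theorem i2_mulVec_single (M : Matrix (OI m) (OI m) F) (a c : OI m) :
    (M *ᵥ Pi.single c (1 : F)) a = M a c := by
  rw [Matrix.mulVec_single_one]
  rfl

theorem i2_mid_entry_B (hm : 0 < m) (g : OG m F) (hg : g ∈ Bsub m F) :
    mat g (eI (lastF hm)) (fI (lastF hm)) = 0 := by
  have hB := (mem_Bsub_iff g).1 hg
  have hQ := quad_mulVec g (Pi.single (fI (lastF hm)) (1 : F))
  rw [i2_quad_single] at hQ
  unfold Cfsg.quadFormPlus at hQ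
  rw [Finset.sum_eq_single (lastF hm)] at hQ
  · rw [i2_mulVec_single, i2_mulVec_single] at hQ
    rcases mul_eq_zero.1 hQ with h | h
    · exact h
    · exact absurd h (i2_diag_ne_zero_B g hg _)
  · intro i _ hi
    rw [i2_mulVec_single, i2_mulVec_single]
    have : mat g (Sum.inr i) (fI (lastF hm)) = 0 := by
      apply hB
      rw [i2_pos_fI_last]
      show m < 2 * m - 1 - i.val
      have h1 : i.val ≠ m - 1 := fun e => hi (Fin.ext e)
      have := i.2
      omega
    rw [this, mul_zero]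
  · intro h; exact absurd (Finset.mem_univ _) h

theorem i2_mid_entry_Bminus (hm : 0 < m) (g : OG m F) (hg : g ∈ Bminus m F) :
    mat g (fI (lastF hm)) (eI (lastF hm)) = 0 := by
  have hB := (mem_Bminus_iff g).1 hg
  have hQ := quad_mulVec g (Pi.single (eI (lastF hm)) (1 : F))
  rw [i2_quad_single] at hQ
  unfold Cfsg.quadFormPlus at hQ
  rw [Finset.sum_eq_single (lastF hm)] at hQ
  · rw [i2_mulVec_single, i2_mulVec_single] at hQ
    rcases mul_eq_zero.1 hQ with h | h
    · exact absurd h (i2_diag_ne_zero_Bminus g hg _)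
    · exact h
  · intro i _ hi
    rw [i2_mulVec_single, i2_mulVec_single]
    have : mat g (Sum.inl i) (eI (lastF hm)) = 0 := by
      apply hB
      rw [i2_pos_eI_last]
      show i.val < m - 1
      have h1 : i.val ≠ m - 1 := fun e => hi (Fin.ext e)
      have := i.2
      omega
    rw [this, zero_mul]
  · intro h; exact absurd (Finset.mem_univ _) h

/-! ### the leaf -/

theorem rFlip_conj_B (hm : 0 < m) (b : OG m F) (hb : b ∈ Bsub m F) :
    rFlip m F (lastF hm) * b * (rFlip m F (lastF hm))⁻¹ ∈ Bsub m F := by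
  have hB := (mem_Bsub_iff b).1 hb
  rw [mem_Bsub_iff]
  intro a c hac
  rw [i2_mat_conj]
  by_cases hspec : pos m a = m ∧ pos m c = m - 1
  · -- the reversed pair: `a = f_last`, `c = e_last`
    have ha := i2_eq_fI_of_pos hm a hspec.1
    have hc := i2_eq_eI_of_pos hm c hspec.2
    subst ha; subst hc
    rw [i2_flipE_fI, i2_flipE_eI]
    exact i2_mid_entry_B hm b hb
  · apply hB
    rw [i2_pos_flipE, i2_pos_flipE]
    split_ifs <;> omega

theorem rFlip_conj_Bminus (hm : 0 < m) (b : OG m F) (hb : b ∈ Bminus m F) :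
    rFlip m F (lastF hm) * b * (rFlip m F (lastF hm))⁻¹ ∈ Bminus m F := by
  have hB := (mem_Bminus_iff b).1 hb
  rw [mem_Bminus_iff]
  intro a c hac
  rw [i2_mat_conj]
  by_cases hspec : pos m a = m - 1 ∧ pos m c = m
  · have ha := i2_eq_eI_of_pos hm a hspec.1
    have hc := i2_eq_fI_of_pos hm c hspec.2
    subst ha; subst hc
    rw [i2_flipE_fI, i2_flipE_eI]
    exact i2_mid_entry_Bminus hm b hb
  · apply hB
    rw [i2_pos_flipE, i2_pos_flipE]
    split_ifs <;> omega

theorem rFlip_not_mem_B (hm : 0 < m) : rFlip m F (lastF hm) ∉ Bsub m F := by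
  intro h
  have hB := (mem_Bsub_iff _).1 h (fI (lastF hm)) (eI (lastF hm))
    (by rw [i2_pos_fI_last, i2_pos_eI_last]; omega)
  rw [Cfsg.Agent.Lib.Helper59.StOp.mat_rFlip] at hB
  unfold rFlipMat Equiv.Perm.permMatrix at hB
  rw [PEquiv.toMatrix_apply] at hB
  have h1 : (eI (lastF hm) : OI m) ∈ (Equiv.toPEquiv (flipE m (lastF hm))) (fI (lastF hm)) := by
    rw [Equiv.toPEquiv_apply, i2_flipE_fI]
    exact rfl
  rw [if_pos h1] at hB
  exact one_ne_zero hB

end Cfsg.Agent.Lib.Helper75.StOp
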