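import Mathlib

/-!
# K80-G: orthogonality relations for the dual `H →* ℂˣ` of a finite abelian group
-/

namespace Cfsg.Agent.Lib.Helper75.Jordan

open Finset

/-- values of characters of a finite group have norm one -/
theorem norm_char_apply {H : Type*} [CommGroup H] [Finite H] (β : H →* ℂˣ) (h : H) :
    ‖(β h : ℂ)‖ = 1 := by
  have hpos : 0 < orderOf h := orderOf_pos h
  have h1 : (β h : ℂ) ^ orderOf h = 1 := by
    have : (β h) ^ orderOf h = 1 := by
      rw [← map_pow, pow_orderOf_eq_one, map_one]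
    have h2 := congrArg (fun u : ℂˣ => (u : ℂ)) this
    simpa using h2
  exact Complex.norm_eq_one_of_pow_eq_one h1 hpos.ne'

/-- sum of a nontrivial character over the group vanishes -/
theorem sum_char_eq_zero {H : Type*} [CommGroup H] [Fintype H] (χ : H →* ℂˣ) (h0 : H)
    (hne : χ h0 ≠ 1) : ∑ h : H, (χ h : ℂ) = 0 := by
  have hshift : ∑ h : H, (χ h : ℂ) = (χ h0 : ℂ) * ∑ h : H, (χ h : ℂ) := by
    rw [Finset.mul_sum]
    rw [← Fintype.sum_bijective (fun h : H => h0 * h) (Group.mulLeft_bijective h0)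
      (fun h => (χ h0 : ℂ) * (χ h : ℂ)) (fun h => (χ h : ℂ))]
    intro h
    simp [map_mul]
  have hne' : (χ h0 : ℂ) ≠ 1 := by
    intro h
    apply hne
    exact Units.ext (by simpa using h)
  have : (1 - (χ h0 : ℂ)) * ∑ h : H, (χ h : ℂ) = 0 := by
    rw [sub_mul, one_mul, ← hshift, sub_self]
  rcases mul_eq_zero.mp this with h | h
  · exact absurd (sub_eq_zero.mp h).symm hne'
  · exact h

/-- sum over the dual of evaluation at a nontrivial element vanishes -/
theorem sum_dual_eq_zero {H : Type*} [CommGroup H] [Fintype (H →* ℂˣ)] (h : H)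
    (β0 : H →* ℂˣ) (hne : β0 h ≠ 1) : ∑ β : H →* ℂˣ, (β h : ℂ) = 0 := by
  have hshift : ∑ β : H →* ℂˣ, (β h : ℂ) = (β0 h : ℂ) * ∑ β : H →* ℂˣ, (β h : ℂ) := by
    rw [Finset.mul_sum]
    rw [← Fintype.sum_bijective (fun β : H →* ℂˣ => β0 * β) (Group.mulLeft_bijective β0)
      (fun β => (β0 h : ℂ) * (β h : ℂ)) (fun β => (β h : ℂ))]
    intro β
    simp [MonoidHom.mul_apply]
  have hne' : (β0 h : ℂ) ≠ 1 := by
    intro h'
    apply hne
    exact Units.ext (by simpa using h')
  have : (1 - (β0 h : ℂ)) * ∑ β : H →* ℂˣ, (β h : ℂ) = 0 := by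
    rw [sub_mul, one_mul, ← hshift, sub_self]
  rcases mul_eq_zero.mp this with h' | h'
  · exact absurd (sub_eq_zero.mp h').symm hne'
  · exact h'

theorem dual_orthogonality {H : Type*} [CommGroup H] [Fintype H] [Fintype (H →* ℂˣ)]
    [DecidableEq H] [DecidableEq (H →* ℂˣ)] :
    (∀ β γ : H →* ℂˣ, ∑ h : H, ((β h : ℂ))⁻¹ * (γ h : ℂ) = if β = γ then (Fintype.card H : ℂ) else 0) ∧
    (∀ h : H, ∑ β : H →* ℂˣ, (β h : ℂ) = if h = 1 then (Fintype.card H : ℂ) else 0) ∧
    (∀ (β : H →* ℂˣ) (h : H), ‖(β h : ℂ)‖ = 1) := by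
  have : NeZero (Monoid.exponent H) := ⟨(Monoid.exponent_pos_of_exists (Fintype.card H)
    Fintype.card_pos (fun g => pow_card_eq_one)).ne'⟩
  refine ⟨?_, ?_, fun β h => norm_char_apply β h⟩
  · intro β γ
    have hval : ∀ h : H, ((β h : ℂ))⁻¹ * (γ h : ℂ) = (((β⁻¹ * γ) h : ℂˣ) : ℂ) := by
      intro h
      simp [MonoidHom.mul_apply]
    simp_rw [hval]
    split_ifs with hbg
    · subst hbg
      simp
    · have hex : ∃ h0 : H, (β⁻¹ * γ) h0 ≠ 1 := by
        by_contra hcon
        push Not at hcon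
        apply hbg
        ext h
        have := hcon h
        rw [MonoidHom.mul_apply, MonoidHom.inv_apply, inv_mul_eq_one] at this
        rw [this]
      obtain ⟨h0, hh0⟩ := hex
      exact sum_char_eq_zero _ h0 hh0
  · intro h
    split_ifs with hh
    · subst hh
      simp only [map_one, Units.val_one, sum_const, card_univ, nsmul_eq_mul, mul_one]
      have := CommGroup.card_monoidHom_of_hasEnoughRootsOfUnity H ℂ
      rw [Nat.card_eq_fintype_card, Nat.card_eq_fintype_card] at this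
      rw [this]
    · obtain ⟨β0, hβ0⟩ := CommGroup.exists_apply_ne_one_of_hasEnoughRootsOfUnity H ℂ hh
      exact sum_dual_eq_zero h β0 hβ0

end Cfsg.Agent.Lib.Helper75.Jordan
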