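import Mathlib
import Cfsg.Agent.Lib.Helper71.SubgroupCount

set_option autoImplicit false

namespace Cfsg.Agent.Lib.Helper75.SubCount

/-- number of subgroups of order `p ^ a`. -/
noncomputable def sN (p a : ℕ) (G : Type*) [Group G] : ℕ :=
  Nat.card {H : Subgroup G // Nat.card H = p ^ a}

/-- Subgroups of `G` below `L` with a given order correspond to subgroups of `↥L`. -/
noncomputable def belowEquiv {G : Type*} [Group G] (L : Subgroup G) (n : ℕ) :
    {U : Subgroup G // U ≤ L ∧ Nat.card U = n} ≃ {U' : Subgroup ↥L // Nat.card U' = n} where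
  toFun U := ⟨U.1.subgroupOf L, by
    rw [Nat.card_congr (Subgroup.subgroupOfEquivOfLe U.2.1).toEquiv]; exact U.2.2⟩
  invFun U' := ⟨U'.1.map L.subtype, Subgroup.map_subtype_le _, by
    rw [Subgroup.card_map_of_injective L.subtype_injective]; exact U'.2⟩
  left_inv U := by
    apply Subtype.ext
    exact Subgroup.map_subgroupOf_eq_of_le U.2.1
  right_inv U' := by
    apply Subtype.ext
    exact Subgroup.comap_map_eq_self_of_injective L.subtype_injective U'.1

theorem card_below_eq {G : Type*} [Group G] (L : Subgroup G) (p a : ℕ) :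
    Nat.card {U : Subgroup G // U ≤ L ∧ Nat.card U = p ^ a} = sN p a ↥L :=
  Nat.card_congr (belowEquiv L (p ^ a))

/-- Correspondence theorem, counting form. -/
noncomputable def aboveEquiv {G : Type*} [Group G] (K : Subgroup G) [K.Normal] (m : ℕ) :
    {D : Subgroup G // K ≤ D ∧ D.index = m} ≃ {D' : Subgroup (G ⧸ K) // D'.index = m} where
  toFun D := ⟨D.1.map (QuotientGroup.mk' K), by
    rw [Subgroup.index_map_eq _ (QuotientGroup.mk'_surjective K) (by rw [QuotientGroup.ker_mk']; exact D.2.1)]
    exact D.2.2⟩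
  invFun D' := ⟨D'.1.comap (QuotientGroup.mk' K), by
      have := Subgroup.ker_le_comap (QuotientGroup.mk' K) D'.1
      rwa [QuotientGroup.ker_mk'] at this, by
    rw [Subgroup.index_comap_of_surjective _ (QuotientGroup.mk'_surjective K)]; exact D'.2⟩
  left_inv D := by
    apply Subtype.ext
    exact Subgroup.comap_map_eq_self (by rw [QuotientGroup.ker_mk']; exact D.2.1)
  right_inv D' := by
    apply Subtype.ext
    exact Subgroup.map_comap_eq_self_of_surjective (QuotientGroup.mk'_surjective K) D'.1

/-- Relative Frobenius count: the number of subgroups of index `p ^ j` containing a normal subgroup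
`K` of index `p ^ d` (`j ≤ d`) is `≡ 1 mod p`. -/
theorem card_above_modEq_one {G : Type*} [Group G] [Finite G] (p : ℕ) [hp : Fact p.Prime]
    (K : Subgroup G) [K.Normal] (d j : ℕ) (hK : K.index = p ^ d) (hj : j ≤ d) :
    Nat.card {D : Subgroup G // K ≤ D ∧ D.index = p ^ j} ≡ 1 [MOD p] := by
  rw [Nat.card_congr (aboveEquiv K (p ^ j))]
  have hQ : Nat.card (G ⧸ K) = p ^ d := by rw [← Subgroup.index_eq_card, hK]
  have hpos : 0 < p := hp.out.pos
  have e : {D' : Subgroup (G ⧸ K) // D'.index = p ^ j} ≃
      {D' : Subgroup (G ⧸ K) // Nat.card D' = p ^ (d - j)} := by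
    apply Equiv.subtypeEquivRight
    intro D'
    have h1 := D'.card_mul_index
    rw [hQ] at h1
    have h2 : p ^ d = p ^ (d - j) * p ^ j := by rw [← pow_add]; congr 1; omega
    constructor
    · intro h
      rw [h, h2] at h1
      exact Nat.eq_of_mul_eq_mul_right (pow_pos hpos j) h1
    · intro h
      rw [h, h2] at h1
      exact Nat.eq_of_mul_eq_mul_left (pow_pos hpos (d - j)) h1
  rw [Nat.card_congr e]
  apply Cfsg.Agent.Lib.Helper71.card_subgroups_modEq_one
  rw [hQ]
  exact pow_dvd_pow p (Nat.sub_le d j)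

end Cfsg.Agent.Lib.Helper75.SubCount
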