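import Mathlib
import Cfsg.Agent.Lib.Helper75.SubCount
import Cfsg.Agent.Lib.Helper75.PGroupFrattini

set_option autoImplicit false

namespace Cfsg.Agent.Lib.Helper75.SubCount

open scoped commutatorElement

theorem card_ne_one_add_one (Q : Type*) [Group Q] [Finite Q] :
    Nat.card {x : Q // x ≠ 1} + 1 = Nat.card Q := by
  have h1 : Nat.card {x : Q // x ≠ 1} = ({x : Q | x ≠ 1} : Set Q).ncard :=
    Nat.card_coe_set_eq _
  have h2 : ({x : Q | x ≠ 1} : Set Q) = Set.univ \ {1} := by
    ext x; simp
  rw [h1, h2, Set.ncard_sdiff_singleton_of_mem (Set.mem_univ 1), Set.ncard_univ]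
  have : 0 < Nat.card Q := Nat.card_pos
  omega

theorem card_mem_ne_one_add_one {Q : Type*} [Group Q] (H : Subgroup Q) [Finite H] :
    Nat.card {x : Q // x ∈ H ∧ x ≠ 1} + 1 = Nat.card H := by
  have h1 : Nat.card {x : Q // x ∈ H ∧ x ≠ 1} = ({x : Q | x ∈ H ∧ x ≠ 1} : Set Q).ncard :=
    Nat.card_coe_set_eq _
  have h2 : ({x : Q | x ∈ H ∧ x ≠ 1} : Set Q) = (H : Set Q) \ {1} := by
    ext x; simp
  have hfin : (H : Set Q).Finite := Set.toFinite _
  have h3 : Nat.card H = (H : Set Q).ncard := Nat.card_coe_set_eq _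
  rw [h1, h2, Set.ncard_sdiff_singleton_of_mem (H.one_mem) , h3]
  have : 0 < (H : Set Q).ncard := by
    rw [← h3]; exact Nat.card_pos
  omega

/-- A group of order `p ^ 2` and exponent `p` has exactly `p + 1` subgroups of index `p`. -/
theorem card_index_p_of_card_sq {Q : Type*} [Group Q] [Finite Q] {p : ℕ} [hp : Fact p.Prime]
    (hcard : Nat.card Q = p ^ 2) (hexp : ∀ x : Q, x ^ p = 1) :
    Nat.card {H : Subgroup Q // H.index = p} = p + 1 := by
  have hpp : p.Prime := hp.out
  have hpos : 0 < p := hpp.pos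
  -- index p iff card p
  have e : {H : Subgroup Q // H.index = p} ≃ {H : Subgroup Q // Nat.card H = p} := by
    apply Equiv.subtypeEquivRight
    intro H
    have h1 := H.card_mul_index
    rw [hcard, pow_two] at h1
    constructor
    · intro h
      rw [h] at h1
      exact Nat.eq_of_mul_eq_mul_right hpos h1
    · intro h
      rw [h] at h1
      exact Nat.eq_of_mul_eq_mul_left hpos h1
  rw [Nat.card_congr e]
  have hord : ∀ x : Q, x ≠ 1 → orderOf x = p := by
    intro x hx
    have h1 : orderOf x ∣ p := orderOf_dvd_of_pow_eq_one (hexp x)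
    rcases (Nat.dvd_prime hpp).mp h1 with h | h
    · exact absurd (orderOf_eq_one_iff.mp h) hx
    · exact h
  let f : {x : Q // x ≠ 1} → {H : Subgroup Q // Nat.card H = p} := fun x =>
    ⟨Subgroup.zpowers x.1, by rw [Nat.card_zpowers]; exact hord x.1 x.2⟩
  have hfib : ∀ H : {H : Subgroup Q // Nat.card H = p}, Nat.card {x : {x : Q // x ≠ 1} // f x = H} = p - 1 := by
    intro H
    have e2 : {x : {x : Q // x ≠ 1} // f x = H} ≃ {x : Q // x ∈ H.1 ∧ x ≠ 1} :=
      { toFun := fun x => ⟨x.1.1, by
            have h := congrArg Subtype.val x.2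
            simp only [f] at h
            rw [← h]; exact Subgroup.mem_zpowers _, x.1.2⟩
        invFun := fun x => ⟨⟨x.1, x.2.2⟩, by
            apply Subtype.ext
            simp only [f]
            apply Subgroup.eq_of_le_of_card_ge
            · rw [Subgroup.zpowers_le]; exact x.2.1
            · rw [H.2, Nat.card_zpowers, hord x.1 x.2.2]⟩
        left_inv := fun x => rfl
        right_inv := fun x => rfl }
    rw [Nat.card_congr e2]
    have := card_mem_ne_one_add_one H.1
    rw [H.2] at this
    omega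
  have h1 : Nat.card {x : Q // x ≠ 1} = Nat.card {H : Subgroup Q // Nat.card H = p} * (p - 1) := by
    have : Fintype {H : Subgroup Q // Nat.card H = p} := Fintype.ofFinite _
    rw [Nat.card_congr (Equiv.sigmaFiberEquiv f).symm, Nat.card_sigma]
    simp only [hfib]
    rw [Finset.sum_const, Finset.card_univ, smul_eq_mul, Nat.card_eq_fintype_card]
  have h2 := card_ne_one_add_one Q
  rw [hcard, h1] at h2
  have h3 : (p + 1) * (p - 1) + 1 = p ^ 2 := by
    obtain ⟨q, rfl⟩ : ∃ q, p = q + 1 := ⟨p - 1, by omega⟩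
    simp only [Nat.add_sub_cancel]
    ring
  have h4 : Nat.card {H : Subgroup Q // Nat.card H = p} * (p - 1) = (p + 1) * (p - 1) := by omega
  have hp1 : 0 < p - 1 := by have := hpp.two_le; omega
  exact Nat.eq_of_mul_eq_mul_right hp1 h4

theorem index_inf_of_index_p {G : Type*} [Group G] [Finite G] {p : ℕ}
    (M M' : Subgroup G) [M.Normal] (hM : M.index = p) (hM' : M'.index = p) (hp : p.Prime)
    (hne : M ≠ M') : (M ⊓ M').index = p ^ 2 := by
  have h1 : M.relIndex M' ∣ p := hM ▸ Subgroup.relIndex_dvd_index_of_normal M M'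
  have h2 : M.relIndex M' ≠ 1 := by
    rw [Ne, Subgroup.relIndex_eq_one]
    intro hle
    apply hne
    symm
    apply Subgroup.eq_of_le_of_card_ge hle
    have a1 := M.card_mul_index
    have a2 := M'.card_mul_index
    rw [hM] at a1
    rw [hM', ← a1] at a2
    exact (Nat.eq_of_mul_eq_mul_right hp.pos a2).ge
  have h3 : M.relIndex M' = p := by
    rcases (Nat.dvd_prime hp).mp h1 with h | h
    · exact absurd h h2
    · exact h
  have h4 := Subgroup.relIndex_mul_index (inf_le_right : M ⊓ M' ≤ M')
  rw [Subgroup.inf_relIndex_right, h3, hM'] at h4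
  rw [← h4, pow_two]

theorem card_offDiag (α : Type*) [Finite α] :
    Nat.card {x : α × α // x.1 ≠ x.2} + Nat.card α = Nat.card α * Nat.card α := by
  classical
  have e1 : {x : α × α // x.1 = x.2} ≃ α :=
    { toFun := fun x => x.1.1
      invFun := fun a => ⟨(a, a), rfl⟩
      left_inv := fun x => by
        apply Subtype.ext
        apply Prod.ext
        · rfl
        · exact x.2
      right_inv := fun a => rfl }
  have e2 := Equiv.sumCompl (fun x : α × α => x.1 = x.2)
  have h := Nat.card_congr e2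
  rw [Nat.card_sum, Nat.card_prod, Nat.card_congr e1] at h
  rw [← h]
  exact Nat.add_comm _ _

theorem arith_max (p r e : ℕ) (hp : 2 ≤ p) (hr : r ≡ 1 [MOD p]) (he : e ≡ 1 [MOD p])
    (h : r * r = r + e * (p * (p + 1))) : r ≡ 1 + p [MOD p ^ 2] := by
  have hr1 : 1 ≤ r := by
    rcases Nat.eq_zero_or_pos r with h0 | h0
    · exfalso
      rw [h0] at hr
      unfold Nat.ModEq at hr
      rw [Nat.zero_mod, Nat.mod_eq_of_lt (by omega : 1 < p)] at hr
      omega
    · exact h0
  have he1 : 1 ≤ e := by
    rcases Nat.eq_zero_or_pos e with h0 | h0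
    · exfalso
      rw [h0] at he
      unfold Nat.ModEq at he
      rw [Nat.zero_mod, Nat.mod_eq_of_lt (by omega : 1 < p)] at he
      omega
    · exact h0
  obtain ⟨j, hj⟩ := (Nat.modEq_iff_dvd' hr1).mp hr.symm
  obtain ⟨k, hk⟩ := (Nat.modEq_iff_dvd' he1).mp he.symm
  have hrj : r = 1 + p * j := by omega
  have hek : e = 1 + p * k := by omega
  rw [hrj, hek] at h
  have h2 : p * (j + p * (j * j)) = p * (1 + p * (1 + k + p * k)) := by
    nlinarith [h]
  have h3 : j + p * (j * j) = 1 + p * (1 + k + p * k) :=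
    Nat.eq_of_mul_eq_mul_left (by omega) h2
  have hj1 : j % p = 1 % p := by
    have a1 : (j + p * (j * j)) % p = j % p := Nat.add_mul_mod_self_left _ _ _
    have a2 : (1 + p * (1 + k + p * k)) % p = 1 % p := Nat.add_mul_mod_self_left _ _ _
    rw [← a1, h3, a2]
  have hj2 : 1 ≤ j := by
    rcases Nat.eq_zero_or_pos j with h0 | h0
    · exfalso
      rw [h0, Nat.zero_mod, Nat.mod_eq_of_lt (by omega : 1 < p)] at hj1
      omega
    · exact h0
  obtain ⟨t, ht⟩ := (Nat.modEq_iff_dvd' hj2).mp (show 1 ≡ j [MOD p] from hj1.symm)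
  have hjt : j = 1 + p * t := by omega
  rw [hrj, hjt]
  unfold Nat.ModEq
  have : 1 + p * (1 + p * t) = (1 + p) + p ^ 2 * t := by ring
  rw [this, Nat.add_mul_mod_self_left]

theorem normal_of_comm' {E : Type*} [Group E] (hcomm : ∀ a b : E, a * b = b * a)
    (H : Subgroup E) : H.Normal :=
  ⟨fun n hn g => by rw [hcomm g n, mul_inv_cancel_right]; exact hn⟩

theorem eq_of_le_of_index_eq {G : Type*} [Group G] [Finite G] {D E : Subgroup G} (h : D ≤ E)
    (hi : D.index = E.index) : D = E := by
  apply le_antisymm h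
  rw [← Subgroup.relIndex_eq_one]
  have h1 := Subgroup.relIndex_mul_index h
  rw [hi] at h1
  have hpos : 0 < E.index := Nat.pos_of_ne_zero Subgroup.index_ne_zero_of_finite
  have : D.relIndex E * E.index = 1 * E.index := by rw [h1, one_mul]
  exact Nat.eq_of_mul_eq_mul_right hpos this

/-- In an elementary abelian group of order `p ^ d`, `d ≥ 2`, the number of subgroups of index
`p` is `≡ 1 + p mod p ^ 2`. -/
theorem card_max_elementary {E : Type*} [Group E] [Finite E] {p : ℕ} [hp : Fact p.Prime]
    (hcomm : ∀ a b : E, a * b = b * a) (hexp : ∀ x : E, x ^ p = 1) (d : ℕ)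
    (hcard : Nat.card E = p ^ d) (hd : 2 ≤ d) :
    Nat.card {M : Subgroup E // M.index = p} ≡ 1 + p [MOD p ^ 2] := by
  have hpp : p.Prime := hp.out
  have hbot : (⊥ : Subgroup E).index = p ^ d := by rw [Subgroup.index_bot, hcard]
  have hr : Nat.card {M : Subgroup E // M.index = p} ≡ 1 [MOD p] := by
    have := card_above_modEq_one p (⊥ : Subgroup E) d 1 hbot (by omega)
    rw [pow_one] at this
    have e : {D : Subgroup E // ⊥ ≤ D ∧ D.index = p} ≃ {M : Subgroup E // M.index = p} :=
      Equiv.subtypeEquivRight (fun D => by simp)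
    rwa [Nat.card_congr e] at this
  have he : Nat.card {M : Subgroup E // M.index = p ^ 2} ≡ 1 [MOD p] := by
    have := card_above_modEq_one p (⊥ : Subgroup E) d 2 hbot hd
    have e : {D : Subgroup E // ⊥ ≤ D ∧ D.index = p ^ 2} ≃ {M : Subgroup E // M.index = p ^ 2} :=
      Equiv.subtypeEquivRight (fun D => by simp)
    rwa [Nat.card_congr e] at this
  apply arith_max p _ _ hpp.two_le hr he
  -- the pair count
  let 𝔐 := {M : Subgroup E // M.index = p}
  let 𝔇 := {M : Subgroup E // M.index = p ^ 2}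
  let g : {x : 𝔐 × 𝔐 // x.1 ≠ x.2} → 𝔇 := fun x =>
    ⟨x.1.1.1 ⊓ x.1.2.1, by
      have := normal_of_comm' hcomm x.1.1.1
      exact index_inf_of_index_p x.1.1.1 x.1.2.1 x.1.1.2 x.1.2.2 hpp
        (fun h => x.2 (Subtype.ext h))⟩
  have hfib : ∀ D : 𝔇, Nat.card {x : {x : 𝔐 × 𝔐 // x.1 ≠ x.2} // g x = D} = p * (p + 1) := by
    intro D
    have hDn : D.1.Normal := normal_of_comm' hcomm D.1
    let 𝔐D := {M : Subgroup E // D.1 ≤ M ∧ M.index = p}
    have hMD : Nat.card 𝔐D = p + 1 := by
      show Nat.card {M : Subgroup E // D.1 ≤ M ∧ M.index = p} = p + 1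
      rw [Nat.card_congr (aboveEquiv D.1 p)]
      apply card_index_p_of_card_sq
      · rw [← Subgroup.index_eq_card, D.2]
      · intro x
        obtain ⟨y, rfl⟩ := QuotientGroup.mk_surjective x
        rw [← QuotientGroup.mk_pow, hexp y]
        rfl
    have e2 : {x : {x : 𝔐 × 𝔐 // x.1 ≠ x.2} // g x = D} ≃ {y : 𝔐D × 𝔐D // y.1 ≠ y.2} :=
      { toFun := fun x => ⟨(⟨x.1.1.1.1, by
              have h := congrArg Subtype.val x.2
              simp only [g] at h
              rw [← h]; exact inf_le_left, x.1.1.1.2⟩,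
            ⟨x.1.1.2.1, by
              have h := congrArg Subtype.val x.2
              simp only [g] at h
              rw [← h]; exact inf_le_right, x.1.1.2.2⟩), by
            intro h
            apply x.1.2
            apply Subtype.ext
            have h' := congrArg Subtype.val h
            exact h'⟩
        invFun := fun y => ⟨⟨(⟨y.1.1.1, y.1.1.2.2⟩, ⟨y.1.2.1, y.1.2.2.2⟩), by
            intro h
            apply y.2
            apply Subtype.ext
            have h' := congrArg Subtype.val h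
            exact h'⟩, by
          apply Subtype.ext
          simp only [g]
          symm
          apply eq_of_le_of_index_eq (le_inf y.1.1.2.1 y.1.2.2.1)
          have := normal_of_comm' hcomm y.1.1.1
          rw [D.2, index_inf_of_index_p y.1.1.1 y.1.2.1 y.1.1.2.2 y.1.2.2.2 hpp
            (fun h => y.2 (Subtype.ext h))]⟩
        left_inv := fun x => rfl
        right_inv := fun y => rfl }
    rw [Nat.card_congr e2]
    have := card_offDiag 𝔐D
    rw [hMD] at this
    have h3 : (p + 1) * (p + 1) = p * (p + 1) + (p + 1) := by ring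
    omega
  have h1 : Nat.card {x : 𝔐 × 𝔐 // x.1 ≠ x.2} = Nat.card 𝔇 * (p * (p + 1)) := by
    have : Fintype 𝔇 := Fintype.ofFinite _
    rw [Nat.card_congr (Equiv.sigmaFiberEquiv g).symm, Nat.card_sigma]
    simp only [hfib]
    rw [Finset.sum_const, Finset.card_univ, smul_eq_mul, Nat.card_eq_fintype_card]
  have h2 := card_offDiag 𝔐
  rw [h1] at h2
  show Nat.card 𝔐 * Nat.card 𝔐 = Nat.card 𝔐 + Nat.card 𝔇 * (p * (p + 1))
  omega

end Cfsg.Agent.Lib.Helper75.SubCount
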