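import Mathlib
import Cfsg.Agent.Lib.Helper75.MaxCount

set_option autoImplicit false

namespace Cfsg.Agent.Lib.Helper75.SubCount

open scoped commutatorElement
open Cfsg.Agent.Lib.Helper75

theorem isCoatom_of_index_prime {G : Type*} [Group G] [Finite G] {p : ℕ} (hp : p.Prime)
    (M : Subgroup G) (hM : M.index = p) : IsCoatom M := by
  constructor
  · intro h
    rw [h, Subgroup.index_top] at hM
    exact hp.one_lt.ne hM
  · intro N hN
    have h1 : N.index ∣ p := hM ▸ Subgroup.index_dvd_of_le hN.le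
    rcases (Nat.dvd_prime hp).mp h1 with h | h
    · exact Subgroup.index_eq_one.mp h
    · exfalso
      exact hN.ne (eq_of_le_of_index_eq hN.le (by rw [hM, h]))

theorem frattini_le_of_index_prime {G : Type*} [Group G] [Finite G] {p : ℕ} (hp : p.Prime)
    (M : Subgroup G) (hM : M.index = p) : frattini G ≤ M :=
  frattini_le_coatom (isCoatom_of_index_prime hp M hM)

theorem normal_of_frattini_le {G : Type*} [Group G] [Finite G] {p : ℕ} [Fact p.Prime]
    (hG : IsPGroup p G) (D : Subgroup G) (h : frattini G ≤ D) : D.Normal := by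
  constructor
  intro n hn g
  have h1 : g * n * g⁻¹ = ⁅g, n⁆ * n := by
    rw [commutatorElement_def]; group
  rw [h1]
  apply D.mul_mem _ hn
  apply h
  apply commutator_le_frattini_of_isPGroup' hG
  rw [commutator_def]
  exact Subgroup.commutator_mem_commutator (Subgroup.mem_top _) (Subgroup.mem_top _)

theorem quot_comm_of_frattini_le {G : Type*} [Group G] [Finite G] {p : ℕ} [Fact p.Prime]
    (hG : IsPGroup p G) (K : Subgroup G) [K.Normal] (h : frattini G ≤ K) (a b : G ⧸ K) :
    a * b = b * a := by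
  obtain ⟨x, rfl⟩ := QuotientGroup.mk_surjective a
  obtain ⟨y, rfl⟩ := QuotientGroup.mk_surjective b
  rw [← QuotientGroup.mk_mul, ← QuotientGroup.mk_mul, QuotientGroup.eq]
  apply h
  apply commutator_le_frattini_of_isPGroup' hG
  rw [commutator_def]
  have : (x * y)⁻¹ * (y * x) = ⁅y⁻¹, x⁻¹⁆ := by
    rw [commutatorElement_def]; group
  rw [this]
  exact Subgroup.commutator_mem_commutator (Subgroup.mem_top _) (Subgroup.mem_top _)

theorem quot_pow_of_frattini_le {G : Type*} [Group G] [Finite G] {p : ℕ} [Fact p.Prime]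
    (hG : IsPGroup p G) (K : Subgroup G) [K.Normal] (h : frattini G ≤ K) (a : G ⧸ K) :
    a ^ p = 1 := by
  obtain ⟨x, rfl⟩ := QuotientGroup.mk_surjective a
  rw [← QuotientGroup.mk_pow, QuotientGroup.eq_one_iff]
  exact h (pow_mem_frattini_of_isPGroup' hG x)

/-- Number of maximal subgroups above `K ≥ Φ(G)`: `1` if `|G:K| = p`, `≡ 1 + p mod p ^ 2` if
`|G:K| ≥ p ^ 2`. -/
theorem card_max_above {G : Type*} [Group G] [Finite G] {p : ℕ} [hp : Fact p.Prime]
    (hG : IsPGroup p G) (K : Subgroup G) (hΦ : frattini G ≤ K) (d : ℕ) (hK : K.index = p ^ d) :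
    (d = 1 → Nat.card {M : Subgroup G // K ≤ M ∧ M.index = p} = 1) ∧
    (2 ≤ d → Nat.card {M : Subgroup G // K ≤ M ∧ M.index = p} ≡ 1 + p [MOD p ^ 2]) := by
  have hKn : K.Normal := normal_of_frattini_le hG K hΦ
  constructor
  · intro hd
    rw [hd, pow_one] at hK
    rw [Nat.card_eq_one_iff_exists]
    refine ⟨⟨K, le_refl K, hK⟩, ?_⟩
    intro M
    apply Subtype.ext
    exact (eq_of_le_of_index_eq M.2.1 (by rw [hK, M.2.2])).symm
  · intro hd
    rw [Nat.card_congr (aboveEquiv K p)]
    apply card_max_elementary (quot_comm_of_frattini_le hG K hΦ) (quot_pow_of_frattini_le hG K hΦ) d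
      _ hd
    rw [← Subgroup.index_eq_card, hK]

/-- The key congruence of the enumeration principle: for a proper subgroup `U` of a `p`-group,
`#{maximal M ≥ U} ≡ 1 + p * #{D ≥ U, D ≥ Φ, |G:D| = p ^ 2} mod p ^ 2`. -/
theorem card_max_over_modEq {G : Type*} [Group G] [Finite G] {p : ℕ} [hp : Fact p.Prime]
    (hG : IsPGroup p G) (U : Subgroup G) (hU : U ≠ ⊤) :
    Nat.card {M : Subgroup G // U ≤ M ∧ M.index = p} ≡
      1 + p * Nat.card {D : Subgroup G // U ≤ D ∧ frattini G ≤ D ∧ D.index = p ^ 2} [MOD p ^ 2] := by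
  have hpp : p.Prime := hp.out
  set K := U ⊔ frattini G with hKdef
  have hΦ : frattini G ≤ K := le_sup_right
  have hKn : K.Normal := normal_of_frattini_le hG K hΦ
  have hKtop : K ≠ ⊤ := fun h => hU (frattini_nongenerating h)
  have e1 : {M : Subgroup G // U ≤ M ∧ M.index = p} ≃ {M : Subgroup G // K ≤ M ∧ M.index = p} := by
    apply Equiv.subtypeEquivRight
    intro M
    constructor
    · rintro ⟨h1, h2⟩
      exact ⟨sup_le h1 (frattini_le_of_index_prime hpp M h2), h2⟩
    · rintro ⟨h1, h2⟩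
      exact ⟨le_trans le_sup_left h1, h2⟩
  have e2 : {D : Subgroup G // U ≤ D ∧ frattini G ≤ D ∧ D.index = p ^ 2} ≃
      {D : Subgroup G // K ≤ D ∧ D.index = p ^ 2} := by
    apply Equiv.subtypeEquivRight
    intro D
    constructor
    · rintro ⟨h1, h2, h3⟩
      exact ⟨sup_le h1 h2, h3⟩
    · rintro ⟨h1, h3⟩
      exact ⟨le_trans le_sup_left h1, le_trans le_sup_right h1, h3⟩
  rw [Nat.card_congr e1, Nat.card_congr e2]
  -- index of K
  obtain ⟨d, hd⟩ : ∃ d, K.index = p ^ d := by
    obtain ⟨n, hn⟩ := hG.exists_card_eq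
    have : K.index ∣ p ^ n := hn ▸ Subgroup.index_dvd_card K
    obtain ⟨d, _, hd⟩ := (Nat.dvd_prime_pow hpp).mp this
    exact ⟨d, hd⟩
  have hd0 : d ≠ 0 := by
    intro h
    rw [h, pow_zero] at hd
    exact hKtop (Subgroup.index_eq_one.mp hd)
  have hmax := card_max_above hG K hΦ d hd
  rcases Nat.lt_or_ge d 2 with h2 | h2
  · have hd1 : d = 1 := by omega
    rw [hmax.1 hd1]
    have hempty : Nat.card {D : Subgroup G // K ≤ D ∧ D.index = p ^ 2} = 0 := by
      rw [Nat.card_eq_zero]
      left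
      constructor
      rintro ⟨D, h1, h3⟩
      have := Subgroup.index_dvd_of_le h1
      rw [hd, hd1, h3, pow_one] at this
      have h4 : p ^ 2 ≤ p := Nat.le_of_dvd hpp.pos this
      have h5 : p < p ^ 2 := by
        rw [pow_two]; nlinarith [hpp.two_le]
      omega
    rw [hempty, Nat.mul_zero]
  · have h3 := hmax.2 h2
    have h4 := card_above_modEq_one p K d 2 hd h2
    have h5 : p * Nat.card {D : Subgroup G // K ≤ D ∧ D.index = p ^ 2} ≡ p * 1 [MOD p * p] :=
      Nat.ModEq.mul_left' p h4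
    rw [← pow_two, mul_one] at h5
    exact h3.trans (Nat.ModEq.add_left 1 h5.symm)

end Cfsg.Agent.Lib.Helper75.SubCount
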