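import Mathlib
import Cfsg.Agent.Lib.Helper75.EnumPrinciple
import Cfsg.Agent.Lib.Helper75.Generators
import Cfsg.Agent.Lib.Helper20.UniqueInvolution
import Cfsg.Agent.Lib.Helper97.UniqueOrderP
import Cfsg.Agent.Lib.Helper04.CyclicIndexP

set_option autoImplicit false

namespace Cfsg.Agent.Lib.Helper75.SubCount

open Cfsg.Agent.Lib.Helper75

/-- A finite cyclic group has exactly one subgroup of each prime-power order dividing its order. -/
theorem sN_of_isCyclic {G : Type*} [Group G] [Finite G] [IsCyclic G] (p a : ℕ) [hp : Fact p.Prime]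
    (hdvd : p ^ a ∣ Nat.card G) : sN p a G = 1 := by
  unfold sN
  rw [Nat.card_eq_one_iff_exists]
  obtain ⟨K, hK⟩ := Sylow.exists_subgroup_card_pow_prime p hdvd
  refine ⟨⟨K, hK⟩, ?_⟩
  intro H
  apply Subtype.ext
  exact Cfsg.Agent.Lib.Helper20.subgroup_eq_of_card_eq_of_isCyclic H.1 K (by rw [H.2, hK])

theorem card_index_pow_modEq_one {G : Type*} [Group G] [Finite G] (p : ℕ) [hp : Fact p.Prime]
    (n j : ℕ) (hcard : Nat.card G = p ^ n) (hj : j ≤ n) :
    Nat.card {M : Subgroup G // M.index = p ^ j} ≡ 1 [MOD p] := by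
  have hbot : (⊥ : Subgroup G).index = p ^ n := by rw [Subgroup.index_bot, hcard]
  have := card_above_modEq_one p (⊥ : Subgroup G) n j hbot hj
  have e : {D : Subgroup G // ⊥ ≤ D ∧ D.index = p ^ j} ≃ {M : Subgroup G // M.index = p ^ j} :=
    Equiv.subtypeEquivRight (fun D => by simp)
  rwa [Nat.card_congr e] at this

theorem card_split {α : Type*} [Finite α] (P Q : α → Prop) :
    Nat.card {x // P x} = Nat.card {x // P x ∧ Q x} + Nat.card {x // P x ∧ ¬ Q x} := by
  classical
  have e := Equiv.sumCompl (fun y : {x // P x} => Q y.1)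
  have h := Nat.card_congr e
  rw [Nat.card_sum, Nat.card_congr (Equiv.subtypeSubtypeEquivSubtypeInter P Q),
    Nat.card_congr (Equiv.subtypeSubtypeEquivSubtypeInter P (fun x => ¬ Q x))] at h
  exact h.symm

theorem frattini_index_of_not_cyclic {G : Type*} [Group G] [Finite G] {p : ℕ} [hp : Fact p.Prime]
    (hG : IsPGroup p G) (hnc : ¬ IsCyclic G) : ∃ d, 2 ≤ d ∧ (frattini G).index = p ^ d := by
  have hpp : p.Prime := hp.out
  obtain ⟨n, hn⟩ := hG.exists_card_eq
  have : (frattini G).index ∣ p ^ n := hn ▸ Subgroup.index_dvd_card _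
  obtain ⟨d, _, hd⟩ := (Nat.dvd_prime_pow hpp).mp this
  refine ⟨d, ?_, hd⟩
  by_contra hlt
  apply hnc
  obtain ⟨x, hx⟩ := exists_generators_of_frattini_index hpp hd
  have hd1 : d = 0 ∨ d = 1 := by omega
  rcases hd1 with h0 | h1
  · subst h0
    have : Set.range x = ∅ := Set.range_eq_empty x
    rw [this, Subgroup.closure_empty] at hx
    have hsub : Subsingleton G := by
      constructor
      intro a b
      have ha : a ∈ (⊥ : Subgroup G) := by rw [hx]; exact Subgroup.mem_top a
      have hb : b ∈ (⊥ : Subgroup G) := by rw [hx]; exact Subgroup.mem_top b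
      rw [Subgroup.mem_bot] at ha hb
      rw [ha, hb]
    exact isCyclic_of_subsingleton
  · subst h1
    rw [isCyclic_iff_exists_zpowers_eq_top]
    refine ⟨x 0, ?_⟩
    have : Set.range x = {x 0} := by
      ext y
      constructor
      · rintro ⟨i, rfl⟩
        have : i = 0 := Subsingleton.elim _ _
        rw [this]; rfl
      · intro hy
        exact ⟨0, hy.symm⟩
    rw [this, ← Subgroup.zpowers_eq_closure] at hx
    exact hx

/-- In a noncyclic `p`-group of odd order at least `p ^ 3`, the number of cyclic maximal subgroups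
is divisible by `p`. -/
theorem card_cyclic_max_modEq_zero {G : Type*} [Group G] [Finite G] {p : ℕ} [hp : Fact p.Prime]
    (hp2 : p ≠ 2) (n : ℕ) (hcard : Nat.card G = p ^ n) (hn : 3 ≤ n) (hnc : ¬ IsCyclic G) :
    Nat.card {M : Subgroup G // M.index = p ∧ IsCyclic M} ≡ 0 [MOD p] := by
  have hpp : p.Prime := hp.out
  have hG : IsPGroup p G := IsPGroup.of_card hcard
  by_cases hex : ∃ C : Subgroup G, IsCyclic C ∧ C.index = p
  · obtain ⟨C, hCc, hCi⟩ := hex
    obtain ⟨hΩc, hΩe, hΩcard⟩ :=
      Cfsg.Agent.Lib.Helper04.omega_one_of_cyclic_index_p hp2 hG hnc C hCc hCi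
    set Ω := Subgroup.closure {x : G | x ^ p = 1} with hΩdef
    have hΩn : Ω.Normal := by
      constructor
      intro x hx g
      have hle : Ω.map (MulAut.conj g).toMonoidHom ≤ Ω := by
        rw [hΩdef, MonoidHom.map_closure, Subgroup.closure_le]
        rintro _ ⟨y, hy, rfl⟩
        apply Subgroup.subset_closure
        show ((MulAut.conj g) y) ^ p = 1
        rw [MulAut.conj_apply, conj_pow, show y ^ p = 1 from hy]
        group
      have := hle (Subgroup.mem_map_of_mem _ hx)
      exact this
    have hΩidx : Ω.index = p ^ (n - 2) := by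
      have h1 := Ω.card_mul_index
      rw [hΩcard, hcard] at h1
      have h2 : p ^ n = p ^ 2 * p ^ (n - 2) := by rw [← pow_add]; congr 1; omega
      rw [h2] at h1
      exact Nat.eq_of_mul_eq_mul_left (pow_pos hpp.pos 2) h1
    have hΩnc : ¬ IsCyclic Ω := by
      intro hc
      obtain ⟨g, hg⟩ := IsCyclic.exists_ofOrder_eq_natCard (α := Ω)
      rw [hΩcard] at hg
      have h1 : (g : G) ^ p = 1 := hΩe g.1 g.2
      have h2 : g ^ p = 1 := Subtype.ext (by simpa using h1)
      have h3 := orderOf_dvd_of_pow_eq_one h2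
      rw [hg] at h3
      have h4 : p ^ 2 ≤ p := Nat.le_of_dvd hpp.pos h3
      have h5 : p < p ^ 2 := by rw [pow_two]; nlinarith [hpp.two_le]
      omega
    have key : ∀ M : Subgroup G, M.index = p → (IsCyclic M ↔ ¬ Ω ≤ M) := by
      intro M hM
      constructor
      · intro hMc hle
        exact hΩnc (Subgroup.isCyclic_of_le hle)
      · intro hnle
        have hinf_lt : M ⊓ Ω < Ω := by
          apply lt_of_le_of_ne inf_le_right
          intro h
          apply hnle
          rw [← h]; exact inf_le_left
        have hinf_card : Nat.card (M ⊓ Ω : Subgroup G) ∣ p ^ 2 := by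
          rw [← hΩcard]; exact Subgroup.card_dvd_of_le inf_le_right
        obtain ⟨k, hk2, hk⟩ := (Nat.dvd_prime_pow hpp).mp hinf_card
        have hk1 : k ≤ 1 := by
          by_contra hcon
          have hk2' : k = 2 := by omega
          rw [hk2'] at hk
          have : M ⊓ Ω = Ω := by
            apply Subgroup.eq_of_le_of_card_ge inf_le_right
            rw [hk, hΩcard]
          exact hinf_lt.ne this
        have hle_p : Nat.card (M ⊓ Ω : Subgroup G) ≤ p := by
          rw [hk]
          calc p ^ k ≤ p ^ 1 := Nat.pow_le_pow_right hpp.pos hk1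
            _ = p := pow_one p
        have hmap : ∀ H : Subgroup ↥M, Nat.card H = p → H.map M.subtype = M ⊓ Ω := by
          intro H hH
          have hle : H.map M.subtype ≤ M ⊓ Ω := by
            apply le_inf (Subgroup.map_subtype_le _)
            rintro _ ⟨x, hx, rfl⟩
            apply Subgroup.subset_closure
            show (M.subtype x) ^ p = 1
            have h1 : (⟨x, hx⟩ : H) ^ Nat.card H = 1 := pow_card_eq_one'
            rw [hH] at h1
            have h2 : x ^ p = 1 := by
              have := congrArg Subtype.val h1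
              simpa using this
            rw [← map_pow, h2, map_one]
          apply Subgroup.eq_of_le_of_card_ge hle
          rw [Subgroup.card_map_of_injective M.subtype_injective, hH]
          exact hle_p
        have huniq : ∀ H K : Subgroup ↥M, Nat.card H = p → Nat.card K = p → H = K := by
          intro H K hH hK
          apply Subgroup.map_injective M.subtype_injective
          rw [hmap H hH, hmap K hK]
        rcases Cfsg.Agent.Lib.Helper97.cyclic_or_quaternion_of_unique p (hG.to_subgroup M) huniq
          with h | ⟨h, _⟩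
        · exact h
        · exact absurd h hp2
    have e : {M : Subgroup G // M.index = p ∧ IsCyclic M} ≃
        {M : Subgroup G // M.index = p ∧ ¬ Ω ≤ M} := by
      apply Equiv.subtypeEquivRight
      intro M
      constructor
      · rintro ⟨h1, h2⟩
        exact ⟨h1, (key M h1).mp h2⟩
      · rintro ⟨h1, h2⟩
        exact ⟨h1, (key M h1).mpr h2⟩
    rw [Nat.card_congr e]
    have hsplit := card_split (fun M : Subgroup G => M.index = p) (fun M => Ω ≤ M)
    have h1 : Nat.card {M : Subgroup G // M.index = p} ≡ 1 [MOD p] := by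
      have := card_index_pow_modEq_one p n 1 hcard (by omega)
      rwa [pow_one] at this
    have h2 : Nat.card {M : Subgroup G // M.index = p ∧ Ω ≤ M} ≡ 1 [MOD p] := by
      have := card_above_modEq_one p Ω (n - 2) 1 hΩidx (by omega)
      rw [pow_one] at this
      have e2 : {D : Subgroup G // Ω ≤ D ∧ D.index = p} ≃ {M : Subgroup G // M.index = p ∧ Ω ≤ M} :=
        Equiv.subtypeEquivRight (fun D => and_comm)
      rwa [Nat.card_congr e2] at this
    rw [hsplit] at h1
    have h3 : 1 + Nat.card {M : Subgroup G // M.index = p ∧ ¬ Ω ≤ M} ≡ 1 + 0 [MOD p] :=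
      (Nat.ModEq.add_right _ h2.symm).trans h1
    exact Nat.ModEq.add_left_cancel' 1 h3
  · have : IsEmpty {M : Subgroup G // M.index = p ∧ IsCyclic M} := by
      constructor
      rintro ⟨M, h1, h2⟩
      exact hex ⟨M, h2, h1⟩
    rw [Nat.card_of_isEmpty]

end Cfsg.Agent.Lib.Helper75.SubCount
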