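import Mathlib
import Cfsg.Agent.Lib.Helper75.CycMaxCount

set_option autoImplicit false

universe u

namespace Cfsg.Agent.Lib.Helper75.SubCount

open Cfsg.Agent.Lib.Helper75

theorem sum_modEq {ι : Type*} [Fintype ι] (f g : ι → ℕ) (m : ℕ)
    (h : ∀ i, f i ≡ g i [MOD m]) : ∑ i, f i ≡ ∑ i, g i [MOD m] := by
  unfold Nat.ModEq
  rw [Finset.sum_nat_mod, Finset.sum_nat_mod (f := g)]
  congr 1
  apply Finset.sum_congr rfl
  intro i _
  exact h i

theorem sum_card_comm {α β : Type*} [Fintype α] [Fintype β] (R : α → β → Prop) :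
    ∑ a, Nat.card {b // R a b} = ∑ b, Nat.card {a // R a b} := by
  have e1 : (Σ a, {b // R a b}) ≃ {x : α × β // R x.1 x.2} :=
    { toFun := fun s => ⟨(s.1, s.2.1), s.2.2⟩
      invFun := fun x => ⟨x.1.1, x.1.2, x.2⟩
      left_inv := fun _ => rfl
      right_inv := fun _ => rfl }
  have e2 : (Σ b, {a // R a b}) ≃ {x : α × β // R x.1 x.2} :=
    { toFun := fun s => ⟨(s.2.1, s.1), s.2.2⟩
      invFun := fun x => ⟨x.1.2, x.1.1, x.2⟩
      left_inv := fun _ => rfl
      right_inv := fun _ => rfl }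
  rw [← Nat.card_sigma, ← Nat.card_sigma, Nat.card_congr e1, Nat.card_congr e2]

/-- the number of subgroups of order `p ^ a` below `L`, as a subtype of the subtype. -/
theorem card_le_eq {G : Type*} [Group G] (p a : ℕ) (L : Subgroup G) :
    Nat.card {U : {U : Subgroup G // Nat.card U = p ^ a} // U.1 ≤ L} = sN p a ↥L := by
  rw [← card_below_eq L p a]
  rw [Nat.card_congr (Equiv.subtypeSubtypeEquivSubtypeInter
    (fun U : Subgroup G => Nat.card U = p ^ a) (fun U => U ≤ L))]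
  exact Nat.card_congr (Equiv.subtypeEquivRight (fun U => and_comm))

theorem kulakoff_top {G : Type u} [Group G] [Finite G] (p : ℕ) [hp : Fact p.Prime] (n : ℕ)
    (hcard : Nat.card G = p ^ n) (hnc : ¬ IsCyclic G) (a : ℕ) (han : a + 1 = n) :
    sN p a G ≡ 1 + p [MOD p ^ 2] := by
  have hpp : p.Prime := hp.out
  have hG : IsPGroup p G := IsPGroup.of_card hcard
  obtain ⟨d, hd2, hd⟩ := frattini_index_of_not_cyclic hG hnc
  have e : {H : Subgroup G // Nat.card H = p ^ a} ≃
      {M : Subgroup G // frattini G ≤ M ∧ M.index = p} := by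
    apply Equiv.subtypeEquivRight
    intro H
    have h1 := H.card_mul_index
    rw [hcard, ← han, pow_succ] at h1
    constructor
    · intro h
      rw [h] at h1
      have h2 : H.index = p := Nat.eq_of_mul_eq_mul_left (pow_pos hpp.pos a) h1
      exact ⟨frattini_le_of_index_prime hpp H h2, h2⟩
    · rintro ⟨_, h⟩
      rw [h] at h1
      exact Nat.eq_of_mul_eq_mul_right hpp.pos h1
  unfold sN
  rw [Nat.card_congr e]
  exact (card_max_above hG (frattini G) le_rfl d hd).2 hd2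

theorem kulakoff_step (p : ℕ) [hp : Fact p.Prime] (hp2 : p ≠ 2) (n : ℕ)
    (ih : ∀ m < n, ∀ (H : Type u) [Group H] [Finite H], Nat.card H = p ^ m → ¬ IsCyclic H →
      ∀ a, 0 < a → a < m → sN p a H ≡ 1 + p [MOD p ^ 2])
    (G : Type u) [Group G] [Finite G] (hcard : Nat.card G = p ^ n) (hnc : ¬ IsCyclic G)
    (a : ℕ) (ha : 0 < a) (han : a + 2 ≤ n) : sN p a G ≡ 1 + p [MOD p ^ 2] := by
  classical
  have hpp : p.Prime := hp.out
  have hG : IsPGroup p G := IsPGroup.of_card hcard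
  obtain ⟨d, hd2, hd⟩ := frattini_index_of_not_cyclic hG hnc
  let 𝔖 := {U : Subgroup G // Nat.card U = p ^ a}
  let Γ₁ := {M : Subgroup G // M.index = p}
  let Γ₂ := {D : Subgroup G // frattini G ≤ D ∧ D.index = p ^ 2}
  have : Fintype 𝔖 := Fintype.ofFinite _
  have : Fintype Γ₁ := Fintype.ofFinite _
  have : Fintype Γ₂ := Fintype.ofFinite _
  -- every U is proper
  have hUtop : ∀ U : 𝔖, U.1 ≠ ⊤ := by
    intro U h
    have := U.2
    rw [h, Subgroup.card_top, hcard] at this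
    have := Nat.pow_right_injective hpp.two_le this
    omega
  -- (A)
  have hA : ∀ U : 𝔖, Nat.card {M : Γ₁ // U.1 ≤ M.1} ≡
      1 + p * Nat.card {D : Γ₂ // U.1 ≤ D.1} [MOD p ^ 2] := by
    intro U
    have h := card_max_over_modEq hG U.1 (hUtop U)
    have e1 : {M : Γ₁ // U.1 ≤ M.1} ≃ {M : Subgroup G // U.1 ≤ M ∧ M.index = p} :=
      (Equiv.subtypeSubtypeEquivSubtypeInter (fun M : Subgroup G => M.index = p)
        (fun M => U.1 ≤ M)).trans (Equiv.subtypeEquivRight (fun M => and_comm))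
    have e2 : {D : Γ₂ // U.1 ≤ D.1} ≃
        {D : Subgroup G // U.1 ≤ D ∧ frattini G ≤ D ∧ D.index = p ^ 2} :=
      (Equiv.subtypeSubtypeEquivSubtypeInter
        (fun D : Subgroup G => frattini G ≤ D ∧ D.index = p ^ 2)
        (fun D => U.1 ≤ D)).trans (Equiv.subtypeEquivRight (fun D => and_comm))
    rw [Nat.card_congr e1, Nat.card_congr e2]
    exact h
  -- double countings
  have hdc1 : ∑ M : Γ₁, Nat.card {U : 𝔖 // U.1 ≤ M.1} = ∑ U : 𝔖, Nat.card {M : Γ₁ // U.1 ≤ M.1} :=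
    sum_card_comm (fun (M : Γ₁) (U : 𝔖) => U.1 ≤ M.1)
  have hdc2 : ∑ D : Γ₂, Nat.card {U : 𝔖 // U.1 ≤ D.1} = ∑ U : 𝔖, Nat.card {D : Γ₂ // U.1 ≤ D.1} :=
    sum_card_comm (fun (D : Γ₂) (U : 𝔖) => U.1 ≤ D.1)
  -- (C)
  have hΓ₂ : Nat.card Γ₂ ≡ 1 [MOD p] := card_above_modEq_one p (frattini G) d 2 hd hd2
  have hC : ∑ U : 𝔖, Nat.card {D : Γ₂ // U.1 ≤ D.1} ≡ 1 [MOD p] := by
    rw [← hdc2]
    have h1 : ∑ D : Γ₂, Nat.card {U : 𝔖 // U.1 ≤ D.1} ≡ ∑ _D : Γ₂, 1 [MOD p] := by
      apply sum_modEq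
      intro D
      rw [card_le_eq p a D.1]
      apply Cfsg.Agent.Lib.Helper71.card_subgroups_modEq_one
      have h1 := D.1.card_mul_index
      rw [D.2.2, hcard] at h1
      have h2 : p ^ n = p ^ (n - 2) * p ^ 2 := by rw [← pow_add]; congr 1; omega
      rw [h2] at h1
      have h3 : Nat.card D.1 = p ^ (n - 2) := Nat.eq_of_mul_eq_mul_right (pow_pos hpp.pos 2) h1
      rw [h3]
      exact pow_dvd_pow p (by omega)
    refine h1.trans ?_
    rw [Finset.sum_const, Finset.card_univ, smul_eq_mul, mul_one, ← Nat.card_eq_fintype_card]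
    exact hΓ₂
  -- (B)
  have hB : ∑ U : 𝔖, Nat.card {M : Γ₁ // U.1 ≤ M.1} ≡ Nat.card 𝔖 + p [MOD p ^ 2] := by
    have h1 := sum_modEq _ _ _ hA
    refine h1.trans ?_
    rw [Finset.sum_add_distrib, Finset.sum_const, Finset.card_univ, smul_eq_mul, mul_one,
      ← Nat.card_eq_fintype_card, ← Finset.mul_sum]
    apply Nat.ModEq.add_left
    have := Nat.ModEq.mul_left' p hC
    rwa [← pow_two, mul_one] at this
  -- (D)
  have hr : Nat.card Γ₁ ≡ 1 + p [MOD p ^ 2] := by
    have := (card_max_above hG (frattini G) le_rfl d hd).2 hd2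
    have e : {M : Subgroup G // frattini G ≤ M ∧ M.index = p} ≃ Γ₁ := by
      apply Equiv.subtypeEquivRight
      intro M
      constructor
      · rintro ⟨_, h⟩; exact h
      · intro h; exact ⟨frattini_le_of_index_prime hpp M h, h⟩
    rwa [Nat.card_congr e] at this
  have hc : Nat.card {M : Γ₁ // IsCyclic M.1} ≡ 0 [MOD p] := by
    have := card_cyclic_max_modEq_zero hp2 n hcard (by omega) hnc
    rwa [← Nat.card_congr (Equiv.subtypeSubtypeEquivSubtypeInter
      (fun M : Subgroup G => M.index = p) (fun M => IsCyclic M))] at this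
  have hMcard : ∀ M : Γ₁, Nat.card M.1 = p ^ (n - 1) := by
    intro M
    have h1 := M.1.card_mul_index
    rw [M.2, hcard] at h1
    have h2 : p ^ n = p ^ (n - 1) * p := by rw [← pow_succ]; congr 1; omega
    rw [h2] at h1
    exact Nat.eq_of_mul_eq_mul_right hpp.pos h1
  have hD1 : ∀ M : Γ₁, Nat.card {U : 𝔖 // U.1 ≤ M.1} + p * (if IsCyclic M.1 then 1 else 0) ≡
      1 + p [MOD p ^ 2] := by
    intro M
    rw [card_le_eq p a M.1]
    by_cases hMc : IsCyclic M.1
    · rw [if_pos hMc, mul_one]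
      have : sN p a ↥M.1 = 1 := by
        apply sN_of_isCyclic
        rw [hMcard M]
        exact pow_dvd_pow p (by omega)
      rw [this]
    · rw [if_neg hMc, mul_zero, add_zero]
      exact ih (n - 1) (by omega) ↥M.1 (hMcard M) hMc a ha (by omega)
  have hD : ∑ M : Γ₁, Nat.card {U : 𝔖 // U.1 ≤ M.1} ≡ 1 + 2 * p [MOD p ^ 2] := by
    have h1 := sum_modEq _ _ _ hD1
    rw [Finset.sum_add_distrib, ← Finset.mul_sum, Finset.sum_boole, Finset.sum_const,
      Finset.card_univ, smul_eq_mul] at h1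
    have h2 : (Finset.univ.filter (fun M : Γ₁ => IsCyclic M.1)).card =
        Nat.card {M : Γ₁ // IsCyclic M.1} := by
      rw [Nat.card_eq_fintype_card, Fintype.card_subtype]
    rw [Nat.cast_id, h2, ← Nat.card_eq_fintype_card] at h1
    have h3 : p * Nat.card {M : Γ₁ // IsCyclic M.1} ≡ 0 [MOD p ^ 2] := by
      have := Nat.ModEq.mul_left' p hc
      rwa [← pow_two, mul_zero] at this
    have h4 : Nat.card Γ₁ * (1 + p) ≡ 1 + 2 * p [MOD p ^ 2] := by
      have := Nat.ModEq.mul_right (1 + p) hr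
      refine this.trans ?_
      unfold Nat.ModEq
      have : (1 + p) * (1 + p) = (1 + 2 * p) + p ^ 2 * 1 := by ring
      rw [this, Nat.add_mul_mod_self_left]
    have h5 : ∑ M : Γ₁, Nat.card {U : 𝔖 // U.1 ≤ M.1} + 0 ≡ 1 + 2 * p [MOD p ^ 2] :=
      ((Nat.ModEq.add_left _ h3.symm).trans h1).trans h4
    rwa [add_zero] at h5
  -- combine
  rw [hdc1] at hD
  have hfin : Nat.card 𝔖 + p ≡ (1 + p) + p [MOD p ^ 2] := by
    have : (1 + p) + p = 1 + 2 * p := by ring
    rw [this]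
    exact hB.symm.trans hD
  exact Nat.ModEq.add_right_cancel' p hfin

/-- **Kulakoff's theorem**: a noncyclic group of order `p ^ n`, `p` odd, has `≡ 1 + p mod p ^ 2`
subgroups of each order `p ^ a`, `0 < a < n`. -/
theorem kulakoff (p : ℕ) [hp : Fact p.Prime] (hp2 : p ≠ 2) :
    ∀ (n : ℕ) (G : Type u) [Group G] [Finite G], Nat.card G = p ^ n → ¬ IsCyclic G →
      ∀ a, 0 < a → a < n → sN p a G ≡ 1 + p [MOD p ^ 2] := by
  intro n
  induction n using Nat.strong_induction_on with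
  | _ n ih =>
    intro G _ _ hcard hnc a ha han
    rcases Nat.lt_or_ge (a + 1) n with h | h
    · exact kulakoff_step p hp2 n ih G hcard hnc a ha (by omega)
    · exact kulakoff_top p n hcard hnc a (by omega)

end Cfsg.Agent.Lib.Helper75.SubCount
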