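import Mathlib

/-!
# Counting orbits by pointwise lower bounds on orbit sizes (helper75)

* `card_orbits_eq_sum_inv`: the number of orbits is `∑ x, 1 / |orbit x|`.
* `card_orbits_mul_le_sum`: if `c ≤ w x * |orbit x|` for all `x`, then `c * #orbits ≤ ∑ x, w x`.
* `card_autOrbits_le_card_conjClasses`: `Aut(G)` has at most `k(G)` orbits on `G`.
-/

set_option autoImplicit false

namespace Cfsg.Agent.Lib.Helper75.AutOrb

open MulAction

section general

variable {A X : Type*} [Group A] [MulAction A X]

/-- The number of orbits as a sum of reciprocals of orbit sizes. -/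
theorem card_orbits_eq_sum_inv [Fintype X] [Fintype (orbitRel.Quotient A X)] :
    (Fintype.card (orbitRel.Quotient A X) : ℚ) =
      ∑ x : X, (1 : ℚ) / (Nat.card (orbit A x)) := by
  classical
  let e := selfEquivSigmaOrbits' A X
  have : ∀ q : orbitRel.Quotient A X, Fintype q.orbit := fun q => Fintype.ofFinite _
  rw [← Equiv.sum_comp e.symm, Fintype.sum_sigma]
  have hq : ∀ q : orbitRel.Quotient A X,
      ∑ y : q.orbit, (1 : ℚ) / (Nat.card (orbit A (e.symm ⟨q, y⟩))) = 1 := by
    intro q
    have hy : ∀ y : q.orbit, orbit A (e.symm ⟨q, y⟩) = q.orbit := by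
      intro y
      have h1 : e.symm ⟨q, y⟩ = (y : X) := rfl
      rw [h1]
      have h2 : (Quotient.mk'' (y : X) : orbitRel.Quotient A X) = q :=
        orbitRel.Quotient.mem_orbit.1 y.2
      rw [← orbitRel.Quotient.orbit_mk (G := A) (y : X)]
      exact congrArg _ h2
    simp only [hy]
    rw [Finset.sum_const, Finset.card_univ, nsmul_eq_mul, Nat.card_eq_fintype_card]
    have hne : (Fintype.card q.orbit : ℚ) ≠ 0 := by
      have : Nonempty q.orbit := by
        obtain ⟨a, ha⟩ := Quotient.exists_rep q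
        exact ⟨⟨a, orbitRel.Quotient.mem_orbit.2 ha⟩⟩
      exact_mod_cast Fintype.card_ne_zero
    field_simp
  rw [Finset.sum_congr rfl (fun q _ => hq q)]
  simp

/-- Weighted orbit counting: if `c ≤ w x * |orbit x|` for every `x`, then
`c * #orbits ≤ ∑ x, w x`. -/
theorem card_orbits_mul_le_sum [Fintype X] (c : ℕ) (w : X → ℕ)
    (h : ∀ x : X, c ≤ w x * Nat.card (orbit A x)) :
    c * Nat.card (orbitRel.Quotient A X) ≤ ∑ x : X, w x := by
  classical
  have : Fintype (orbitRel.Quotient A X) := Fintype.ofFinite _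
  rw [Nat.card_eq_fintype_card]
  have key : ((c * Fintype.card (orbitRel.Quotient A X) : ℕ) : ℚ) ≤ ((∑ x : X, w x : ℕ) : ℚ) := by
    push_cast
    rw [card_orbits_eq_sum_inv (A := A) (X := X), Finset.mul_sum]
    apply Finset.sum_le_sum
    intro x _
    have hpos : 0 < Nat.card (orbit A x) := by
      have : Nonempty (orbit A x) := ⟨⟨x, mem_orbit_self x⟩⟩
      exact Nat.card_pos
    have hposq : (0 : ℚ) < (Nat.card (orbit A x) : ℚ) := by exact_mod_cast hpos
    rw [mul_one_div, div_le_iff₀ hposq]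
    exact_mod_cast h x
  exact_mod_cast key

end general

section aut

variable {G : Type*} [Group G]

theorem conj_mem_orbit (g x : G) : g * x * g⁻¹ ∈ orbit (MulAut G) x :=
  mem_orbit_iff.2 ⟨MulAut.conj g, by rw [MulAut.smul_def, MulAut.conj_apply]⟩

theorem apply_mem_orbit (α : MulAut G) (x : G) : α x ∈ orbit (MulAut G) x :=
  mem_orbit_iff.2 ⟨α, by rw [MulAut.smul_def]⟩

theorem mem_orbit_trans {x y z : G} (h1 : y ∈ orbit (MulAut G) x) (h2 : z ∈ orbit (MulAut G) y) :
    z ∈ orbit (MulAut G) x := by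
  obtain ⟨a, rfl⟩ := mem_orbit_iff.1 h1
  obtain ⟨b, rfl⟩ := mem_orbit_iff.1 h2
  exact mem_orbit_iff.2 ⟨b * a, by rw [mul_smul]⟩

/-- `Aut(G)` has at most `k(G)` orbits on `G`. -/
theorem card_autOrbits_le_card_conjClasses [Finite G] :
    Nat.card (orbitRel.Quotient (MulAut G) G) ≤ Nat.card (ConjClasses G) := by
  let f : ConjClasses G → orbitRel.Quotient (MulAut G) G :=
    Quotient.map' id (by
      intro a b hab
      obtain ⟨c, hc⟩ := isConj_iff.1 hab
      change a ∈ orbit (MulAut G) b
      have : a = c⁻¹ * b * c⁻¹⁻¹ := by rw [← hc]; group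
      rw [this]
      exact conj_mem_orbit _ _)
  have hf : Function.Surjective f := by
    intro q
    obtain ⟨a, rfl⟩ := Quotient.exists_rep q
    exact ⟨ConjClasses.mk a, rfl⟩
  exact Nat.card_le_card_of_surjective f hf

end aut

end Cfsg.Agent.Lib.Helper75.AutOrb
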