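import Mathlib
import Cfsg.Agent.Lib.Helper83.LinearCount
import Cfsg.Agent.Lib.Helper83.SecondOrth

/-!
# `k(G) ≤ |G| / p` when `|G'| > p` (helper75)

If every divisor `d ≠ 1` of `|G|` is at least `p` and `|G'| ≥ p + 1`, then `p * k(G) ≤ |G|`:
there are `|G : G'|` linear characters and every other irreducible character has degree `≥ p`.
-/

set_option autoImplicit false

namespace Cfsg.Agent.Lib.Helper75.AutOrb

open Cfsg Cfsg.Agent.Lib.Helper83

universe u
variable {G : Type u} [Group G]

theorem mul_card_conjClasses_le [Finite G] (p : ℕ) (hp1 : 1 ≤ p)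
    (hp : ∀ d : ℕ, d ∣ Nat.card G → d ≠ 1 → p ≤ d)
    (hcomm : p + 1 ≤ Nat.card (commutator G)) :
    p * Nat.card (ConjClasses G) ≤ Nat.card G := by
  classical
  have := Fintype.ofFinite G
  have : Fintype (IrrCharacter G) := Fintype.ofFinite _
  rw [← card_irr_eq_card_conjClasses, Nat.card_eq_fintype_card]
  set L : Finset (IrrCharacter G) := Finset.univ.filter (fun χ => charDegree (χ : G → ℂ) = 1) with hL
  set NL : Finset (IrrCharacter G) := Finset.univ.filter (fun χ => ¬ charDegree (χ : G → ℂ) = 1) with hNL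
  have hcard : Fintype.card (IrrCharacter G) = L.card + NL.card := by
    rw [hL, hNL, ← Finset.card_univ]
    exact (Finset.card_filter_add_card_filter_not _).symm
  have hLcard : L.card = (commutator G).index := by
    rw [← card_linear_eq_index_commutator (G := G), Nat.card_eq_fintype_card, Fintype.card_subtype]
    rw [hL]
    congr 1
    ext χ
    simp only [Finset.mem_filter, Finset.mem_univ, true_and]
    rw [← charDegree_cast (IrrCharacter_isCharacter χ)]
    constructor
    · intro h; rw [h]; simp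
    · intro h; exact_mod_cast h
  have hsum := sum_charDegree_sq (G := G)
  have hsplit : ∑ χ : IrrCharacter G, (charDegree (χ : G → ℂ)) ^ 2
      = ∑ χ ∈ L, (charDegree (χ : G → ℂ)) ^ 2 + ∑ χ ∈ NL, (charDegree (χ : G → ℂ)) ^ 2 := by
    rw [hL, hNL]
    exact (Finset.sum_filter_add_sum_filter_not _ _ _).symm
  have hLsum : ∑ χ ∈ L, (charDegree (χ : G → ℂ)) ^ 2 = L.card := by
    rw [Finset.card_eq_sum_ones]
    apply Finset.sum_congr rfl
    intro χ hχ
    rw [hL, Finset.mem_filter] at hχ
    rw [hχ.2]; rfl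
  have hNLsum : NL.card * p ^ 2 ≤ ∑ χ ∈ NL, (charDegree (χ : G → ℂ)) ^ 2 := by
    rw [← smul_eq_mul, ← Finset.sum_const]
    apply Finset.sum_le_sum
    intro χ hχ
    rw [hNL, Finset.mem_filter] at hχ
    have h1 : p ≤ charDegree (χ : G → ℂ) := hp _ (irr_charDegree_dvd_card χ) hχ.2
    exact Nat.pow_le_pow_left h1 2
  have hidx : (commutator G).index * Nat.card (commutator G) = Nat.card G := by
    rw [mul_comm]; exact Subgroup.card_mul_index _
  set a := (commutator G).index with ha
  set m := NL.card with hm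
  set n := Nat.card G with hn
  set c := Nat.card (commutator G) with hc
  have h1 : a + m * p ^ 2 ≤ n := by
    rw [← hsum, hsplit, hLsum, hLcard]
    exact Nat.add_le_add_left hNLsum _
  have h2 : a * (p + 1) ≤ n := by
    rw [← hidx]; exact Nat.mul_le_mul_left _ hcomm
  rw [hcard, hLcard]
  -- p * (a + m) ≤ n
  obtain ⟨q, rfl⟩ : ∃ q, p = q + 1 := ⟨p - 1, by omega⟩
  nlinarith [h1, h2, Nat.zero_le (q * a), Nat.zero_le (q * m), Nat.zero_le (q * q * m)]

end Cfsg.Agent.Lib.Helper75.AutOrb
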