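import Mathlib

/-!
# Automorphisms of groups whose commutators with a fixed element are powers of a central element
(helper75)

Let `c` be a central element of order `p` and `y` an element such that every commutator `⁅h, y⁆`
is a power of `c`. We construct
* central automorphisms `h ↦ h * w ^ (log_c ⁅h, y⁆)` (`w` central, `w ^ p = 1`);
* "transvections" `h ↦ h * y ^ i * c ^ (-(i choose 2))`, `i = log_c ⁅h, y⁆`, when
  `y ^ p = c ^ (p choose 2)`.
-/

set_option autoImplicit false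

namespace Cfsg.Agent.Lib.Helper75.AutOrb

open scoped commutatorElement

variable {G : Type*} [Group G]

theorem choose_two_succ (n : ℕ) : (n + 1).choose 2 = n.choose 2 + n := by
  rw [Nat.choose_succ_succ, Nat.choose_one_right]; ring

theorem choose_two_add (i j : ℕ) : (i + j).choose 2 = i.choose 2 + j.choose 2 + i * j := by
  induction j with
  | zero => simp
  | succ j ih =>
    rw [← add_assoc, choose_two_succ, ih, choose_two_succ]; ring

/-- `⁅g * h, y⁆ = ⁅g, y⁆ * ⁅h, y⁆` when `⁅h, y⁆` is central. -/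
theorem commutator_mul_left_of_central {g h y : G} (hc : ⁅h, y⁆ ∈ Subgroup.center G) :
    ⁅g * h, y⁆ = ⁅g, y⁆ * ⁅h, y⁆ := by
  have hz : ∀ a : G, a * ⁅h, y⁆ = ⁅h, y⁆ * a := fun a => Subgroup.mem_center_iff.1 hc a
  have h1 : ⁅g * h, y⁆ = g * ⁅h, y⁆ * (y * g⁻¹ * y⁻¹) := by
    simp only [commutatorElement_def]; group
  rw [h1, hz g, mul_assoc, ← hz]
  simp only [commutatorElement_def]; group

/-- Abstract construction: an automorphism `h ↦ h * θ (log_c ⁅h, y⁆)`. -/
theorem exists_aut_of_theta [Finite G] {p : ℕ} (c y : G) (hc : c ∈ Subgroup.center G)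
    (hord : orderOf c = p) (hcy : ∀ h : G, ∃ i : ℕ, ⁅h, y⁆ = c ^ i) (θ : ℕ → G)
    (hθper : ∀ i j : ℕ, i ≡ j [MOD p] → θ i = θ j)
    (hθmul : ∀ (i j : ℕ) (h : G), ⁅h, y⁆ = c ^ j → θ i * h * θ j = h * θ (i + j))
    (hθy : ∀ i : ℕ, θ i * y = y * θ i) (hθ0 : θ 0 = 1) :
    ∃ α : MulAut G, ∀ (h : G) (i : ℕ), ⁅h, y⁆ = c ^ i → α h = h * θ i := by
  classical
  choose lg hlg using hcy
  have hcen : ∀ h : G, ⁅h, y⁆ ∈ Subgroup.center G := by
    intro h; rw [hlg h]; exact Subgroup.pow_mem _ hc _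
  have hlgmul : ∀ g h : G, lg (g * h) ≡ lg g + lg h [MOD p] := by
    intro g h
    rw [← hord, ← pow_eq_pow_iff_modEq, ← hlg, pow_add, ← hlg, ← hlg]
    exact commutator_mul_left_of_central (hcen h)
  have hlguniq : ∀ (h : G) (i : ℕ), ⁅h, y⁆ = c ^ i → i ≡ lg h [MOD p] := by
    intro h i hi
    rw [← hord, ← pow_eq_pow_iff_modEq, ← hlg, hi]
  let f : G →* G := MonoidHom.mk' (fun h => h * θ (lg h)) (by
    intro g h
    change g * h * θ (lg (g * h)) = g * θ (lg g) * (h * θ (lg h))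
    rw [hθper _ _ (hlgmul g h)]
    calc g * h * θ (lg g + lg h) = g * (h * θ (lg g + lg h)) := mul_assoc _ _ _
      _ = g * (θ (lg g) * h * θ (lg h)) := by rw [hθmul (lg g) (lg h) h (hlg h)]
      _ = g * θ (lg g) * (h * θ (lg h)) := by simp only [mul_assoc])
  have hinj : Function.Injective f := by
    rw [injective_iff_map_eq_one]
    intro h hh
    change h * θ (lg h) = 1 at hh
    have h1 : h = (θ (lg h))⁻¹ := eq_inv_of_mul_eq_one_left hh
    have h2 : h * y = y * h := by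
      rw [h1]
      have := hθy (lg h)
      calc (θ (lg h))⁻¹ * y = (θ (lg h))⁻¹ * (y * θ (lg h)) * (θ (lg h))⁻¹ := by group
        _ = (θ (lg h))⁻¹ * (θ (lg h) * y) * (θ (lg h))⁻¹ := by rw [this]
        _ = y * (θ (lg h))⁻¹ := by group
    have h3 : ⁅h, y⁆ = c ^ 0 := by
      rw [commutatorElement_def, h2, pow_zero]; group
    have h4 : θ (lg h) = 1 := by
      rw [← hθ0]; exact hθper _ _ (hlguniq h 0 h3).symm
    rw [h4, mul_one] at hh
    exact hh
  have hbij : Function.Bijective f := Finite.injective_iff_bijective.1 hinj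
  refine ⟨MulEquiv.ofBijective f hbij, ?_⟩
  intro h i hi
  change h * θ (lg h) = h * θ i
  rw [hθper _ _ (hlguniq h i hi)]

/-- Central automorphisms. -/
theorem exists_central_aut [Finite G] {p : ℕ} (c y : G) (hc : c ∈ Subgroup.center G)
    (hord : orderOf c = p) (hcy : ∀ h : G, ∃ i : ℕ, ⁅h, y⁆ = c ^ i)
    (w : G) (hw : w ∈ Subgroup.center G) (hwp : w ^ p = 1) (g : G) (hg : ⁅g, y⁆ = c) :
    ∃ α : MulAut G, α g = g * w := by
  have hwc : ∀ a : G, a * w = w * a := fun a => Subgroup.mem_center_iff.1 hw a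
  have hwc' : ∀ (a : G) (i : ℕ), a * w ^ i = w ^ i * a := fun a i =>
    Subgroup.mem_center_iff.1 (Subgroup.pow_mem _ hw i) a
  obtain ⟨α, hα⟩ := exists_aut_of_theta c y hc hord hcy (fun i => w ^ i)
    (fun i j hij => pow_eq_pow_of_modEq hij hwp)
    (fun i j h _ => by
      change w ^ i * h * w ^ j = h * w ^ (i + j)
      rw [← hwc' h i, mul_assoc, pow_add])
    (fun i => (hwc' y i).symm) (pow_zero w)
  refine ⟨α, ?_⟩
  have := hα g 1 (by rw [hg, pow_one])
  rw [this]; simp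

/-- `y ^ i * h = (c⁻¹) ^ (i * j) * h * y ^ i` when `⁅h, y⁆ = c ^ j` with `c` central. -/
theorem pow_mul_of_commutator_eq (c y h : G) (hc : c ∈ Subgroup.center G) (j : ℕ)
    (hj : ⁅h, y⁆ = c ^ j) (i : ℕ) : y ^ i * h = (c⁻¹) ^ (i * j) * (h * y ^ i) := by
  have hcc : ∀ (a : G) (k : ℕ), a * (c⁻¹) ^ k = (c⁻¹) ^ k * a := fun a k =>
    Subgroup.mem_center_iff.1 (Subgroup.pow_mem _ (Subgroup.inv_mem _ hc) k) a
  have h1 : y * h = (c⁻¹) ^ j * (h * y) := by
    have : h * y = c ^ j * (y * h) := by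
      rw [← hj, commutatorElement_def]; group
    rw [this, ← mul_assoc, inv_pow, inv_mul_cancel, one_mul]
  induction i with
  | zero => simp
  | succ i ih =>
    have e1 : (i + 1) * j = i * j + j := by ring
    calc y ^ (i + 1) * h = y * (y ^ i * h) := by rw [pow_succ', mul_assoc]
      _ = y * ((c⁻¹) ^ (i * j) * (h * y ^ i)) := by rw [ih]
      _ = (c⁻¹) ^ (i * j) * ((y * h) * y ^ i) := by
          rw [← mul_assoc y, hcc y, mul_assoc, mul_assoc]
      _ = (c⁻¹) ^ (i * j) * (((c⁻¹) ^ j * (h * y)) * y ^ i) := by rw [h1]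
      _ = (c⁻¹) ^ ((i + 1) * j) * (h * y ^ (i + 1)) := by
          rw [e1, pow_add, pow_succ' y i]
          simp only [mul_assoc]

/-- Transvections. -/
theorem exists_transvection_aut [Finite G] {p : ℕ} (c y : G) (hc : c ∈ Subgroup.center G)
    (hord : orderOf c = p) (hcy : ∀ h : G, ∃ i : ℕ, ⁅h, y⁆ = c ^ i)
    (hyp : y ^ p = c ^ (p.choose 2)) (g : G) (hg : ⁅g, y⁆ = c) :
    ∃ α : MulAut G, α g = g * y := by
  have hcp : c ^ p = 1 := by rw [← hord]; exact pow_orderOf_eq_one c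
  have hcip : (c⁻¹) ^ p = 1 := by rw [inv_pow, hcp, inv_one]
  have hcc : ∀ (a : G) (k : ℕ), a * (c⁻¹) ^ k = (c⁻¹) ^ k * a := fun a k =>
    Subgroup.mem_center_iff.1 (Subgroup.pow_mem _ (Subgroup.inv_mem _ hc) k) a
  have hcc2 : ∀ (a : G) (k : ℕ), a * c ^ k = c ^ k * a := fun a k =>
    Subgroup.mem_center_iff.1 (Subgroup.pow_mem _ hc k) a
  set θ : ℕ → G := fun i => y ^ i * (c⁻¹) ^ (i.choose 2) with hθ
  have hstep : ∀ i : ℕ, θ (i + p) = θ i := by
    intro i
    simp only [hθ]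
    rw [choose_two_add, pow_add y, hyp, pow_add, pow_add, mul_comm i p, pow_mul, hcip, one_pow,
      mul_one]
    rw [mul_assoc, ← mul_assoc (c ^ p.choose 2), ← hcc2, mul_assoc ((c⁻¹) ^ i.choose 2),
      inv_pow c (p.choose 2), mul_inv_cancel, mul_one]
  have hsteps : ∀ i k : ℕ, θ (i + p * k) = θ i := by
    intro i k
    induction k with
    | zero => simp
    | succ k ih => rw [Nat.mul_succ, ← add_assoc, hstep, ih]
  have hθper : ∀ i j : ℕ, i ≡ j [MOD p] → θ i = θ j := by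
    intro i j hij
    rcases le_total i j with hle | hle
    · obtain ⟨k, hk⟩ := (Nat.modEq_iff_dvd' hle).1 hij
      have : j = i + p * k := by omega
      rw [this, hsteps]
    · obtain ⟨k, hk⟩ := (Nat.modEq_iff_dvd' hle).1 hij.symm
      have : i = j + p * k := by omega
      rw [this, hsteps]
  obtain ⟨α, hα⟩ := exists_aut_of_theta c y hc hord hcy θ hθper
    (fun i j h hj => by
      simp only [hθ]
      rw [choose_two_add]
      have h1 := pow_mul_of_commutator_eq c y h hc j hj i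
      calc y ^ i * (c⁻¹) ^ i.choose 2 * h * (y ^ j * (c⁻¹) ^ j.choose 2)
          = (y ^ i * h) * y ^ j * ((c⁻¹) ^ i.choose 2 * (c⁻¹) ^ j.choose 2) := by
            rw [mul_assoc (y ^ i), ← hcc h, ← mul_assoc (y ^ i), mul_assoc (y ^ i * h),
              ← mul_assoc ((c⁻¹) ^ i.choose 2), ← hcc (y ^ j)]
            simp only [mul_assoc]
        _ = ((c⁻¹) ^ (i * j) * (h * y ^ i)) * y ^ j *
              ((c⁻¹) ^ i.choose 2 * (c⁻¹) ^ j.choose 2) := by rw [h1]
        _ = (h * y ^ i) * y ^ j *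
              (((c⁻¹) ^ i.choose 2 * (c⁻¹) ^ j.choose 2) * (c⁻¹) ^ (i * j)) := by
            rw [← hcc (h * y ^ i), mul_assoc (h * y ^ i), ← hcc (y ^ j), ← mul_assoc (h * y ^ i),
              mul_assoc (h * y ^ i * y ^ j), ← hcc]
        _ = h * (y ^ (i + j) * (c⁻¹) ^ (i.choose 2 + j.choose 2 + i * j)) := by
            rw [pow_add y, pow_add, pow_add]
            simp only [mul_assoc])
    (fun i => by
      simp only [hθ]
      calc y ^ i * (c⁻¹) ^ i.choose 2 * y = y ^ i * (y * (c⁻¹) ^ i.choose 2) := by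
            rw [mul_assoc, hcc y]
        _ = y * (y ^ i * (c⁻¹) ^ i.choose 2) := by
            rw [← mul_assoc, ← pow_succ, pow_succ', mul_assoc])
    (by simp [hθ])
  refine ⟨α, ?_⟩
  have := hα g 1 (by rw [hg, pow_one])
  rw [this]; simp [hθ]

end Cfsg.Agent.Lib.Helper75.AutOrb
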