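import Mathlib
import Cfsg.Agent.Lib.Helper75.AutOrb
import Cfsg.Agent.Lib.Helper75.AutOrbClass2

/-!
# Automorphism orbits of groups with derived subgroup of prime order (helper75)

Setting: `G` finite, `p` prime, every divisor `≠ 1` of `|G|` is `≥ p`, `c₀` central of order `p`
and every commutator is a power of `c₀`.  Then `p * #(Aut(G)-orbits on G) ≤ |G|`.
-/

set_option autoImplicit false

namespace Cfsg.Agent.Lib.Helper75.AutOrb

open scoped commutatorElement
open MulAction

variable {G : Type*} [Group G]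

/-- strict inclusion of subgroups costs a factor `p`. -/
theorem mul_card_le_of_lt [Finite G] {p : ℕ}
    (hmin : ∀ d : ℕ, d ∣ Nat.card G → d ≠ 1 → p ≤ d) {H K : Subgroup G} (hlt : H < K) :
    p * Nat.card H ≤ Nat.card K := by
  have h1 : H.relIndex K * Nat.card H = Nat.card K := by
    have := Subgroup.relIndex_mul_relIndex ⊥ H K (bot_le : (⊥ : Subgroup G) ≤ H) hlt.le
    rw [Subgroup.relIndex_bot_left, Subgroup.relIndex_bot_left] at this
    rw [mul_comm]; exact this
  have h3 : H.relIndex K ≠ 1 := by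
    intro h
    exact (not_le_of_gt hlt) (Subgroup.relIndex_eq_one.1 h)
  have h4 : H.relIndex K ∣ Nat.card G :=
    (Subgroup.relIndex_dvd_card H K).trans (Subgroup.card_subgroup_dvd_card K)
  rw [← h1]
  exact Nat.mul_le_mul_right _ (hmin _ h4 h3)

/-- If `x * e` lies in the orbit of `x` for all `e` in a subgroup `E`, the orbit has at least
`|E|` elements. -/
theorem card_le_card_orbit [Finite G] (E : Subgroup G) (x : G)
    (h : ∀ e ∈ E, x * e ∈ orbit (MulAut G) x) : Nat.card E ≤ Nat.card (orbit (MulAut G) x) := by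
  apply Nat.card_le_card_of_injective (fun e : E => (⟨x * e, h e e.2⟩ : orbit (MulAut G) x))
  intro a b hab
  have : x * (a : G) = x * (b : G) := congrArg Subtype.val hab
  exact Subtype.ext (mul_left_cancel this)

section setting

variable [Finite G] {p : ℕ} (hp : p.Prime)
  (hmin : ∀ d : ℕ, d ∣ Nat.card G → d ≠ 1 → p ≤ d)
  (c₀ : G) (hc₀ : c₀ ∈ Subgroup.center G) (hord : orderOf c₀ = p)
  (hcomm : ∀ g h : G, ∃ i : ℕ, ⁅g, h⁆ = c₀ ^ i)

include hp hc₀ hord in
/-- Any nontrivial commutator is another generator. -/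
theorem generator_change (c : G) (hc : c ∈ Subgroup.zpowers c₀) (hc1 : c ≠ 1) :
    c ∈ Subgroup.center G ∧ orderOf c = p ∧ ∀ z ∈ Subgroup.zpowers c₀, ∃ i : ℕ, z = c ^ i := by
  have hcen : c ∈ Subgroup.center G := by
    obtain ⟨k, rfl⟩ := Subgroup.mem_zpowers_iff.1 hc
    exact Subgroup.zpow_mem _ hc₀ _
  have hcp : c ^ p = 1 := by
    obtain ⟨k, rfl⟩ := Subgroup.mem_zpowers_iff.1 hc
    rw [← zpow_natCast, ← zpow_mul, mul_comm, zpow_mul, zpow_natCast, ← hord, pow_orderOf_eq_one,
      one_zpow]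
  have ho : orderOf c = p := by
    rcases (Nat.dvd_prime hp).1 (orderOf_dvd_of_pow_eq_one hcp) with h | h
    · exact absurd (orderOf_eq_one_iff.1 h) hc1
    · exact h
  refine ⟨hcen, ho, ?_⟩
  have hle : Subgroup.zpowers c ≤ Subgroup.zpowers c₀ := Subgroup.zpowers_le.2 hc
  have heq : Subgroup.zpowers c = Subgroup.zpowers c₀ := by
    apply Subgroup.eq_of_le_of_card_ge hle
    rw [Nat.card_zpowers, Nat.card_zpowers, ho, hord]
  intro z hz
  rw [← heq] at hz
  obtain ⟨i, hi⟩ := (mem_powers_iff_mem_zpowers).2 hz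
  exact ⟨i, hi.symm⟩

include hp hc₀ hord hcomm in
theorem commutator_data (g y : G) (hgy : ⁅g, y⁆ ≠ 1) :
    ⁅g, y⁆ ∈ Subgroup.center G ∧ orderOf ⁅g, y⁆ = p ∧
      ∀ h : G, ∃ i : ℕ, ⁅h, y⁆ = ⁅g, y⁆ ^ i := by
  have hmem : ∀ a b : G, ⁅a, b⁆ ∈ Subgroup.zpowers c₀ := by
    intro a b
    obtain ⟨i, hi⟩ := hcomm a b
    rw [hi]; exact Subgroup.npow_mem_zpowers _ _
  obtain ⟨h1, h2, h3⟩ := generator_change hp c₀ hc₀ hord ⁅g, y⁆ (hmem g y) hgy
  exact ⟨h1, h2, fun h => h3 _ (hmem h y)⟩

omit [Finite G] in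
include hc₀ hcomm in
theorem commutator_central (a b : G) : ⁅a, b⁆ ∈ Subgroup.center G := by
  obtain ⟨i, hi⟩ := hcomm a b
  rw [hi]; exact Subgroup.pow_mem _ hc₀ _

omit [Finite G] in
include hc₀ hcomm in
/-- conjugating by `y ^ k` multiplies `x` by `⁅y, x⁆ ^ k`. -/
theorem conj_pow_eq (x y : G) (k : ℕ) : y ^ k * x * (y ^ k)⁻¹ = x * ⁅y, x⁆ ^ k := by
  have hz : ∀ a : G, a * ⁅y, x⁆ = ⁅y, x⁆ * a := fun a =>
    Subgroup.mem_center_iff.1 (commutator_central c₀ hc₀ hcomm y x) a
  have h1 : y * x * y⁻¹ = x * ⁅y, x⁆ := by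
    rw [hz x, commutatorElement_def]; group
  induction k with
  | zero => simp
  | succ k ih =>
    calc y ^ (k + 1) * x * (y ^ (k + 1))⁻¹ = y * (y ^ k * x * (y ^ k)⁻¹) * y⁻¹ := by
          rw [pow_succ']; group
      _ = y * (x * ⁅y, x⁆ ^ k) * y⁻¹ := by rw [ih]
      _ = (y * x * y⁻¹) * ⁅y, x⁆ ^ k := by
          have : ∀ a : G, a * ⁅y, x⁆ ^ k = ⁅y, x⁆ ^ k * a := fun a =>
            Subgroup.mem_center_iff.1
              (Subgroup.pow_mem _ (commutator_central c₀ hc₀ hcomm y x) k) a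
          rw [mul_assoc y, mul_assoc x, ← this y⁻¹]
          simp only [mul_assoc]
      _ = x * ⁅y, x⁆ ^ (k + 1) := by rw [h1, pow_succ', mul_assoc]

include hp hc₀ hord hcomm in
/-- for noncentral `x`, the coset `x * ⟨c₀⟩` lies in the orbit of `x`. -/
theorem mul_zpowers_mem_orbit (x : G) (hx : x ∉ Subgroup.center G) (z : G)
    (hz : z ∈ Subgroup.zpowers c₀) : x * z ∈ orbit (MulAut G) x := by
  have : ∃ y : G, ⁅y, x⁆ ≠ 1 := by
    by_contra hcon
    push Not at hcon
    apply hx
    rw [Subgroup.mem_center_iff]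
    intro g
    have := hcon g
    rw [commutatorElement_def] at this
    have h2 : g * x = x * g := by
      calc g * x = (g * x * g⁻¹ * x⁻¹) * (x * g) := by group
        _ = x * g := by rw [this, one_mul]
    exact h2
  obtain ⟨y, hy⟩ := this
  have hmem : ⁅y, x⁆ ∈ Subgroup.zpowers c₀ := by
    obtain ⟨i, hi⟩ := hcomm y x
    rw [hi]; exact Subgroup.npow_mem_zpowers _ _
  obtain ⟨-, -, h3⟩ := generator_change hp c₀ hc₀ hord ⁅y, x⁆ hmem hy
  obtain ⟨k, rfl⟩ := h3 z hz
  rw [← conj_pow_eq c₀ hc₀ hcomm x y k]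
  exact conj_mem_orbit _ _

include hp hc₀ hord hcomm in
theorem le_card_orbit_of_not_mem_center (x : G) (hx : x ∉ Subgroup.center G) :
    p ≤ Nat.card (orbit (MulAut G) x) := by
  have := card_le_card_orbit (Subgroup.zpowers c₀) x
    (fun e he => mul_zpowers_mem_orbit hp c₀ hc₀ hord hcomm x hx e he)
  rwa [Nat.card_zpowers, hord] at this

include hmin in
/-- `p * |Z(G)| ≤ |C_G(y)|` and `p * |C_G(y)| ≤ |G|` for noncentral `y`. -/
theorem card_centralizer_bounds (y : G) (hy : y ∉ Subgroup.center G) :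
    p * Nat.card (Subgroup.center G) ≤ Nat.card (Subgroup.centralizer ({y} : Set G)) ∧
      p * Nat.card (Subgroup.centralizer ({y} : Set G)) ≤ Nat.card G := by
  constructor
  · apply mul_card_le_of_lt hmin
    refine lt_of_le_of_ne (Subgroup.center_le_centralizer _) ?_
    intro h
    apply hy
    rw [h, Subgroup.mem_centralizer_singleton_iff]
  · have hlt : Subgroup.centralizer ({y} : Set G) < ⊤ := by
      refine lt_of_le_of_ne le_top ?_
      intro h
      apply hy
      rw [Subgroup.mem_center_iff]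
      intro g
      have : g ∈ Subgroup.centralizer ({y} : Set G) := by rw [h]; trivial
      exact Subgroup.mem_centralizer_singleton_iff.1 this
    have := mul_card_le_of_lt hmin hlt
    rwa [Subgroup.card_top] at this


omit [Finite G] in
theorem exists_commutator_ne_one (x : G) (hx : x ∉ Subgroup.center G) : ∃ y : G, ⁅x, y⁆ ≠ 1 := by
  by_contra hcon
  push Not at hcon
  apply hx
  rw [Subgroup.mem_center_iff]
  intro g
  have := hcon g
  rw [commutatorElement_def] at this
  calc g * x = (x * g * x⁻¹ * g⁻¹)⁻¹ * (x * g) := by group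
    _ = x * g := by rw [this, inv_one, one_mul]

/-- The subgroup `Ω = {z ∈ Z(G) | z ^ p = 1}`. -/
def omegaCenter (G : Type*) [Group G] (p : ℕ) : Subgroup G where
  carrier := {z | z ∈ Subgroup.center G ∧ z ^ p = 1}
  mul_mem' := by
    intro a b ha hb
    refine ⟨Subgroup.mul_mem _ ha.1 hb.1, ?_⟩
    have hcom : Commute a b := (Subgroup.mem_center_iff.1 ha.1 b).symm
    rw [hcom.mul_pow, ha.2, hb.2, one_mul]
  one_mem' := ⟨Subgroup.one_mem _, one_pow _⟩
  inv_mem' := by
    intro a ha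
    exact ⟨Subgroup.inv_mem _ ha.1, by rw [inv_pow, ha.2, inv_one]⟩

omit [Finite G] in
theorem mem_omegaCenter {z : G} : z ∈ omegaCenter G p ↔ z ∈ Subgroup.center G ∧ z ^ p = 1 :=
  Iff.rfl

include hp hmin hc₀ hord hcomm in
/-- Case A: `Ω` is not `⟨c₀⟩`; then every noncentral orbit has at least `p²` elements. -/
theorem caseA_orbit (hA : ∃ w ∈ omegaCenter G p, w ∉ Subgroup.zpowers c₀) (x : G)
    (hx : x ∉ Subgroup.center G) : p * p ≤ Nat.card (orbit (MulAut G) x) := by
  obtain ⟨w, hw, hw'⟩ := hA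
  have hle : Subgroup.zpowers c₀ ≤ omegaCenter G p := by
    rw [Subgroup.zpowers_le]
    exact ⟨hc₀, by rw [← hord]; exact pow_orderOf_eq_one c₀⟩
  have hlt : Subgroup.zpowers c₀ < omegaCenter G p :=
    lt_of_le_of_ne hle (fun h => hw' (h ▸ hw))
  have h1 := mul_card_le_of_lt hmin hlt
  rw [Nat.card_zpowers, hord] at h1
  refine h1.trans (card_le_card_orbit _ x ?_)
  intro e he
  obtain ⟨y, hy⟩ := exists_commutator_ne_one x hx
  obtain ⟨hcc, hco, hcy⟩ := commutator_data hp c₀ hc₀ hord hcomm x y hy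
  obtain ⟨α, hα⟩ := exists_central_aut ⁅x, y⁆ y hcc hco hcy e he.1 he.2 x rfl
  rw [← hα]
  exact apply_mem_orbit α x

include hp hmin hc₀ hord hcomm in
/-- Case B: a noncentral `y` with `y ^ p = c ^ (p choose 2)` for the nontrivial commutators `c`;
then every orbit outside `C_G(y)` has at least `p²` elements. -/
theorem caseB_orbit (y : G) (hyZ : y ∉ Subgroup.center G)
    (hy : ∀ c ∈ Subgroup.zpowers c₀, c ≠ 1 → y ^ p = c ^ (p.choose 2)) (x : G)
    (hx : x ∉ Subgroup.centralizer ({y} : Set G)) : p * p ≤ Nat.card (orbit (MulAut G) x) := by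
  have hmemz : ∀ a b : G, ⁅a, b⁆ ∈ Subgroup.zpowers c₀ := by
    intro a b
    obtain ⟨i, hi⟩ := hcomm a b
    rw [hi]; exact Subgroup.npow_mem_zpowers _ _
  -- translation by `y`
  have hstep : ∀ h : G, ⁅h, y⁆ ≠ 1 → h * y ∈ orbit (MulAut G) h := by
    intro h hh
    obtain ⟨hcc, hco, hcy⟩ := commutator_data hp c₀ hc₀ hord hcomm h y hh
    obtain ⟨α, hα⟩ := exists_transvection_aut ⁅h, y⁆ y hcc hco hcy
      (hy _ (hmemz h y) hh) h rfl
    rw [← hα]
    exact apply_mem_orbit α h
  have hnc : ∀ h : G, ⁅h, y⁆ ≠ 1 → h ∉ Subgroup.center G := by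
    intro h hh hcen
    apply hh
    have := Subgroup.mem_center_iff.1 hcen y
    rw [commutatorElement_def, ← this]; group
  have hcomm_inv : ∀ (h e : G), e * y = y * e → ⁅h * e, y⁆ = ⁅h, y⁆ := by
    intro h e he
    rw [commutatorElement_def, commutatorElement_def]
    calc h * e * y * (h * e)⁻¹ * y⁻¹ = h * (e * y) * e⁻¹ * h⁻¹ * y⁻¹ := by group
      _ = h * y * h⁻¹ * y⁻¹ := by rw [he]; group
  set E : Subgroup G := Subgroup.closure ({y, c₀} : Set G) with hE
  have hP : ∀ e ∈ E, e * y = y * e ∧ ∀ h : G, ⁅h, y⁆ ≠ 1 → h * e ∈ orbit (MulAut G) h := by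
    intro e he
    induction he using Subgroup.closure_induction with
    | mem e he =>
      rcases he with rfl | he
      · exact ⟨rfl, hstep⟩
      · rw [Set.mem_singleton_iff] at he
        subst he
        refine ⟨(Subgroup.mem_center_iff.1 hc₀ y).symm, ?_⟩
        intro h hh
        exact mul_zpowers_mem_orbit hp e hc₀ hord hcomm h (hnc h hh) e
          (Subgroup.mem_zpowers e)
    | one => exact ⟨by simp, fun h _ => by rw [mul_one]; exact mem_orbit_self h⟩
    | mul e₁ e₂ _ _ ih₁ ih₂ =>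
      refine ⟨by rw [mul_assoc, ih₂.1, ← mul_assoc, ih₁.1, mul_assoc], ?_⟩
      intro h hh
      have h1 := ih₁.2 h hh
      have h2 := ih₂.2 (h * e₁) (by rw [hcomm_inv h e₁ ih₁.1]; exact hh)
      rw [← mul_assoc]
      exact mem_orbit_trans h1 h2
    | inv e _ ih =>
      have hinv : e⁻¹ * y = y * e⁻¹ := by
        have := ih.1
        calc e⁻¹ * y = e⁻¹ * (y * e) * e⁻¹ := by group
          _ = e⁻¹ * (e * y) * e⁻¹ := by rw [this]
          _ = y * e⁻¹ := by group
      refine ⟨hinv, ?_⟩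
      intro h hh
      have h2 := ih.2 (h * e⁻¹) (by rw [hcomm_inv h e⁻¹ hinv]; exact hh)
      rw [inv_mul_cancel_right] at h2
      exact (mem_orbit_symm).1 h2
  have hle : Subgroup.zpowers c₀ ≤ E := by
    rw [Subgroup.zpowers_le]
    exact Subgroup.subset_closure (by simp)
  have hyE : y ∈ E := Subgroup.subset_closure (by simp)
  have hlt : Subgroup.zpowers c₀ < E := by
    refine lt_of_le_of_ne hle (fun h => hyZ ?_)
    have : y ∈ Subgroup.zpowers c₀ := h ▸ hyE
    obtain ⟨k, rfl⟩ := Subgroup.mem_zpowers_iff.1 this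
    exact Subgroup.zpow_mem _ hc₀ _
  have h1 := mul_card_le_of_lt hmin hlt
  rw [Nat.card_zpowers, hord] at h1
  have hxy : ⁅x, y⁆ ≠ 1 := by
    intro h
    apply hx
    rw [Subgroup.mem_centralizer_singleton_iff]
    rw [commutatorElement_def] at h
    calc x * y = (x * y * x⁻¹ * y⁻¹) * (y * x) := by group
      _ = y * x := by rw [h, one_mul]
  exact h1.trans (card_le_card_orbit E x (fun e he => (hP e he).2 x hxy))

include hp in
/-- Final count. -/
theorem count_final (D : Subgroup G) (hZD : Subgroup.center G ≤ D)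
    (hD : p * Nat.card D ≤ Nat.card G)
    (hZ : p * p * Nat.card (Subgroup.center G) ≤ Nat.card G)
    (h1 : ∀ x : G, x ∉ Subgroup.center G → p ≤ Nat.card (orbit (MulAut G) x))
    (h2 : ∀ x : G, x ∉ D → p * p ≤ Nat.card (orbit (MulAut G) x)) :
    p * Nat.card (orbitRel.Quotient (MulAut G) G) ≤ Nat.card G := by
  classical
  have := Fintype.ofFinite G
  obtain ⟨q, rfl⟩ : ∃ q, p = q + 1 := ⟨p - 1, by have := hp.pos; omega⟩
  have hq : 1 ≤ q := by have := hp.two_le; omega
  set w : G → ℕ := fun x => 1 + q * (if x ∈ D then 1 else 0) +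
    (q + 1) * q * (if x ∈ Subgroup.center G then 1 else 0) with hw
  have hpos : ∀ x : G, 1 ≤ Nat.card (orbit (MulAut G) x) := by
    intro x
    have : Nonempty (orbit (MulAut G) x) := ⟨⟨x, mem_orbit_self x⟩⟩
    exact Nat.card_pos
  have key := card_orbits_mul_le_sum (A := MulAut G) (X := G) ((q + 1) * (q + 1)) w (by
    intro x
    simp only [hw]
    by_cases hxZ : x ∈ Subgroup.center G
    · have hxD : x ∈ D := hZD hxZ
      rw [if_pos hxZ, if_pos hxD]
      have := hpos x
      nlinarith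
    · rw [if_neg hxZ]
      by_cases hxD : x ∈ D
      · rw [if_pos hxD]
        have := h1 x hxZ
        nlinarith
      · rw [if_neg hxD]
        have := h2 x hxD
        nlinarith)
  have hsum : ∑ x : G, w x = Nat.card G + q * Nat.card D +
      (q + 1) * q * Nat.card (Subgroup.center G) := by
    simp only [hw]
    rw [Finset.sum_add_distrib, Finset.sum_add_distrib, ← Finset.mul_sum, ← Finset.mul_sum,
      Finset.sum_boole, Finset.sum_boole]
    simp only [Finset.sum_const, Finset.card_univ, smul_eq_mul, mul_one, Nat.cast_id]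
    rw [Nat.card_eq_fintype_card, Nat.card_eq_fintype_card, Nat.card_eq_fintype_card]
    have hD' : (Finset.univ.filter (fun x : G => x ∈ D)).card = Fintype.card ↥D :=
      (Fintype.card_subtype (fun x : G => x ∈ D)).symm
    have hZ' : (Finset.univ.filter (fun x : G => x ∈ Subgroup.center G)).card =
        Fintype.card ↥(Subgroup.center G) :=
      (Fintype.card_subtype (fun x : G => x ∈ Subgroup.center G)).symm
    rw [hD', hZ']
  rw [hsum] at key
  set ω := Nat.card (orbitRel.Quotient (MulAut G) G) with hω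
  set n := Nat.card G with hn
  set d := Nat.card D with hd
  set z := Nat.card (Subgroup.center G) with hz
  -- (q+1)^2 ω ≤ n + q d + (q+1) q z, (q+1) d ≤ n, (q+1)^2 z ≤ n ⊢ (q+1) ω ≤ n
  have e1 : (q + 1) * (q + 1) * ((q + 1) * (q + 1) * ω) ≤
      (q + 1) * (q + 1) * n + q * (q + 1) * n + q * (q + 1) * n := by
    calc (q + 1) * (q + 1) * ((q + 1) * (q + 1) * ω)
        ≤ (q + 1) * (q + 1) * (n + q * d + (q + 1) * q * z) := Nat.mul_le_mul_left _ key
      _ = (q + 1) * (q + 1) * n + q * (q + 1) * ((q + 1) * d)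
            + q * (q + 1) * ((q + 1) * (q + 1) * z) := by ring
      _ ≤ (q + 1) * (q + 1) * n + q * (q + 1) * n + q * (q + 1) * n := by
          apply Nat.add_le_add (Nat.add_le_add_left (Nat.mul_le_mul_left _ hD) _)
          exact Nat.mul_le_mul_left _ hZ
  have e2 : (q + 1) * (q + 1) * n + q * (q + 1) * n + q * (q + 1) * n ≤
      (q + 1) * (q + 1) * ((q + 1) * n) := by
    have : (q + 1) * (q + 1) * ((q + 1) * n) - ((q + 1) * (q + 1) * n + q * (q + 1) * n +
        q * (q + 1) * n) = 0 ∨ True := Or.inr trivial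
    nlinarith [Nat.zero_le (q * n), Nat.zero_le (q * q * n), Nat.zero_le n,
      Nat.mul_le_mul_right n (Nat.mul_le_mul hq (le_refl q))]
  have e3 := e1.trans e2
  have hpos2 : 0 < (q + 1) * (q + 1) := by positivity
  have e4 : (q + 1) * (q + 1) * ((q + 1) * ω) ≤ (q + 1) * (q + 1) * n := by
    have : (q + 1) * ((q + 1) * (q + 1) * ((q + 1) * ω)) ≤ (q + 1) * ((q + 1) * (q + 1) * n) := by
      calc (q + 1) * ((q + 1) * (q + 1) * ((q + 1) * ω))
          = (q + 1) * (q + 1) * ((q + 1) * (q + 1) * ω) := by ring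
        _ ≤ (q + 1) * (q + 1) * ((q + 1) * n) := e3
        _ = (q + 1) * ((q + 1) * (q + 1) * n) := by ring
    exact Nat.le_of_mul_le_mul_left this (Nat.succ_pos q)
  exact Nat.le_of_mul_le_mul_left e4 hpos2


omit [Finite G] in
include hc₀ in
/-- Power formula in class 2. -/
theorem mul_pow_of_commutator_eq (g h : G) (j : ℕ) (hj : ⁅g, h⁆ = c₀ ^ j) (n : ℕ) :
    (g * h) ^ n = g ^ n * h ^ n * (c₀⁻¹) ^ (j * n.choose 2) := by
  have hcc : ∀ (a : G) (k : ℕ), a * (c₀⁻¹) ^ k = (c₀⁻¹) ^ k * a := fun a k =>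
    Subgroup.mem_center_iff.1 (Subgroup.pow_mem _ (Subgroup.inv_mem _ hc₀) k) a
  induction n with
  | zero => simp
  | succ n ih =>
    have h1 := pow_mul_of_commutator_eq c₀ h g hc₀ j hj n
    have e1 : j * (n + 1).choose 2 = n * j + j * n.choose 2 := by
      rw [choose_two_succ]; ring
    calc (g * h) ^ (n + 1) = (g * h) ^ n * (g * h) := pow_succ _ _
      _ = g ^ n * h ^ n * (c₀⁻¹) ^ (j * n.choose 2) * (g * h) := by rw [ih]
      _ = g ^ n * (h ^ n * g) * h * (c₀⁻¹) ^ (j * n.choose 2) := by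
          rw [mul_assoc (g ^ n * h ^ n), ← hcc (g * h)]
          simp only [mul_assoc]
      _ = g ^ n * ((c₀⁻¹) ^ (n * j) * (g * h ^ n)) * h * (c₀⁻¹) ^ (j * n.choose 2) := by rw [h1]
      _ = (c₀⁻¹) ^ (n * j) * g ^ (n + 1) * h ^ (n + 1) * (c₀⁻¹) ^ (j * n.choose 2) := by
          rw [← mul_assoc (g ^ n), hcc (g ^ n), pow_succ g, pow_succ h]
          simp only [mul_assoc]
      _ = g ^ (n + 1) * h ^ (n + 1) * (c₀⁻¹) ^ (j * (n + 1).choose 2) := by
          rw [e1, pow_add c₀⁻¹, ← hcc (g ^ (n + 1)), mul_assoc (g ^ (n + 1)), ← hcc (h ^ (n + 1))]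
          simp only [mul_assoc]

omit [Finite G] in
include hc₀ hord hcomm in
theorem pow_prime_mem_center (g : G) : g ^ p ∈ Subgroup.center G := by
  rw [Subgroup.mem_center_iff]
  intro h
  obtain ⟨j, hj⟩ := hcomm h g
  have h1 := pow_mul_of_commutator_eq c₀ g h hc₀ j hj p
  have h2 : (c₀⁻¹) ^ (p * j) = 1 := by
    rw [pow_mul, inv_pow, ← hord, pow_orderOf_eq_one, inv_one, one_pow]
  rw [h1, h2, one_mul]

include hp hmin hc₀ hord hcomm in
/-- Case B, `p` odd: a noncentral element of order dividing `p`. -/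
theorem exists_noncentral_pow_eq_one (hp2 : p ≠ 2) (hnc : ∃ x : G, x ∉ Subgroup.center G)
    (hB : omegaCenter G p ≤ Subgroup.zpowers c₀) : ∃ y : G, y ∉ Subgroup.center G ∧ y ^ p = 1 := by
  by_contra hcon
  push Not at hcon
  have hcp : (c₀⁻¹) ^ p = 1 := by rw [inv_pow, ← hord, pow_orderOf_eq_one, inv_one]
  have hdvd : p ∣ p.choose 2 := by
    apply hp.dvd_choose_self (by norm_num)
    have := hp.two_le
    omega
  let φ : G →* G := MonoidHom.mk' (fun g => g ^ p) (by
    intro g h
    obtain ⟨j, hj⟩ := hcomm g h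
    rw [mul_pow_of_commutator_eq c₀ hc₀ g h j hj p]
    obtain ⟨k, hk⟩ := hdvd
    have : (c₀⁻¹) ^ (j * p.choose 2) = 1 := by
      rw [hk, mul_left_comm, pow_mul, hcp, one_pow]
    rw [this, mul_one])
  have hker : φ.ker ≤ Subgroup.zpowers c₀ := by
    intro g hg
    have hg' : g ^ p = 1 := hg
    apply hB
    refine ⟨?_, hg'⟩
    by_contra h
    exact hcon g h hg'
  have hrange : φ.range ≤ Subgroup.center G := by
    rintro _ ⟨g, rfl⟩
    exact pow_prime_mem_center c₀ hc₀ hord hcomm g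
  have h1 : Nat.card φ.ker ≤ p := by
    have := Subgroup.card_le_of_le hker
    rwa [Nat.card_zpowers, hord] at this
  have h2 : Nat.card φ.range ≤ Nat.card (Subgroup.center G) := Subgroup.card_le_of_le hrange
  have h3 : Nat.card φ.ker * Nat.card φ.range = Nat.card G := by
    rw [← Subgroup.index_ker]; exact Subgroup.card_mul_index _
  obtain ⟨x, hx⟩ := hnc
  obtain ⟨b1, b2⟩ := card_centralizer_bounds hmin x hx
  have hZpos : 0 < Nat.card (Subgroup.center G) := Nat.card_pos
  have h4 : Nat.card G ≤ p * Nat.card (Subgroup.center G) := by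
    rw [← h3]; exact Nat.mul_le_mul h1 h2
  have h5 : p * (p * Nat.card (Subgroup.center G)) ≤ Nat.card G :=
    (Nat.mul_le_mul_left p b1).trans b2
  have := hp.two_le
  nlinarith

include hp hmin hc₀ hord hcomm in
/-- Case B, `p = 2`: a noncentral element whose square is `c₀`. -/
theorem exists_noncentral_sq_eq (hp2 : p = 2) (hnc : ∃ x : G, x ∉ Subgroup.center G)
    (hB : omegaCenter G p ≤ Subgroup.zpowers c₀) : ∃ y : G, y ∉ Subgroup.center G ∧ y ^ 2 = c₀ := by
  subst hp2
  have hc2 : c₀ ^ 2 = 1 := by rw [← hord]; exact pow_orderOf_eq_one c₀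
  have hcinv : c₀⁻¹ = c₀ := by
    rw [inv_eq_iff_mul_eq_one, ← pow_two, hc2]
  have hc1 : c₀ ≠ 1 := by
    intro h; rw [h, orderOf_one] at hord; omega
  obtain ⟨x, hx⟩ := hnc
  obtain ⟨y₀, hy₀⟩ := exists_commutator_ne_one x hx
  have hxy : ⁅x, y₀⁆ = c₀ := by
    obtain ⟨i, hi⟩ := hcomm x y₀
    rcases Nat.even_or_odd i with ⟨k, hk⟩ | ⟨k, hk⟩
    · exfalso; apply hy₀; rw [hi, hk, ← two_mul, pow_mul, hc2, one_pow]
    · rw [hi, hk, pow_succ, pow_mul, hc2, one_pow, one_mul]
  have hy₀Z : y₀ ∉ Subgroup.center G := by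
    intro h
    apply hy₀
    have := Subgroup.mem_center_iff.1 h x
    rw [commutatorElement_def, this]; group
  have hxy₀Z : x * y₀ ∉ Subgroup.center G := by
    intro h
    apply hy₀
    have := Subgroup.mem_center_iff.1 h y₀
    -- y₀ * (x * y₀) = x * y₀ * y₀
    have h2 : y₀ * x = x * y₀ := by
      have h3 : y₀ * x * y₀ = x * y₀ * y₀ := by rw [mul_assoc]; exact this
      exact mul_right_cancel h3
    rw [commutatorElement_def, ← h2]; group
  have hsqZ : ∀ g : G, g ^ 2 ∈ Subgroup.center G := pow_prime_mem_center c₀ hc₀ hord hcomm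
  -- it suffices to find noncentral `u` and central `s` with `c₀ * u ^ 2 = s ^ 2`
  suffices hsuff : ∃ u : G, u ∉ Subgroup.center G ∧ ∃ s ∈ Subgroup.center G, c₀ * u ^ 2 = s ^ 2 by
    obtain ⟨u, hu, s, hs, hus⟩ := hsuff
    have hsc : ∀ a : G, a * s⁻¹ = s⁻¹ * a := fun a =>
      Subgroup.mem_center_iff.1 (Subgroup.inv_mem _ hs) a
    refine ⟨u * s⁻¹, ?_, ?_⟩
    · intro h
      apply hu
      have := Subgroup.mul_mem _ h hs
      rwa [inv_mul_cancel_right] at this
    · have hcom : Commute u s⁻¹ := hsc u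
      rw [hcom.mul_pow]
      have : u ^ 2 = c₀⁻¹ * s ^ 2 := by rw [← hus, inv_mul_cancel_left]
      rw [this, hcinv, inv_pow, mul_assoc, mul_inv_cancel, mul_one]
  -- squaring on the centre
  have hcomm' : ∀ a b : ↥(Subgroup.center G), a * b = b * a := fun a b =>
    Subtype.ext ((Subgroup.mem_center_iff.1 a.2 b).symm)
  let sq : ↥(Subgroup.center G) →* ↥(Subgroup.center G) :=
    MonoidHom.mk' (fun z => z ^ 2) (by
      intro a b
      have hc : Commute a b := hcomm' a b
      exact hc.mul_pow 2)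
  have hsq : ∀ z : ↥(Subgroup.center G), sq z = z ^ 2 := fun z => rfl
  have hker : Nat.card sq.ker ≤ 2 := by
    have hinj : Function.Injective (fun z : sq.ker =>
        (⟨((z : ↥(Subgroup.center G)) : G), hB ⟨(z : ↥(Subgroup.center G)).2, by
          have h1 : sq (z : ↥(Subgroup.center G)) = 1 := MonoidHom.mem_ker.1 z.2
          rw [hsq] at h1
          have h2 := congrArg Subtype.val h1
          simpa using h2⟩⟩ : Subgroup.zpowers c₀)) := by
      intro a b hab
      have : ((a : ↥(Subgroup.center G)) : G) = ((b : ↥(Subgroup.center G)) : G) :=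
        congrArg (fun t : Subgroup.zpowers c₀ => (t : G)) hab
      exact Subtype.ext (Subtype.ext this)
    have := Nat.card_le_card_of_injective _ hinj
    rwa [Nat.card_zpowers, hord] at this
  have hindex : sq.range.index ≤ 2 := by
    have h1 : Nat.card sq.ker * Nat.card sq.range = Nat.card ↥(Subgroup.center G) := by
      rw [← Subgroup.index_ker]; exact Subgroup.card_mul_index _
    have h2 : Nat.card sq.range * sq.range.index = Nat.card ↥(Subgroup.center G) := Subgroup.card_mul_index _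
    have hpos : 0 < Nat.card sq.range := Nat.card_pos
    have : sq.range.index = Nat.card sq.ker := by
      have h3 : Nat.card sq.range * sq.range.index = Nat.card sq.range * Nat.card sq.ker := by
        rw [h2, ← h1, mul_comm]
      exact Nat.eq_of_mul_eq_mul_left hpos h3
    rw [this]; exact hker
  let a : ↥(Subgroup.center G) := ⟨x ^ 2, hsqZ x⟩
  let b : ↥(Subgroup.center G) := ⟨y₀ ^ 2, hsqZ y₀⟩
  let c : ↥(Subgroup.center G) := ⟨c₀, hc₀⟩
  have hcc : c * c = 1 := by
    apply Subtype.ext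
    change c₀ * c₀ = 1
    rw [← pow_two, hc2]
  have hclaim : c * a ∈ sq.range ∨ c * b ∈ sq.range ∨ a * b ∈ sq.range := by
    have hne : sq.range.index ≠ 0 := Subgroup.index_ne_zero_of_finite
    have hcases : sq.range.index = 1 ∨ sq.range.index = 2 := by omega
    rcases hcases with h1 | h2
    · left
      rw [Subgroup.index_eq_one.1 h1]; trivial
    · by_cases ha : c * a ∈ sq.range
      · exact Or.inl ha
      · by_cases hb : c * b ∈ sq.range
        · exact Or.inr (Or.inl hb)
        · right; right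
          have := (Subgroup.mul_mem_iff_of_index_two h2 (a := c * a) (b := c * b)).2
            ⟨fun h => absurd h ha, fun h => absurd h hb⟩
          have e : c * a * (c * b) = a * b := by
            rw [hcomm' c a, mul_assoc, ← mul_assoc c c b, hcc, one_mul]
          rwa [e] at this
  have hxy2 : (x * y₀) ^ 2 = x ^ 2 * y₀ ^ 2 * c₀ := by
    have := mul_pow_of_commutator_eq c₀ hc₀ x y₀ 1 (by rw [hxy, pow_one]) 2
    rw [this]; simp [hcinv]
  rcases hclaim with ⟨s, hs⟩ | ⟨s, hs⟩ | ⟨s, hs⟩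
  · refine ⟨x, hx, (s : G), s.2, ?_⟩
    rw [hsq] at hs
    have h1 := congrArg Subtype.val hs
    simp only [a, c, Subgroup.coe_pow, Subgroup.coe_mul] at h1
    exact h1.symm
  · refine ⟨y₀, hy₀Z, (s : G), s.2, ?_⟩
    rw [hsq] at hs
    have h1 := congrArg Subtype.val hs
    simp only [b, c, Subgroup.coe_pow, Subgroup.coe_mul] at h1
    exact h1.symm
  · refine ⟨x * y₀, hxy₀Z, (s : G), s.2, ?_⟩
    rw [hsq] at hs
    have h1 := congrArg Subtype.val hs
    simp only [a, b, Subgroup.coe_pow, Subgroup.coe_mul] at h1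
    rw [hxy2, h1]
    have hcz : ∀ g : G, g * c₀ = c₀ * g := fun g => Subgroup.mem_center_iff.1 hc₀ g
    rw [hcz, ← mul_assoc, ← pow_two, hc2, one_mul]

include hp hmin hc₀ hord hcomm in
/-- Main theorem in the class-2 case. -/
theorem mul_card_autOrbits_le_of_class2 (hnc : ∃ x : G, x ∉ Subgroup.center G) :
    p * Nat.card (orbitRel.Quotient (MulAut G) G) ≤ Nat.card G := by
  have hZ : p * p * Nat.card (Subgroup.center G) ≤ Nat.card G := by
    obtain ⟨x, hx⟩ := hnc
    obtain ⟨b1, b2⟩ := card_centralizer_bounds hmin x hx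
    rw [mul_assoc]
    exact (Nat.mul_le_mul_left p b1).trans b2
  have h1 := le_card_orbit_of_not_mem_center hp c₀ hc₀ hord hcomm
  by_cases hA : ∃ w ∈ omegaCenter G p, w ∉ Subgroup.zpowers c₀
  · apply count_final hp (Subgroup.center G) le_rfl _ hZ h1
      (caseA_orbit hp hmin c₀ hc₀ hord hcomm hA)
    obtain ⟨x, hx⟩ := hnc
    obtain ⟨b1, b2⟩ := card_centralizer_bounds hmin x hx
    have : Nat.card (Subgroup.centralizer ({x} : Set G)) ≤
        p * Nat.card (Subgroup.centralizer ({x} : Set G)) :=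
      Nat.le_mul_of_pos_left _ hp.pos
    exact b1.trans (this.trans b2)
  · push Not at hA
    have hB : omegaCenter G p ≤ Subgroup.zpowers c₀ := hA
    have hy : ∃ y : G, y ∉ Subgroup.center G ∧
        ∀ c ∈ Subgroup.zpowers c₀, c ≠ 1 → y ^ p = c ^ (p.choose 2) := by
      by_cases hp2 : p = 2
      · obtain ⟨y, hy1, hy2⟩ := exists_noncentral_sq_eq hp hmin c₀ hc₀ hord hcomm hp2 hnc hB
        refine ⟨y, hy1, ?_⟩
        intro c hc hc1
        subst hp2
        have hc2 : c₀ ^ 2 = 1 := by rw [← hord]; exact pow_orderOf_eq_one c₀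
        have : c = c₀ := by
          obtain ⟨i, hi⟩ := (mem_powers_iff_mem_zpowers).2 hc
          have hi' : c = c₀ ^ i := hi.symm
          rcases Nat.even_or_odd i with ⟨k, hk⟩ | ⟨k, hk⟩
          · exfalso; apply hc1; rw [hi', hk, ← two_mul, pow_mul, hc2, one_pow]
          · rw [hi', hk, pow_succ, pow_mul, hc2, one_pow, one_mul]
        rw [this, hy2]; simp
      · obtain ⟨y, hy1, hy2⟩ := exists_noncentral_pow_eq_one hp hmin c₀ hc₀ hord hcomm hp2 hnc hB
        refine ⟨y, hy1, ?_⟩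
        intro c hc hc1
        obtain ⟨-, hco, -⟩ := generator_change hp c₀ hc₀ hord c hc hc1
        have hdvd : p ∣ p.choose 2 := by
          apply hp.dvd_choose_self (by norm_num)
          have := hp.two_le
          omega
        obtain ⟨k, hk⟩ := hdvd
        rw [hy2, hk, pow_mul, ← hco, pow_orderOf_eq_one, one_pow]
    obtain ⟨y, hyZ, hy⟩ := hy
    obtain ⟨b1, b2⟩ := card_centralizer_bounds hmin y hyZ
    exact count_final hp (Subgroup.centralizer ({y} : Set G)) (Subgroup.center_le_centralizer _)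
      b2 hZ h1 (caseB_orbit hp hmin c₀ hc₀ hord hcomm y hyZ hy)

end setting

end Cfsg.Agent.Lib.Helper75.AutOrb
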