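import Mathlib
import Cfsg.Agent.Lib.Helper71.BG1366Defs
import Cfsg.Agent.Lib.Helper15.BG142KS
import Cfsg.Agent.Lib.Helper55.Basic
import Cfsg.Agent.Lib.Helper55.Uniq2
import Cfsg.Agent.Lib.Helper13.BG12A
import Cfsg.Agent.Lib.Helper13.BG12B
import Cfsg.Agent.Lib.Helper54.BG134A3a
import Cfsg.Agent.Lib.Helper31.FittingHall
import Cfsg.Agent.Lib.Helper31.BG12a
import Cfsg.Agent.Lib.Helper28.BG147H
import Cfsg.Agent.Lib.Helper77.BG147N
import Cfsg.Agent.Lib.Helper57.BG142D4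
import Cfsg.Agent.Lib.Helper71.BG11a
import Cfsg.Agent.S1350
import Cfsg.Agent.S1415
import Cfsg.Agent.S1429

/-!
# K-1366-L (keystone 136613, architect helper71): `partner_abelian`

KILL of the nonabelian (= nonregular) case: for a partner `M*` of `(M, K)`, both `K` and
`K* = C_{M_σ}(K)` are abelian.
-/

set_option autoImplicit false

namespace Cfsg.Agent.Lib.Helper75.BG1366

open Cfsg Subgroup Cfsg.Agent.Lib.Helper55 Cfsg.Agent.Lib.Helper11.BG14D
  Cfsg.Agent.Lib.Helper31.BG147 Cfsg.Agent.Lib.Helper71.BG1366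

variable {G : Type*} [Group G] [Finite G]

/-- (a) a nonabelian Hall `κ(M)`-subgroup forces the nonregular case, hence type `P₁` (Lemma D). -/
theorem isP1_of_not_comm (hG : IsMinSimpleOddOrder G) (hD : Cfsg.Agent.Lib.Helper15.BG142.HD G)
    {M K : Subgroup G} (hM : IsCoatom M) (hK : IsPiHallOf (kappa M) K M)
    (hnc : ¬ ∀ a ∈ K, ∀ b ∈ K, a * b = b * a) : IsP1 M := by
  have hHall := (Cfsg.Agent.S1350.result hG M hM).1
  have hKσ : ∀ p : ℕ, p.Prime → p ∣ Nat.card K → p ∉ sigma M :=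
    fun p hp hpd => (hK.2.1 p hp hpd).2.2.1
  obtain ⟨E, hE, hKE⟩ := Cfsg.Agent.Lib.Helper13.BG12.exists_complIn_ge hG hM hHall hK.1 hKσ
  have hnr : ¬ (∀ p : ℕ, p ∈ kappa M → p ∈ tau1 M) := by
    intro hκ
    apply hnc
    have hEM : E ≤ M := hE.1
    have hEtop : E ≠ ⊤ := by
      intro h
      apply hM.1
      rw [eq_top_iff, ← h]
      exact hEM
    have hsolv : Group.IsSolvable ↥E := ms_solvable hG hEtop
    obtain ⟨E₁, hE₁, hKE₁⟩ := Cfsg.Agent.Lib.Helper54.BG134.exists_isPiHallOf_ge hsolv (tau1 M) hKE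
      (fun p hp hpd => hκ p (hK.2.1 p hp hpd))
    have hcyc : IsCyclic ↥E₁ := (Cfsg.Agent.S1415.result hG M hM E hE).2.1 E₁ hE₁
    intro a ha b hb
    have h := (IsCyclic.isMulCommutative (α := ↥E₁)).is_comm.comm ⟨a, hKE₁ ha⟩ ⟨b, hKE₁ hb⟩
    exact congrArg Subtype.val h
  have hκE := (hD M E hM hE hnr).1
  intro q hq hqM
  have hcard := Cfsg.Agent.Lib.Helper31.IsComplIn.card_mul hE
  rw [← hcard] at hqM
  rcases (Nat.Prime.dvd_mul hq).mp hqM with h | h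
  · exact Or.inr (hκE q hq h)
  · exact Or.inl (Cfsg.Agent.Lib.Helper71.BG11.sigmaCore_pi hG hM hq h)

/-- (b) a nonabelian `κ(M)`-subgroup of `M` inside `N_σ` forces `N` to be of type `P₁`
(else `N_σ` is nilpotent by S1429). -/
theorem isP1_of_le_sigmaCore (hG : IsMinSimpleOddOrder G) {M N K' : Subgroup G} (hM : IsCoatom M)
    (hN : IsCoatom N) (hK'M : K' ≤ M)
    (hκ : ∀ p : ℕ, p.Prime → p ∣ Nat.card K' → p ∈ kappa M) (hK'N : K' ≤ sigmaCore N)
    (hnc : ¬ ∀ a ∈ K', ∀ b ∈ K', a * b = b * a) : IsP1 N := by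
  by_contra hP1
  have hP1' : ¬ (∀ q : ℕ, q.Prime → q ∣ Nat.card N → q ∉ sigma N → q ∈ kappa N) := by
    intro h
    apply hP1
    intro q hq hqN
    by_cases hσ : q ∈ sigma N
    · exact Or.inl hσ
    · exact Or.inr (h q hq hqN hσ)
  have hex : ∃ q : ℕ, q.Prime ∧ q ∣ Nat.card N ∧ q ∉ sigma N ∧ q ∉ kappa N := by
    by_contra hno
    push Not at hno
    exact hP1' hno
  obtain ⟨q, hq, hqN, hqσ, hqκ⟩ := hex
  have : Fact q.Prime := ⟨hq⟩
  have S : Sylow q N := default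
  have hnil : Group.IsNilpotent ↥(sigmaCore N) :=
    (Cfsg.Agent.S1429.result hG N hN hP1' q hqN (fun h => h.elim hqσ hqκ) S).2.2
  have hK'nil : Group.IsNilpotent ↥K' :=
    Group.nilpotent_of_mulEquiv (Subgroup.subgroupOfEquivOfLe hK'N)
  have hcyc : IsCyclic ↥K' :=
    Cfsg.Agent.Lib.Helper13.BG12.isCyclic_of_nilpotent_of_pRankLE_one hG hK'M hK'nil (by
      intro p hp hpd
      rcases (Cfsg.Agent.Lib.Helper57.BG142.kappa_facts hM (hκ p hp hpd)).1 with h | h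
      · exact h.2.2.2.2
      · exact h.2.2.2)
  apply hnc
  intro a ha b hb
  have h := (IsCyclic.isMulCommutative (α := ↥K')).is_comm.comm ⟨a, ha⟩ ⟨b, hb⟩
  exact congrArg Subtype.val h

/-- KEYSTONE 136613  K-1366-L  `partner_abelian`. -/
theorem partner_abelian (hG : IsMinSimpleOddOrder G) (h30 : H1430 G) (h31 : H1431 G)
    (hD : Cfsg.Agent.Lib.Helper15.BG142.HD G) {M K Mstar : Subgroup G} (hp : PPair M K) (hMstar : IsCoatom Mstar)
    (hKst : K = sigmaCore Mstar ⊓ centralizer ((Ks M K : Subgroup G) : Set G))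
    (hKstH : IsPiHallOf (kappa Mstar) (Ks M K) Mstar)
    (hFalse : ∀ (Z : Subgroup G) (F : Set (Subgroup G × Subgroup G)), PFam Z F →
      (∃ p ∈ F, ∃ q ∈ F, p ≠ q) → False) :
    (∀ a ∈ K, ∀ b ∈ K, a * b = b * a) ∧ (∀ a ∈ Ks M K, ∀ b ∈ Ks M K, a * b = b * a) := by
  obtain ⟨hM, hK, hK1⟩ := hp
  -- `K* ≠ ⊥`
  obtain ⟨E, ks⟩ := Cfsg.Agent.Lib.Helper15.BG142.exists_ks hG hM hK hK1
  have hKs1 : Ks M K ≠ ⊥ := ks.hKs
  have hKsM : Ks M K ≤ M := inf_le_left.trans (Cfsg.Agent.Lib.Helper71.BG11.sigmaCore_le M)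
  have hKMs : K ≤ sigmaCore Mstar := by
    rw [hKst]
    exact inf_le_left
  have hKsK : Ks Mstar (Ks M K) = K := hKst.symm
  -- `Mstar` is not conjugate to `M`
  have hnc : ∀ g : G, Mstar ≠ Cfsg.Agent.Lib.Helper55.cj g M := by
    intro g hg
    obtain ⟨p, hpp, hpK⟩ := Nat.exists_prime_and_dvd (fun h => hK1 (Subgroup.card_eq_one.mp h))
    have : Fact p.Prime := ⟨hpp⟩
    have h1 : p ∈ sigma Mstar := Cfsg.Agent.Lib.Helper71.BG11.sigmaCore_pi hG hMstar hpp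
      (hpK.trans (Subgroup.card_dvd_of_le hKMs))
    have h2 : p ∉ sigma M := (hK.2.1 p hpp hpK).2.2.1
    apply h2
    rw [hg] at h1
    have h3 := Cfsg.Agent.Lib.Helper31.BG12.mem_sigma_cj h1 g⁻¹
    rwa [cj_inv_cj] at h3
  have hne : Mstar ≠ M := fun h => hnc 1 (by rw [cj_one, h])
  by_contra hcon
  -- both are of type `P₁`
  have hP : IsP1 M ∧ IsP1 Mstar := by
    by_cases hKc : ∀ a ∈ K, ∀ b ∈ K, a * b = b * a
    · have hKsc : ¬ ∀ a ∈ Ks M K, ∀ b ∈ Ks M K, a * b = b * a := fun h => hcon ⟨hKc, h⟩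
      exact ⟨isP1_of_le_sigmaCore hG hMstar hM hKstH.1 hKstH.2.1 inf_le_left hKsc,
        isP1_of_not_comm hG hD hMstar hKstH hKsc⟩
    · exact ⟨isP1_of_not_comm hG hD hM hK hKc,
        isP1_of_le_sigmaCore hG hM hMstar hK.1 hK.2.1 hKMs hKc⟩
  obtain ⟨hP1M, hP1Ms⟩ := hP
  -- the family
  set F : Set (Subgroup G × Subgroup G) := {(M, K), (Mstar, Ks M K)} with hF
  have hcop := Cfsg.Agent.Lib.Helper77.BG147.coprime_card_Ks hG hM hK
  have hinf : K ⊓ Ks M K = ⊥ := by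
    rw [eq_bot_iff]
    intro x hx
    have h1 : orderOf x ∣ Nat.card K := by
      have := orderOf_dvd_natCard (⟨x, hx.1⟩ : K)
      rwa [Subgroup.orderOf_mk] at this
    have h2 : orderOf x ∣ Nat.card (Ks M K) := by
      have := orderOf_dvd_natCard (⟨x, hx.2⟩ : Ks M K)
      rwa [Subgroup.orderOf_mk] at this
    have h3 : orderOf x = 1 := Nat.eq_one_of_dvd_coprimes hcop h1 h2
    exact Subgroup.mem_bot.mpr (orderOf_eq_one_iff.mp h3)
  have hcard : Nat.card ↥(K ⊔ Ks M K) = Nat.card K * Nat.card (Ks M K) :=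
    Cfsg.Agent.Lib.Helper28.BG147.card_sup_of_commute inf_le_right hinf
  have hfam : PFam (K ⊔ Ks M K) F := by
    refine ⟨?_, ?_, ?_⟩
    · intro p hp
      rcases hp with rfl | rfl
      · exact ⟨⟨hM, hK, hK1⟩, rfl, hP1M⟩
      · refine ⟨⟨hMstar, hKstH, hKs1⟩, ?_, hP1Ms⟩
        show Ks M K ⊔ Ks Mstar (Ks M K) = K ⊔ Ks M K
        rw [hKsK, sup_comm]
    · intro p hp q hq hpq g
      rcases hp with rfl | rfl <;> rcases hq with rfl | rfl
      · exact absurd rfl hpq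
      · exact hnc g
      · intro h
        apply hnc g⁻¹
        show Mstar = Cfsg.Agent.Lib.Helper55.cj g⁻¹ M
        have h' : M = Cfsg.Agent.Lib.Helper55.cj g Mstar := h
        rw [h', cj_inv_cj]
      · exact absurd rfl hpq
    · intro r hr hrZ
      rw [hcard] at hrZ
      rcases (Nat.Prime.dvd_mul hr).mp hrZ with h | h
      · refine ⟨(Mstar, Ks M K), Or.inr rfl, ?_⟩
        show r ∣ Nat.card (Ks Mstar (Ks M K))
        rw [hKsK]
        exact h
      · exact ⟨(M, K), Or.inl rfl, h⟩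
  refine hFalse (K ⊔ Ks M K) F hfam ⟨(M, K), Or.inl rfl, (Mstar, Ks M K), Or.inr rfl, ?_⟩
  intro h
  exact hne (congrArg Prod.fst h).symm

end Cfsg.Agent.Lib.Helper75.BG1366
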