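import Mathlib
import Cfsg.Agent.Lib.Helper31.BG137Defs
import Cfsg.Agent.Lib.Helper91.BG125e
import Cfsg.Agent.Lib.Helper71.BG11a
import Cfsg.Agent.Lib.Helper55.BG135b
import Cfsg.Agent.S1418

/-!
# K-137N-J1 (keystone 137712, parallel hand): `LCfg.exists_S_EL`, step (j) of the BG 13.7 nonabelian case
-/

set_option autoImplicit false
set_option linter.unusedSectionVars false

namespace Cfsg.Agent.Lib.Helper75.BG137

open Cfsg Cfsg.Agent.Lib.Helper55 Cfsg.Agent.Lib.Helper31.BG137 Cfsg.Agent.Lib.Helper15.BG139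

variable {G : Type*} [Group G] [Finite G]

/-- KEYSTONE 137712  K-137N-J1  (step (j), existence). -/
theorem LCfg.exists_S_EL {M E P A L : Subgroup G} {p q : ℕ} (l : LCfg M E P A L p q) (hpσ : p ∉ sigma L) :
    ∃ S₁ EL : Subgroup G, IsSylowIn q (sigmaCore L) S₁ ∧ A ≤ S₁ ∧ IsComplIn EL (sigmaCore L) L ∧ P ≤ EL ∧
      EL ≤ Subgroup.normalizer (S₁ : Set G) := by
  haveI : Fact q.Prime := ⟨l.c.hq.1⟩
  haveI : Fact p.Prime := ⟨l.c.hp.1⟩
  have hpp : p.Prime := l.c.hp.1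
  have hG := l.c.hG
  have hPL : P ≤ L := l.c.hPE.trans l.hEL
  have hAL : A ≤ L := l.c.hAE.trans l.hEL
  have hAq : IsPGroup q A := IsPGroup.of_card l.c.hAc
  have hAσ : A ≤ sigmaCore L :=
    Cfsg.Agent.Lib.Helper91.BG125.le_sigmaCore_of_mem_sigma hG l.hL l.hqL hAq hAL
  have hEN : E ≤ Subgroup.normalizer (A : Set G) :=
    (Cfsg.Agent.S1418.result hG M l.c.hM E l.c.hE q l.c.hq A ⟨l.c.hAE, l.c.hAe, l.c.hAc⟩).1.1
  -- `P` is solvable
  have hPcyc : IsCyclic P := isCyclic_of_prime_card (p := p) l.c.hP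
  have hPsolv : Group.IsSolvable P := by
    haveI := hPcyc
    letI : CommGroup P := IsCyclic.commGroup
    exact Group.isSolvable_of_comm (fun a b => mul_comm a b)
  -- coprimality
  have hcop : (Nat.card P).Coprime (Nat.card (sigmaCore L)) := by
    rw [l.c.hP]
    apply (Nat.Prime.coprime_iff_not_dvd hpp).2
    intro hd
    exact hpσ (Cfsg.Agent.Lib.Helper71.BG11.sigmaCore_pi hG l.hL hpp hd)
  have hidx : ¬ q ∣ (sigmaCore L).index :=
    (Cfsg.Agent.S1350.result hG L l.hL).2.1.2 q l.c.hq.1 l.hqL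
  obtain ⟨S₁, hAS, hSσ, hPS, hSyl, -⟩ :=
    Cfsg.Agent.Lib.Helper71.BG11.exists_inv_sylow_ge (A := P) (K := sigmaCore L) (Q := A) (q := q)
      hPsolv (hPL.trans (Cfsg.Agent.Lib.Helper71.BG11.le_normalizer_sigmaCore L)) hcop hidx hAσ hAq
      (l.c.hPE.trans hEN)
  have hSyl' : IsSylowIn q (sigmaCore L) S₁ :=
    ⟨hSσ, hSyl.2.1, fun T' _ hT' hle => hSyl.2.2 T' le_top hT' hle⟩
  obtain ⟨EL, hEL, hPEL, hELS⟩ :=
    Cfsg.Agent.Lib.Helper55.BG135.exists_complIn_ge_normalizing hG l.hL hPL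
      (by
        intro s hs hsd
        rw [l.c.hP] at hsd
        have : s = p := (Nat.prime_dvd_prime_iff_eq hs hpp).mp hsd
        rw [this]; exact hpσ)
      hSyl' hPS
  exact ⟨S₁, EL, hSyl', hAS, hEL, hPEL, hELS⟩

end Cfsg.Agent.Lib.Helper75.BG137
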