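import Mathlib
import Cfsg.Prelude.Def_OddOrderLocal
import Cfsg.Agent.Lib.Helper71.BG11a
import Cfsg.Agent.Lib.Helper01.Coprime

/-!
# K-1381-B (keystone 138102, architect helper71): `U` complements `M_F = M_σ` in `M' = U M_σ`
-/

set_option autoImplicit false
set_option linter.unusedSectionVars false

namespace Cfsg.Agent.Lib.Helper75.BG1381

open Cfsg Subgroup

variable {G : Type*} [Group G] [Finite G]

theorem fitting_compl {M K U : Subgroup G} (hKU : IsSigmaDecomposition M K U)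
    (hd : ⁅M, M⁆ = U ⊔ sigmaCore M) (hF : fittingHallOf M = sigmaCore M) :
    IsComplIn (fittingHallOf M) U ⁅M, M⁆ := by
  rw [hF, hd]
  have hUM : U ≤ M := hKU.compl.1
  have hUN : U ≤ normalizer (sigmaCore M : Set G) :=
    hUM.trans (Cfsg.Agent.Lib.Helper71.BG11.le_normalizer_sigmaCore M)
  refine ⟨le_sup_right, le_sup_left, ?_, ?_⟩
  · rw [eq_bot_iff]
    intro x hx
    have h1 : x ∈ U ⊓ (K ⊔ sigmaCore M) :=
      ⟨hx.2, (le_sup_right : sigmaCore M ≤ K ⊔ sigmaCore M) hx.1⟩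
    rw [hKU.compl.2.2.1] at h1
    exact h1
  · intro m hm
    obtain ⟨u, hu, s, hs, rfl⟩ := Cfsg.Agent.Lib.Helper01.exists_mul_of_mem_sup hUN hm
    refine ⟨u * s * u⁻¹, (mem_normalizer_iff.mp (hUN hu) s).mp hs, u, hu, ?_⟩
    group

end Cfsg.Agent.Lib.Helper75.BG1381
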