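import Mathlib
import Cfsg.Agent.Lib.Helper15.BG147Defs
import Cfsg.Agent.Lib.Helper71.BG11a
import Cfsg.Agent.S1378
import Cfsg.Agent.S1404

/-!
# K-147C-C10 (keystone 147110, architect helper15): `home_unique`

The maximal subgroup over `N_G(X)`, `X ≤ K` of prime order, is unique.
-/

set_option autoImplicit false

namespace Cfsg.Agent.Lib.Helper75.BG147

open Cfsg Cfsg.Agent.Lib.Helper55 Cfsg.Agent.Lib.Helper31.BG134 Cfsg.Agent.Lib.Helper15.BG139
  Cfsg.Agent.Lib.Helper15.BG142 Cfsg.Agent.Lib.Helper15.BG147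

variable {G : Type*} [Group G] [Finite G]

/-- LEAF C10 (147110) -/
theorem home_unique (hG : IsMinSimpleOddOrder G) {M K X : Subgroup G} (hM : IsCoatom M)
    (hK : IsPiHallOf (kappa M) K M) (hK1 : K ≠ ⊥) (hXK : X ≤ K) (hXp : (Nat.card X).Prime)
    {H H' : Subgroup G} (hH : IsCoatom H) (hNH : Subgroup.normalizer (X : Set G) ≤ H)
    (hH' : IsCoatom H') (hNH' : Subgroup.normalizer (X : Set G) ≤ H') : H = H' := by
  obtain ⟨E, ks⟩ := exists_ks hG hM hK hK1
  have hXM : X ≤ M := hXK.trans hK.1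
  have hX1 : X ≠ ⊥ := by
    intro h
    rw [h, Subgroup.card_bot] at hXp
    exact Nat.not_prime_one hXp
  have hCP : CP M X ≠ ⊥ := by
    intro h
    apply ks.hKs
    rw [eq_bot_iff, ← h]
    exact le_inf inf_le_left (inf_le_right.trans (Subgroup.centralizer_le (by exact_mod_cast hXK)))
  have h13 := ks.h13 X hXK hXp
  have hpH : Nat.card X ∈ sigma H := htx' hG M X H (Nat.card X) hM hXM rfl h13 hCP hH hNH
  have hpH' : Nat.card X ∈ sigma H' := htx' hG M X H' (Nat.card X) hM hXM rfl h13 hCP hH' hNH'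
  obtain ⟨g, hg⟩ := (Cfsg.Agent.S1378.result hG).2 H H' hH hH' ⟨Nat.card X, hpH, hpH'⟩
  have hg' : H' = cj g H := hg
  have hXH : X ≤ H := Subgroup.le_normalizer.trans hNH
  have hXH' : X ≤ H' := Subgroup.le_normalizer.trans hNH'
  have hFp : Fact (Nat.card X).Prime := ⟨hXp⟩
  have hXpg : IsPGroup (Nat.card X) X := IsPGroup.of_card (n := 1) (by rw [pow_one])
  have hle : cj g⁻¹ X ≤ H := by
    rw [cj_le_iff, inv_inv, ← hg']
    exact hXH'
  obtain ⟨m, hm, c, hc, hmc⟩ :=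
    (Cfsg.Agent.S1404.result hG H hH (Nat.card X) hpH X hXpg hX1 hXH).1 g⁻¹ hle
  have hcH : c ∈ H := hNH (Subgroup.centralizer_le_normalizer _ hc)
  have hginv : g⁻¹ ∈ H := by
    rw [hmc]
    exact H.mul_mem hm hcH
  have hgH : g ∈ H := by
    have := H.inv_mem hginv
    rwa [inv_inv] at this
  rw [hg', cj_eq_self_of_mem hgH]

end Cfsg.Agent.Lib.Helper75.BG147
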