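import Mathlib
import Cfsg.Agent.Lib.Helper15.BG147Defs
import Cfsg.Agent.Lib.Helper78.BG1310Aux
import Cfsg.Agent.Lib.Helper64.BG14K
import Cfsg.Agent.Lib.Helper16.BG134Asm
import Cfsg.Agent.Lib.Helper71.BG11a

/-!
# K-147C-C5 (keystone 147105, architect helper15): `kstar_primes`

The primes of `K* = C_{M_σ}(K)` lie in `κ(H)` for a maximal subgroup `H` over `N_G(X)`, `X ≤ K` of prime order.
-/

set_option autoImplicit false

namespace Cfsg.Agent.Lib.Helper75.BG147

open Cfsg Cfsg.Agent.Lib.Helper55 Cfsg.Agent.Lib.Helper31.BG134 Cfsg.Agent.Lib.Helper15.BG139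
  Cfsg.Agent.Lib.Helper15.BG142 Cfsg.Agent.Lib.Helper15.BG147

variable {G : Type*} [Group G] [Finite G]

/-- LEAF C5 (147105) -/
theorem kstar_primes {M K X H : Subgroup G} (c : CL M K X H) (c1 : CL1 M K X H) :
    ∀ Y : Subgroup G, Y ≤ KStar M K → (Nat.card Y).Prime → Nat.card Y ∈ kappa H := by
  intro Y hY hYp
  obtain ⟨hG, hM, hK, hK1, hXK, hXp, hH, hNH⟩ := c
  obtain ⟨E, ks⟩ := exists_ks hG hM hK hK1
  have hqM : Nat.card Y ∈ sigma M :=
    Cfsg.Agent.Lib.Helper71.BG11.sigmaCore_pi hG hM hYp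
      (Subgroup.card_dvd_of_le (hY.trans inf_le_left))
  have hqH : Nat.card Y ∉ sigma H := hsp hG M H hM hH c1.hnc _ hqM
  have hYH : Y ≤ H := (hY.trans le_sup_right).trans c1.hZH
  have hqdH : Nat.card Y ∣ Nat.card H := Subgroup.card_dvd_of_le hYH
  have hX1 : X ≠ ⊥ := by
    intro h
    rw [h, Subgroup.card_bot] at hXp
    exact Nat.not_prime_one hXp
  have hXCY : X ≤ Subgroup.centralizer (Y : Set G) := by
    intro x hx
    rw [Subgroup.mem_centralizer_iff]
    intro y hy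
    have hyK : y ∈ Subgroup.centralizer (K : Set G) := (hY hy).2
    exact ((Subgroup.mem_centralizer_iff.mp hyK) x (hXK hx)).symm
  have hC : CP H Y ≠ ⊥ := by
    intro h
    apply hX1
    rw [eq_bot_iff, ← h]
    exact le_inf c1.hXσ hXCY
  rcases Cfsg.Agent.Lib.Helper16.BG134.mem_tau_cases hG hH hYp hqdH hqH with h1 | h2 | h3
  · exact Cfsg.Agent.Lib.Helper64.BG14.mem_kappa_of_cent_ne_bot hG hH hYp hqdH hqH h1.2.2.2.2
      hYH rfl hC
  · exfalso
    have hN := Cfsg.Agent.Lib.Helper78.BG1310.normalizer_le_of_tau2_cent hG hH hYH hYp h2 hC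
    have hYCP : Y ≤ CP M X := by
      refine le_inf (hY.trans inf_le_left) ?_
      exact (hY.trans inf_le_right).trans (Subgroup.centralizer_le (by exact_mod_cast hXK))
    have hHM : H = M :=
      ha hG M X Y (Nat.card X) hM (hXK.trans hK.1) rfl (ks.h13 X hXK hXp) hYCP hYp H hH hN
    exact c1.hnc 1 (by rw [cj_one, hHM])
  · exact Cfsg.Agent.Lib.Helper64.BG14.mem_kappa_of_cent_ne_bot hG hH hYp hqdH hqH h3.2.2.2
      hYH rfl hC

end Cfsg.Agent.Lib.Helper75.BG147
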