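import Mathlib
import Cfsg.Agent.Lib.Helper31.BG147Defs
import Cfsg.Agent.Lib.Helper55.Basic
import Cfsg.Agent.Lib.Helper55.Uniq3
import Cfsg.Agent.Lib.Helper54.BG134A3a
import Cfsg.Agent.Lib.Helper27.BG147P
import Cfsg.Agent.Lib.Helper71.BG11a
import Cfsg.Agent.S1378

/-!
# K-1369-G (keystone 136906, architect helper31): BG 14.7(g)

Every maximal subgroup `H` with `κ(H) ≠ ∅` is conjugate to `M` or to its partner `M*`.
-/

set_option autoImplicit false

namespace Cfsg.Agent.Lib.Helper75.BG147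

open Cfsg Subgroup Cfsg.Agent.Lib.Helper55 Cfsg.Agent.Lib.Helper11.BG14D
  Cfsg.Agent.Lib.Helper31.BG147

variable {G : Type*} [Group G] [Finite G]

/-- in `⟨k⟩`, `k ≠ 1`, there is a subgroup of prime order -/
theorem exists_prime_card_le_zpowers' {k : G} (hk1 : k ≠ 1) :
    ∃ X : Subgroup G, X ≤ zpowers k ∧ (Nat.card X).Prime := by
  have ho : orderOf k ≠ 1 := by
    intro h
    exact hk1 (orderOf_eq_one_iff.mp h)
  obtain ⟨p, hp, hpk⟩ := Nat.exists_prime_and_dvd ho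
  refine ⟨zpowers (k ^ (orderOf k / p)), ?_, ?_⟩
  · exact zpowers_le.mpr (Subgroup.pow_mem _ (mem_zpowers k) _)
  · rw [Nat.card_zpowers]
    have hpos : 0 < orderOf k := orderOf_pos k
    have hdiv : orderOf k / p ∣ orderOf k := Nat.div_dvd_of_dvd hpk
    rw [orderOf_pow_of_dvd (by
      intro h0
      rw [h0] at hdiv
      exact hpos.ne' (Nat.eq_zero_of_zero_dvd hdiv)) hdiv]
    rw [Nat.div_div_self hpk hpos.ne']
    exact hp

theorem conj_of_kappa_ne (hG : IsMinSimpleOddOrder G) {M K Mstar : Subgroup G} (hM : IsCoatom M)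
    (hK : IsPiHallOf (kappa M) K M) (hK1 : K ≠ ⊥) (hMstar : IsCoatom Mstar)
    (hKst : K = sigmaCore Mstar ⊓ centralizer ((Ks M K : Subgroup G) : Set G))
    (hKstH : IsPiHallOf (kappa Mstar) (Ks M K) Mstar) (hKs1 : Ks M K ≠ ⊥)
    (hU : ∀ (M K X : Subgroup G), IsCoatom M → IsPiHallOf (kappa M) K M → K ≠ ⊥ → X ≤ Ks M K →
      (Nat.card X).Prime → centralizer (X : Set G) ≤ M ∧
        ∀ L : Subgroup G, IsCoatom L → centralizer (X : Set G) ≤ L → L = M)
    (hHalf : ∀ (M K : Subgroup G), IsCoatom M → IsPiHallOf (kappa M) K M → K ≠ ⊥ →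
      Nat.card G < 2 * Set.ncard (csupp (Zhat M K)))
    (hcop : ∀ (M K : Subgroup G), IsCoatom M → IsPiHallOf (kappa M) K M →
      (Nat.card K).Coprime (Nat.card (Ks M K)))
    (H : Subgroup G) (hH : IsCoatom H) (hκ : (kappa H).Nonempty) :
    ∃ g : G, H = M.map (MulAut.conj g).toMonoidHom ∨ H = Mstar.map (MulAut.conj g).toMonoidHom := by
  classical
  by_cases hconj : ∃ g : G, H = M.map (MulAut.conj g).toMonoidHom
  · obtain ⟨g, hg⟩ := hconj
    exact ⟨g, Or.inl hg⟩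
  -- `σ(M) ∩ σ(H) = ∅`
  have hdisj : ∀ p : ℕ, p ∈ sigma M → p ∈ sigma H → False := by
    intro p hpM hpH
    exact hconj ((Cfsg.Agent.S1378.result hG).2 M H hM hH ⟨p, hpM, hpH⟩)
  -- a Hall `κ(H)`-subgroup of `H`
  have hsolv : Group.IsSolvable ↥H := ms_solvable hG hH.1
  obtain ⟨KH, hKH, -⟩ := Cfsg.Agent.Lib.Helper54.BG134.exists_isPiHallOf_ge hsolv (kappa H)
    (K := ⊥) bot_le (by
      intro p hp hpd
      rw [Subgroup.card_bot] at hpd
      exact absurd (Nat.dvd_one.mp hpd) hp.ne_one)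
  have hKH1 : KH ≠ ⊥ := by
    intro h
    obtain ⟨p, hp⟩ := hκ
    apply hKH.2.2 p hp.1 hp
    rw [h, Subgroup.relIndex_bot_left]
    exact hp.2.1
  -- the two class supports meet
  have hA := hHalf M K hM hK hK1
  have hB := hHalf H KH hH hKH hKH1
  have hmeet : ∃ v, v ∈ csupp (Zhat M K) ∧ v ∈ csupp (Zhat H KH) := by
    by_contra hno
    push Not at hno
    have hd : Disjoint (csupp (Zhat M K)) (csupp (Zhat H KH)) := by
      rw [Set.disjoint_left]
      exact hno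
    have h1 := Set.ncard_union_eq hd (Set.toFinite _) (Set.toFinite _)
    have h2 := Set.ncard_le_card (csupp (Zhat M K) ∪ csupp (Zhat H KH))
    omega
  obtain ⟨v, ⟨g, z, hz, hvz⟩, ⟨g', z', hz', hvz'⟩⟩ := hmeet
  -- `z = c z' c⁻¹`
  set c : G := g⁻¹ * g' with hc
  have hzc : z = c * z' * c⁻¹ := by
    have h : g * z * g⁻¹ = g' * z' * g'⁻¹ := by rw [← hvz, ← hvz']
    have e : z = g⁻¹ * (g * z * g⁻¹) * g := by group
    rw [e, h, hc]
    group
  -- the parts of `z'`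
  have hcH : Ks H KH ≤ centralizer (KH : Set G) := inf_le_right
  obtain ⟨x', hx', y', hy', -, hy'1, -, -, -, ⟨b, hb⟩⟩ :=
    Cfsg.Agent.Lib.Helper27.BG147.zhat_parts hcH (hcop H KH hH hKH) hz'
  -- `w = c y' c⁻¹ = z ^ b`
  set w : G := c * y' * c⁻¹ with hw
  have hwz : w = z ^ b := by
    rw [hw, hzc, conj_pow, hb]
  have hzmem : z ∈ K ⊔ Ks M K := hz.1
  have hwmem : w ∈ K ⊔ Ks M K := by
    rw [hwz]
    exact Subgroup.pow_mem _ hzmem _
  have hw1 : w ≠ 1 := by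
    intro h
    apply hy'1
    have e : y' = c⁻¹ * w * c := by rw [hw]; group
    rw [e, h]
    group
  -- `w ∈ K`
  have hcM : Ks M K ≤ centralizer (K : Set G) := inf_le_right
  obtain ⟨x₁, hx₁, y₁, hy₁, hwxy⟩ :=
    Cfsg.Agent.Lib.Helper27.BG147.exists_mul_of_mem_sup_of_centralizer hcM hwmem
  have hxy : x₁ * y₁ = y₁ * x₁ := (Subgroup.mem_centralizer_iff.mp (hcM hy₁)) x₁ hx₁
  have hcopM := hcop M K hM hK
  have hxK : x₁ ^ Nat.card K = 1 := by
    have h := pow_card_eq_one' (G := K) (x := ⟨x₁, hx₁⟩)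
    exact congrArg Subtype.val h
  have hyY : y₁ ^ Nat.card (Ks M K) = 1 := by
    have h := pow_card_eq_one' (G := Ks M K) (x := ⟨y₁, hy₁⟩)
    exact congrArg Subtype.val h
  have hy₁pow : w ^ (Nat.chineseRemainder hcopM.symm 1 0 : ℕ) = y₁ := by
    rw [hwxy, hxy]
    exact Cfsg.Agent.Lib.Helper75.BG14D.pow_crt_eq hcopM.symm hyY hxK hxy.symm
  have hy₁1 : y₁ = 1 := by
    by_contra hne
    have ho : orderOf y₁ ≠ 1 := fun h => hne (orderOf_eq_one_iff.mp h)
    obtain ⟨p, hp, hpd⟩ := Nat.exists_prime_and_dvd ho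
    -- `p ∈ σ(M)`
    have h1 : orderOf y₁ ∣ Nat.card (Ks M K) := orderOf_dvd_of_pow_eq_one hyY
    have h2 : Nat.card (Ks M K) ∣ Nat.card (sigmaCore M) :=
      Subgroup.card_dvd_of_le inf_le_left
    have hpM : p ∈ sigma M :=
      Cfsg.Agent.Lib.Helper71.BG11.sigmaCore_pi hG hM hp (hpd.trans (h1.trans h2))
    -- `p ∈ σ(H)`
    have h3 : orderOf y₁ ∣ orderOf w := by
      rw [← hy₁pow]
      exact orderOf_pow_dvd _
    have hy'Y : y' ^ Nat.card (Ks H KH) = 1 := by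
      have h := pow_card_eq_one' (G := Ks H KH) (x := ⟨y', hy'⟩)
      exact congrArg Subtype.val h
    have h4 : orderOf w ∣ Nat.card (Ks H KH) := by
      apply orderOf_dvd_of_pow_eq_one
      rw [hw, conj_pow, hy'Y]
      group
    have h5 : Nat.card (Ks H KH) ∣ Nat.card (sigmaCore H) :=
      Subgroup.card_dvd_of_le inf_le_left
    have hpH : p ∈ sigma H :=
      Cfsg.Agent.Lib.Helper71.BG11.sigmaCore_pi hG hH hp (hpd.trans (h3.trans (h4.trans h5)))
    exact hdisj p hpM hpH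
  have hwK : w ∈ K := by
    rw [hwxy, hy₁1, mul_one]
    exact hx₁
  -- a subgroup `Y` of prime order of `⟨y'⟩`
  obtain ⟨Y, hYle, hYp⟩ := exists_prime_card_le_zpowers' hy'1
  have hYKs : Y ≤ Ks H KH := hYle.trans (zpowers_le.mpr hy')
  have hcYK : cj c Y ≤ K := by
    intro u hu
    have hu' : c⁻¹ * u * c ∈ Y := mem_cj.mp hu
    obtain ⟨k, hk⟩ := Subgroup.mem_zpowers_iff.mp (hYle hu')
    have e : u = c * (c⁻¹ * u * c) * c⁻¹ := by group
    rw [e, ← hk, ← conj_zpow]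
    exact Subgroup.zpow_mem _ hwK _
  have hcYKs : cj c Y ≤ Ks Mstar (Ks M K) := hcYK.trans (le_of_eq hKst)
  obtain ⟨hCY, -⟩ := hU H KH Y hH hKH hKH1 hYKs hYp
  obtain ⟨-, huniq⟩ := hU Mstar (Ks M K) (cj c Y) hMstar hKstH hKs1 hcYKs (by
    rw [card_cj]; exact hYp)
  have hcH' : IsCoatom (cj c H) := isCoatom_cj c hH
  have hle : centralizer ((cj c Y : Subgroup G) : Set G) ≤ cj c H := by
    rw [← cj_centralizer]
    exact cj_mono hCY
  have heq : cj c H = Mstar := huniq (cj c H) hcH' hle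
  refine ⟨c⁻¹, Or.inr ?_⟩
  have := congrArg (cj c⁻¹) heq
  rw [cj_inv_cj] at this
  exact this

end Cfsg.Agent.Lib.Helper75.BG147
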