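import Mathlib
import Cfsg.Agent.Lib.Helper16.BG1363Defs
import Cfsg.Agent.Lib.Helper14.BG134G8
import Cfsg.Agent.Lib.Helper03.FrobSub
import Cfsg.Agent.Lib.Helper71.BG11a
import Cfsg.Agent.Lib.Helper71.BG11c
import Cfsg.Agent.Lib.Helper31.FittingHall
import Cfsg.Agent.Lib.Helper55.Basic
import Cfsg.Agent.Lib.Helper55.Uniq2
import Cfsg.Agent.S1350
import Cfsg.Agent.S1417
import Cfsg.Agent.S1418
import Cfsg.Agent.S1432
import Cfsg.Agent.S1430
import Cfsg.Agent.Lib.Helper90.BG14DW1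
import Cfsg.Agent.Lib.Helper31.BG15KA
import Cfsg.Agent.Lib.Helper01.Coprime

/-!
# BG Theorem 15.2 (S1435), step (a1): `r ∈ σ(H)`

`M = K U M_σ` with `K ≠ 1 ≠ U`, `R ≤ U` a Sylow `r`-subgroup of `M`, `H` a maximal subgroup over
`N_G(R)`.  Then `r ∈ σ(H)`.  Stated in the language of helper16's pack K-1363 (`NU`, `PF`).
-/

set_option autoImplicit false
set_option linter.unusedSectionVars false
set_option linter.style.haveILetI false

namespace Cfsg.Agent.Lib.Helper75.BG152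

open Cfsg Subgroup Cfsg.Agent.Lib.Helper55 Cfsg.Agent.Lib.Helper11.BG14D Cfsg.Agent.Lib.Helper16.BG1363

variable {G : Type*} [Group G] [Finite G]

/-- a nontrivial `r`-subgroup `R` with `N_G(R) ≤ H`, `H` of `r`-rank at most one: `r ∈ σ(H)` -/
theorem mem_sigma_of_pRankLE_one (hG : IsMinSimpleOddOrder G) {H R : Subgroup G} {r : ℕ}
    [hr : Fact r.Prime] (hRp : IsPGroup r R) (hR1 : R ≠ ⊥)
    (hNH : normalizer (R : Set G) ≤ H) (h1 : PRankLE r 1 ↥H) : r ∈ sigma H := by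
  have hRH : R ≤ H := le_normalizer.trans hNH
  have hp2 : r ≠ 2 := ms_prime_ne_two hG hRp hR1
  have hR' : IsPGroup r (R.subgroupOf H) := hRp.comap_of_injective H.subtype H.subtype_injective
  obtain ⟨P, hP⟩ := hR'.exists_le_sylow
  have hPp : IsPGroup r ((P : Subgroup ↥H).map H.subtype) := P.2.map H.subtype
  have hcyc : IsCyclic ↥((P : Subgroup ↥H).map H.subtype) :=
    Cfsg.Agent.Lib.Helper13.BG12.isCyclic_of_pRankLE_one hp2 h1 (Subgroup.map_subtype_le _) hPp
  have hRP : R ≤ (P : Subgroup ↥H).map H.subtype := by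
    intro x hx
    exact ⟨⟨x, hRH hx⟩, hP (Subgroup.mem_subgroupOf.mpr hx), rfl⟩
  have hN := Cfsg.Agent.Lib.Helper14.BG134.normalizer_le_normalizer_of_isCyclic hcyc hRP
  have hrd : r ∣ Nat.card H := by
    have : Nontrivial R := (Subgroup.nontrivial_iff_ne_bot R).mpr hR1
    obtain ⟨n, hn0, hn⟩ := hRp.nontrivial_iff_card.mp inferInstance
    have h2 : r ∣ Nat.card R := by rw [hn]; exact dvd_pow_self r hn0.ne'
    exact h2.trans (Subgroup.card_dvd_of_le hRH)
  exact ⟨hr.out, hrd, P, hN.trans hNH⟩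

/-- a prime of `π` dividing `|M|` divides the order of a Hall `π`-subgroup of `M` -/
theorem dvd_card_of_hall {π : Set ℕ} {A M : Subgroup G} (hA : IsPiHallOf π A M) {q : ℕ}
    (hq : q.Prime) (hqπ : q ∈ π) (hqM : q ∣ Nat.card M) : q ∣ Nat.card A := by
  have h1 : Nat.card (A.subgroupOf M) * (A.subgroupOf M).index = Nat.card M :=
    Subgroup.card_mul_index _
  have h2 : Nat.card (A.subgroupOf M) = Nat.card A :=
    Nat.card_congr (Subgroup.subgroupOfEquivOfLe hA.1).toEquiv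
  rw [h2] at h1
  rw [← h1] at hqM
  rcases (Nat.Prime.dvd_mul hq).mp hqM with h | h
  · exact h
  · exact absurd h (hA.2.2 q hq hqπ)

/-- `K` normalizes the Sylow subgroup `R ≤ U` (`U` abelian) -/
theorem NU.kappa_le_normalizer (hG : IsMinSimpleOddOrder G) {M K U R H : Subgroup G} {r : ℕ}
    (c : NU M K U R H r) : K ≤ normalizer (R : Set G) := by
  have h30 : H1430 G := fun M hM K hK hK1 => Cfsg.Agent.S1430.result hG M hM K hK hK1
  obtain ⟨hab, -⟩ := Cfsg.Agent.Lib.Helper90.BG14D.free_action hG h30 M c.hM K U c.hKU c.hK1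
  have hcommU : ∀ a ∈ U, ∀ b ∈ U, a * b = b * a := by
    intro a ha b hb
    have := hab.is_comm.comm (⟨a, ha⟩ : U) ⟨b, hb⟩
    exact congrArg Subtype.val this
  have hUM : U ≤ M := c.hKU.compl.1
  have key : ∀ k ∈ K, ∀ x ∈ R, k * x * k⁻¹ ∈ R := by
    intro k hk x hx
    have hR'U : R.map (MulAut.conj k).toMonoidHom ≤ U := by
      rintro _ ⟨y, hy, rfl⟩
      exact (mem_normalizer_iff.mp (c.hKU.normal hk) y).mp (c.hRU hy)
    have hR'p : IsPGroup r (R.map (MulAut.conj k).toMonoidHom) := c.hRp.map _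
    have hcent : R.map (MulAut.conj k).toMonoidHom ≤ normalizer (R : Set G) := by
      refine le_trans ?_ (Subgroup.centralizer_le_normalizer (R : Set G))
      intro y hy
      rw [Subgroup.mem_centralizer_iff]
      intro z hz
      exact hcommU z (c.hRU hz) y (hR'U hy)
    have hsup : IsPGroup r (R.map (MulAut.conj k).toMonoidHom ⊔ R : Subgroup G) :=
      IsPGroup.to_sup_of_normal_right' hR'p c.hRp hcent
    have hle : R.map (MulAut.conj k).toMonoidHom ⊔ R ≤ M :=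
      sup_le (hR'U.trans hUM) (c.hRU.trans hUM)
    have heq := c.hRsyl _ hle hsup le_sup_right
    have hmem : k * x * k⁻¹ ∈ R.map (MulAut.conj k).toMonoidHom := ⟨x, hx, rfl⟩
    have : k * x * k⁻¹ ∈ (R.map (MulAut.conj k).toMonoidHom ⊔ R : Subgroup G) :=
      (le_sup_left : _ ≤ R.map (MulAut.conj k).toMonoidHom ⊔ R) hmem
    rwa [heq] at this
  intro k hk
  rw [mem_normalizer_iff]
  intro x
  constructor
  · exact key k hk x
  · intro h
    have := key k⁻¹ (K.inv_mem hk) _ h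
    simpa [mul_assoc] using this

/-- **BG 15.2 (a1)**: `r ∈ σ(H)`. -/
theorem NU.mem_sigma (hG : IsMinSimpleOddOrder G) {M K U R H Ms : Subgroup G} {r : ℕ}
    (c : NU M K U R H r) (pf : PF M K Ms) (hp : (Nat.card K).Prime)
    (hKstH : IsPiHallOf (kappa Ms) (Ks M K) Ms)
    (hKσ : IsPiHallOf (sigma Ms) K M)
    (hrM : r ∉ sigma M) (hUKH : U ⊔ K ≤ H) (hpH : Nat.card K ∉ sigma H)
    (hfpf : sigmaCore H ⊓ centralizer (K : Set G) = ⊥) :
    r ∈ sigma H := by
  classical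
  by_contra hrH
  have hr : Fact r.Prime := ⟨c.hr⟩
  have hM := c.hM
  have hH := c.hH
  have hRH : R ≤ H := le_normalizer.trans c.hNH
  have hKH : K ≤ H := le_sup_right.trans hUKH
  have hUM : U ≤ M := c.hKU.compl.1
  have hKM : K ≤ M := c.hKU.hall.1
  have hHall : IsPiHallOf (sigma H) (sigmaCore H) H := (Cfsg.Agent.S1350.result hG H hH).1
  have h2 : PRankLE r 2 ↥H := by
    by_contra h
    exact hrH (Cfsg.Agent.Lib.Helper13.BG12.mem_sigma_of_not_pRankLE_two hG hH c.hr h)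
  have h1 : ¬ PRankLE r 1 ↥H := fun h1 =>
    hrH (mem_sigma_of_pRankLE_one hG c.hRp c.hR1 c.hNH h1)
  have hτ2 : r ∈ tau2 H := ⟨c.hr, hrH, h2, h1⟩
  -- `r ∣ |R|`, `r ∣ |U|`, `r ∤ |K|`
  have hrR : r ∣ Nat.card R := by
    have : Nontrivial R := (Subgroup.nontrivial_iff_ne_bot R).mpr c.hR1
    obtain ⟨n, hn0, hn⟩ := c.hRp.nontrivial_iff_card.mp inferInstance
    rw [hn]; exact dvd_pow_self r hn0.ne'
  have hrU : r ∣ Nat.card U := hrR.trans (Subgroup.card_dvd_of_le c.hRU)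
  have hrK : ¬ r ∣ Nat.card K := fun h =>
    Cfsg.Agent.Lib.Helper31.BG15.not_mem_kappa_of_dvd_card c.hKU c.hr hrU
      (c.hKU.hall.2.1 r c.hr h)
  have hrKs : ¬ r ∣ Nat.card (Ks M K) := fun h =>
    hrM (Cfsg.Agent.Lib.Helper71.BG11.sigmaCore_pi hG hM c.hr
      (h.trans (Subgroup.card_dvd_of_le (inf_le_left : Ks M K ≤ sigmaCore M))))
  -- a complement `E ⊇ R ⊔ K`
  have hKNR := NU.kappa_le_normalizer hG c
  have hRKπ : ∀ q : ℕ, q.Prime → q ∣ Nat.card (K ⊔ R : Subgroup G) → q ∉ sigma H := by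
    intro q hq hqd
    have h3 := Cfsg.Agent.Lib.Helper01.card_sup_mul_card_inf_of_le_normalizer R K hKNR
    have h4 : q ∣ Nat.card R * Nat.card K := by
      rw [← h3]; exact Dvd.dvd.mul_right hqd _
    rcases (Nat.Prime.dvd_mul hq).mp h4 with h | h
    · obtain ⟨n, hn⟩ := IsPGroup.iff_card.mp c.hRp
      rw [hn] at h
      have : q = r := (Nat.prime_dvd_prime_iff_eq hq c.hr).mp (hq.dvd_of_dvd_pow h)
      rw [this]; exact hrH
    · have : q = Nat.card K := (Nat.prime_dvd_prime_iff_eq hq hp).mp h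
      rw [this]; exact hpH
  obtain ⟨E, hE, hRKE⟩ := Cfsg.Agent.Lib.Helper13.BG12.exists_complIn_ge hG hH hHall
    (sup_le hKH hRH) hRKπ
  have hKE : K ≤ E := le_sup_left.trans hRKE
  have hRE : R ≤ E := le_sup_right.trans hRKE
  obtain ⟨B, hBE, hBel, hBcard⟩ :=
    Cfsg.Agent.Lib.Helper13.BG12.exists_elemAb_sq_le_compl hG hH hHall hτ2 hE
  have hBH : B ≤ H := hBE.trans hE.1
  have h17 := Cfsg.Agent.S1417.result hG H hH r hτ2 B ⟨hBH, hBel, hBcard⟩
  have hCB : sigmaCore H ⊓ centralizer (B : Set G) = ⊥ := h17.2.2.2.1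
  obtain ⟨⟨hEN, hall⟩, -, -⟩ := Cfsg.Agent.S1418.result hG H hH E hE r hτ2 B ⟨hBE, hBel, hBcard⟩
  have hcommB : ∀ a ∈ B, ∀ b ∈ B, a * b = b * a := by
    intro a ha b hb
    have := hBel.1.is_comm.comm (⟨a, ha⟩ : B) ⟨b, hb⟩
    exact congrArg Subtype.val this
  -- every element of `K` is a power of any `e ≠ 1` of `K`
  have hKgen : ∀ e ∈ K, e ≠ 1 → ∀ k ∈ K, ∃ n : ℤ, e ^ n = k := by
    intro e he he1 k hk
    have : Fact (Nat.card K).Prime := ⟨hp⟩
    have h1 : (⟨e, he⟩ : K) ≠ 1 := fun h => he1 (congrArg Subtype.val h)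
    have h2 := zpowers_eq_top_of_prime_card (G := K) rfl h1
    have h3 : (⟨k, hk⟩ : K) ∈ Subgroup.zpowers (⟨e, he⟩ : K) := by rw [h2]; trivial
    obtain ⟨n, hn⟩ := Subgroup.mem_zpowers_iff.mp h3
    exact ⟨n, by simpa using congrArg Subtype.val hn⟩
  -- `C_B(K) ≠ 1`
  have hHne : H ≠ ⊥ := by
    intro h
    apply c.hR1
    rw [eq_bot_iff]; rw [h] at hRH; exact hRH
  have hCBK : B ⊓ centralizer (K : Set G) ≠ ⊥ := by
    intro hbot
    have hUn : ∀ e ∈ K, ∀ u ∈ B, e * u * e⁻¹ ∈ B := fun e he u hu =>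
      (mem_normalizer_iff.mp (hEN (hKE he)) u).mp hu
    have hfpf' : ∀ e ∈ K, e ≠ 1 → ∀ u ∈ B, e * u = u * e → u = 1 := by
      intro e he he1 u hu hcomm
      have h1 : u ∈ B ⊓ centralizer (K : Set G) := by
        refine ⟨hu, ?_⟩
        show u ∈ centralizer (K : Set G)
        rw [Subgroup.mem_centralizer_iff]
        intro k hk
        obtain ⟨n, rfl⟩ := hKgen e he he1 k hk
        exact ((Commute.zpow_left (show Commute e u from hcomm) n)).eq
      rw [hbot] at h1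
      exact Subgroup.mem_bot.mp h1
    have hnil : Group.IsNilpotent B := by
      have hc : ∀ a b : B, a * b = b * a := fun a b =>
        Subtype.ext (hcommB a a.2 b b.2)
      letI : CommGroup B := { (inferInstance : Group B) with mul_comm := hc }
      exact CommGroup.isNilpotent
    have hσH : sigmaCore H ≤ H := Cfsg.Agent.Lib.Helper71.BG11.sigmaCore_le H
    have hBKH : B ⊔ K ≤ H := sup_le hBH hKH
    have hHn : ∀ x ∈ B ⊔ K, ∀ h ∈ sigmaCore H, x * h * x⁻¹ ∈ sigmaCore H := by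
      intro x hx h hh
      exact (mem_normalizer_iff.mp
        (Cfsg.Agent.Lib.Helper71.BG11.le_normalizer_sigmaCore H (hBKH hx)) h).mp hh
    have hsolvH : Group.IsSolvable H := ms_solvable hG hH.1
    have hsolv : Group.IsSolvable (sigmaCore H) :=
      Group.isSolvable_of_isSolvable_injective (f := Subgroup.inclusion hσH)
        (Subgroup.inclusion_injective hσH)
    have hcop : Nat.Coprime (Nat.card (sigmaCore H)) (Nat.card ↥(B ⊔ K)) := by
      have hBKE : B ⊔ K ≤ E := sup_le hBE hKE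
      refine Nat.Coprime.coprime_dvd_right (Subgroup.card_dvd_of_le hBKE) ?_
      apply Nat.coprime_of_dvd
      intro q hq hq1 hq2
      exact Cfsg.Agent.Lib.Helper13.BG12.complIn_prime_not_mem_sigma hHall hE q hq hq2
        (hHall.2.1 q hq hq1)
    have hW := Cfsg.Agent.Lib.Helper03.FrobSub.wielandt_sub B K (sigmaCore H) hUn hfpf' hnil hHn
      hsolv hcop
    rw [hfpf, hCB, Subgroup.card_bot, one_pow, one_mul] at hW
    have h5 : Nat.card (sigmaCore H) ∣ 1 := ⟨_, hW.symm.trans (mul_comm _ _)⟩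
    have h6 : Nat.card (sigmaCore H) = 1 := Nat.dvd_one.mp h5
    exact Cfsg.Agent.Lib.Helper71.BG11.sigmaCore_ne_bot hG hH hHne
      ((Subgroup.card_eq_one).mp h6)
  obtain ⟨⟨x', hx'mem⟩, hx'1s⟩ := (Subgroup.ne_bot_iff_exists_ne_one).mp hCBK
  have hx'1 : x' ≠ 1 := fun h => hx'1s (Subtype.ext h)
  have hx'B : x' ∈ B := hx'mem.1
  have hx'C : x' ∈ centralizer (K : Set G) := hx'mem.2
  have hx'Ms : x' ∈ Ms := pf.hCK hx'C
  have hx'o : orderOf x' = r := orderOf_eq_prime (hBel.2 x' hx'B) hx'1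
  have hrMsd : r ∣ Nat.card Ms := by
    rw [← hx'o]; exact Subgroup.orderOf_dvd_natCard Ms hx'Ms
  -- `r ∉ σ(M*)`
  have hrM' : r ∣ Nat.card M := hrU.trans (Subgroup.card_dvd_of_le hUM)
  have hrMs : r ∉ sigma Ms := fun h => hrK (dvd_card_of_hall hKσ c.hr h hrM')
  -- a generator of `K`
  obtain ⟨⟨k, hkK⟩, hk1s⟩ := (Subgroup.ne_bot_iff_exists_ne_one).mp c.hK1
  have hk1 : k ≠ 1 := fun h => hk1s (Subtype.ext h)
  have hkσ : k ∈ sigmaCore Ms := pf.hKMs hkK
  have hx'k : x' ∈ Ms ⊓ centralizer ({k} : Set G) := by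
    refine ⟨hx'Ms, ?_⟩
    show x' ∈ centralizer ({k} : Set G)
    rw [Subgroup.mem_centralizer_iff]
    intro g hg
    rw [Set.mem_singleton_iff] at hg
    subst hg
    exact (Subgroup.mem_centralizer_iff.mp hx'C) g hkK
  have hσ' : ∀ q : ℕ, q.Prime → q ∣ orderOf x' → q ∉ sigma Ms := by
    intro q hq hqd
    rw [hx'o] at hqd
    have : q = r := (Nat.prime_dvd_prime_iff_eq hq c.hr).mp hqd
    rw [this]; exact hrMs
  rcases Cfsg.Agent.S1432.result hG Ms pf.hMs k hkσ hk1 x' hx'k hx'1 hσ' with h | h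
  · -- `r ∈ κ(M*)`
    have hrκ : r ∈ kappa Ms := h.1 r c.hr (by rw [hx'o])
    exact hrKs (dvd_card_of_hall hKstH c.hr hrκ hrMsd)
  · -- `C_G(x') ≤ M*`
    have hCx' : centralizer ({x'} : Set G) ≤ Ms := h.2.2.1
    obtain ⟨a, ha⟩ := exists_prime_orderOf_dvd_card' (G := R) r hrR
    have hao : orderOf (a : G) = r := by rw [Subgroup.orderOf_coe]; exact ha
    have haE : Subgroup.zpowers (a : G) ≤ E := by
      rw [Subgroup.zpowers_le]; exact hRE a.2
    have hacard : Nat.card (Subgroup.zpowers (a : G)) = r := by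
      rw [Nat.card_zpowers, hao]
    have haB : (a : G) ∈ B := hall _ haE hacard (Subgroup.mem_zpowers (a : G))
    have haMs : (a : G) ∈ Ms := by
      apply hCx'
      rw [Subgroup.mem_centralizer_iff]
      intro g hg
      rw [Set.mem_singleton_iff] at hg
      subst hg
      exact hcommB g hx'B a haB
    have haM : (a : G) ∈ M := hUM (c.hRU a.2)
    have haZ : (a : G) ∈ K ⊔ Ks M K := by
      rw [← pf.hMMs]; exact ⟨haM, haMs⟩
    have hKsN : Ks M K ≤ normalizer (K : Set G) :=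
      (inf_le_right : Ks M K ≤ centralizer (K : Set G)).trans
        (Subgroup.centralizer_le_normalizer (K : Set G))
    have h3 := Cfsg.Agent.Lib.Helper01.card_sup_mul_card_inf_of_le_normalizer K (Ks M K) hKsN
    have h4 : r ∣ Nat.card (Ks M K ⊔ K : Subgroup G) := by
      rw [← hao]
      refine Subgroup.orderOf_dvd_natCard _ ?_
      rw [sup_comm]; exact haZ
    have h5 : r ∣ Nat.card K * Nat.card (Ks M K) := by
      rw [← h3]; exact Dvd.dvd.mul_right h4 _
    rcases (Nat.Prime.dvd_mul c.hr).mp h5 with h6 | h6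
    · exact hrK h6
    · exact hrKs h6

end Cfsg.Agent.Lib.Helper75.BG152
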