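import Mathlib
import Cfsg.Agent.Lib.Helper70.BQSDefs

/-!
# K-BQS B6: solvable + property B + generalized quaternion Sylow 2-subgroup forces order 8

Short route: a normal subgroup with an element of order 4 contains all of them (property B), hence
`xa 0` and `xa 1`, so its derived subgroup contains `a 2`, which for `k ≥ 2` has a power of order 4.
So every term of the derived series has an element of order 4.
-/

set_option autoImplicit false

namespace Cfsg.Agent.Lib.Helper75.BQS

open Cfsg Cfsg.Agent.Lib.Helper70.BQS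
open scoped commutatorElement

/-- from property B: a normal subgroup containing an element of some order contains all elements of that
order -/
theorem mem_of_orderOf_eq {G : Type*} [Group G] (hB : PropB G) (M : Subgroup G) [hM : M.Normal]
    (m : G) (hm : m ∈ M) (g : G) (hg : orderOf g = orderOf m) : g ∈ M := by
  obtain ⟨c, hc⟩ := hB (Subgroup.zpowers m) (Subgroup.zpowers g) inferInstance inferInstance
    (by rw [Nat.card_zpowers, Nat.card_zpowers, hg])
  have h1 : g ∈ (Subgroup.zpowers m).map (MulAut.conj c).toMonoidHom := hc ▸ Subgroup.mem_zpowers g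
  obtain ⟨y, hy, rfl⟩ := Subgroup.mem_map.1 h1
  have hyM : y ∈ M := (Subgroup.zpowers_le.2 hm) hy
  have := hM.conj_mem y hyM c
  simpa using this

open QuaternionGroup in
theorem quat_a_inv {n : ℕ} (i : ZMod (2 * n)) : (a i : QuaternionGroup n)⁻¹ = a (-i) :=
  inv_eq_of_mul_eq_one_right (by simp)

open QuaternionGroup in
theorem quat_comm {n : ℕ} : ⁅(xa 0 : QuaternionGroup n), (xa 1 : QuaternionGroup n)⁆ = (a 1) ^ 2 := by
  have h : ⁅(xa 0 : QuaternionGroup n), (xa 1 : QuaternionGroup n)⁆ = (xa 0 * xa 1) * (xa 1 * xa 0)⁻¹ := by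
    rw [commutatorElement_def]; group
  rw [h, xa_mul_xa, xa_mul_xa, quat_a_inv, a_mul_a, a_one_pow]
  congr 1
  push_cast
  ring

/-- B6. -/
theorem quat_k_eq_one {G : Type*} [Group G] [Finite G] (hsol : Group.IsSolvable G) (hB : PropB G)
    (S : Sylow 2 G) (k : ℕ) (hk : 1 ≤ k) (e : ↥(S : Subgroup G) ≃* QuaternionGroup (2 ^ k)) : k = 1 := by
  by_contra hk1
  obtain ⟨j, rfl⟩ : ∃ j, k = j + 2 := ⟨k - 2, by omega⟩
  let φ : QuaternionGroup (2 ^ (j + 2)) →* G := (S : Subgroup G).subtype.comp e.symm.toMonoidHom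
  have hφ : Function.Injective φ := by
    intro x y hxy
    have : (e.symm x : G) = (e.symm y : G) := hxy
    exact e.symm.injective (Subtype.ext this)
  have hord : ∀ q, orderOf (φ q) = orderOf q := orderOf_injective φ hφ
  have : NeZero (2 ^ (j + 2)) := ⟨by positivity⟩
  have key : ∀ n : ℕ, ∃ g ∈ derivedSeries G n, orderOf g = 4 := by
    intro n
    induction n with
    | zero => exact ⟨φ (QuaternionGroup.xa 0), Subgroup.mem_top _, by
        rw [hord, QuaternionGroup.orderOf_xa]⟩
    | succ n ih =>
      obtain ⟨m, hm, hm4⟩ := ih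
      have : (derivedSeries G n).Normal := derivedSeries_normal G n
      have h0 : φ (QuaternionGroup.xa 0) ∈ derivedSeries G n :=
        mem_of_orderOf_eq hB _ m hm _ (by rw [hord, QuaternionGroup.orderOf_xa, hm4])
      have h1 : φ (QuaternionGroup.xa 1) ∈ derivedSeries G n :=
        mem_of_orderOf_eq hB _ m hm _ (by rw [hord, QuaternionGroup.orderOf_xa, hm4])
      have hc : ⁅φ (QuaternionGroup.xa 0), φ (QuaternionGroup.xa 1)⁆ ∈ derivedSeries G (n + 1) := by
        rw [derivedSeries_succ]
        exact Subgroup.commutator_mem_commutator h0 h1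
      have hc' : ⁅φ (QuaternionGroup.xa 0), φ (QuaternionGroup.xa 1)⁆ =
          φ ((QuaternionGroup.a 1) ^ 2) := by
        rw [← map_commutatorElement, quat_comm]
      rw [hc'] at hc
      refine ⟨φ ((QuaternionGroup.a 1) ^ 2) ^ (2 ^ j), Subgroup.pow_mem _ hc _, ?_⟩
      rw [← map_pow, hord, ← pow_mul]
      have hdvd : 2 * 2 ^ j ∣ orderOf (QuaternionGroup.a 1 : QuaternionGroup (2 ^ (j + 2))) := by
        rw [QuaternionGroup.orderOf_a_one]
        exact ⟨4, by ring⟩
      rw [orderOf_pow_of_dvd (by positivity) hdvd, QuaternionGroup.orderOf_a_one]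
      have : 2 * 2 ^ (j + 2) = 4 * (2 * 2 ^ j) := by ring
      rw [this, Nat.mul_div_cancel _ (by positivity)]
  obtain ⟨n, hn⟩ := hsol.solvable
  obtain ⟨g, hg, hg4⟩ := key n
  rw [hn, Subgroup.mem_bot] at hg
  rw [hg, orderOf_one] at hg4
  exact absurd hg4 (by norm_num)

end Cfsg.Agent.Lib.Helper75.BQS
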