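import Mathlib

set_option autoImplicit false

namespace Cfsg.Agent.Lib.Helper75.Breadth

open scoped commutatorElement

variable {G : Type*} [Group G]

/-- the lower central series of the whole group -/
abbrev L (G : Type*) [Group G] (n : ℕ) : Subgroup G := (⊤ : Subgroup G).lowerCentralSeries n

theorem comm_mul_right (a b c : G) : ⁅a, b * c⁆ = ⁅a, b⁆ * (b * ⁅a, c⁆ * b⁻¹) := by
  simp only [commutatorElement_def]; group

theorem comm_inv_right (a b : G) : ⁅a, b⁻¹⁆ = b⁻¹ * ⁅a, b⁆⁻¹ * b := by
  simp only [commutatorElement_def]; group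

theorem comm_mul_left (a b c : G) : ⁅a * b, c⁆ = (a * ⁅b, c⁆ * a⁻¹) * ⁅a, c⁆ := by
  simp only [commutatorElement_def]; group

theorem comm_inv_left (a c : G) : ⁅a⁻¹, c⁆ = a⁻¹ * ⁅a, c⁆⁻¹ * a := by
  simp only [commutatorElement_def]; group

/-- two-step centralizer `C_G(γ_j / γ_{j+2})` (indices shifted by one). -/
def twoStep (G : Type*) [Group G] (j : ℕ) : Subgroup G where
  carrier := {g | ∀ y ∈ L G j, ⁅y, g⁆ ∈ L G (j + 2)}
  one_mem' := by
    intro y _
    rw [commutatorElement_one_right]
    exact Subgroup.one_mem _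
  mul_mem' := by
    intro g h hg hh y hy
    rw [comm_mul_right]
    apply Subgroup.mul_mem _ (hg y hy)
    exact (inferInstance : (L G (j + 2)).Normal).conj_mem _ (hh y hy) g
  inv_mem' := by
    intro g hg y hy
    rw [comm_inv_right]
    have := (inferInstance : (L G (j + 2)).Normal).conj_mem _ (Subgroup.inv_mem _ (hg y hy)) g⁻¹
    simpa using this

theorem mem_twoStep {j : ℕ} {g : G} : g ∈ twoStep G j ↔ ∀ y ∈ L G j, ⁅y, g⁆ ∈ L G (j + 2) :=
  Iff.rfl

/-- `D_i(g) = {h : [h, g] ∈ γ_{i+1}}`. -/
def centMod (g : G) (i : ℕ) : Subgroup G where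
  carrier := {h | ⁅h, g⁆ ∈ L G i}
  one_mem' := by
    show ⁅(1 : G), g⁆ ∈ L G i
    rw [commutatorElement_one_left]
    exact Subgroup.one_mem _
  mul_mem' := by
    intro a b ha hb
    show ⁅a * b, g⁆ ∈ L G i
    rw [comm_mul_left]
    apply Subgroup.mul_mem _ _ ha
    exact (inferInstance : (L G i).Normal).conj_mem _ hb a
  inv_mem' := by
    intro a ha
    show ⁅a⁻¹, g⁆ ∈ L G i
    rw [comm_inv_left]
    have := (inferInstance : (L G i).Normal).conj_mem _ (Subgroup.inv_mem _ ha) a⁻¹
    simpa using this

theorem mem_centMod {g h : G} {i : ℕ} : h ∈ centMod g i ↔ ⁅h, g⁆ ∈ L G i := Iff.rfl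

theorem centMod_anti (g : G) (i : ℕ) : centMod g (i + 1) ≤ centMod g i := by
  intro h hh
  exact (Subgroup.lowerCentralSeries_antitone (S := (⊤ : Subgroup G)) (Nat.le_succ i)) hh

theorem centralizer_le_centMod (g : G) (i : ℕ) : Subgroup.centralizer ({g} : Set G) ≤ centMod g i := by
  intro h hh
  rw [mem_centMod]
  have : ⁅h, g⁆ = 1 := by
    rw [commutatorElement_eq_one_iff_mul_comm]
    exact Subgroup.mem_centralizer_singleton_iff.mp hh
  rw [this]; exact Subgroup.one_mem _

theorem L_mem_centMod (g : G) (j : ℕ) {y : G} (hy : y ∈ L G j) : y ∈ centMod g (j + 1) := by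
  rw [mem_centMod]
  exact Subgroup.commutator_mem_commutator hy (Subgroup.mem_top g)


theorem centMod_lt {g : G} {j : ℕ} (hg : g ∉ twoStep G j) :
    centMod g (j + 2) < centMod g (j + 1) := by
  apply lt_of_le_of_ne (centMod_anti g (j + 1))
  intro heq
  apply hg
  intro y hy
  have := L_mem_centMod g j hy
  rw [← heq] at this
  exact this

variable [Finite G] {p : ℕ} [hp : Fact p.Prime]

open scoped Classical

theorem index_centMod_ge (hG : IsPGroup p G) (g : G) : ∀ k : ℕ,
    p ^ ((Finset.range k).filter (fun j => g ∉ twoStep G j)).card ≤ (centMod g (k + 1)).index := by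
  classical
  have hpp : p.Prime := hp.out
  intro k
  induction k with
  | zero =>
    simp only [Finset.range_zero, Finset.filter_empty, Finset.card_empty, pow_zero]
    exact Nat.one_le_iff_ne_zero.mpr Subgroup.index_ne_zero_of_finite
  | succ k ih =>
    rw [Finset.range_add_one, Finset.filter_insert]
    have hmul := Subgroup.relIndex_mul_index (centMod_anti g (k + 1))
    by_cases hg : g ∉ twoStep G k
    · rw [if_pos hg, Finset.card_insert_of_notMem (by simp), pow_succ]
      have hlt := centMod_lt hg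
      have hne : (centMod g (k + 2)).relIndex (centMod g (k + 1)) ≠ 1 := by
        rw [Ne, Subgroup.relIndex_eq_one]
        exact fun h => absurd hlt (not_lt_of_ge h)
      have hdvd : (centMod g (k + 2)).relIndex (centMod g (k + 1)) ∣ Nat.card G :=
        dvd_trans (Subgroup.index_dvd_card _) (Subgroup.card_subgroup_dvd_card _)
      obtain ⟨n, hn⟩ := hG.exists_card_eq
      rw [hn] at hdvd
      obtain ⟨t, _, ht⟩ := (Nat.dvd_prime_pow hpp).mp hdvd
      have ht0 : t ≠ 0 := by
        intro h0
        rw [h0, pow_zero] at ht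
        exact hne ht
      have hple : p ≤ (centMod g (k + 2)).relIndex (centMod g (k + 1)) := by
        rw [ht]
        calc p = p ^ 1 := (pow_one p).symm
          _ ≤ p ^ t := Nat.pow_le_pow_right hpp.pos (Nat.one_le_iff_ne_zero.mpr ht0)
      rw [← hmul, mul_comm]
      exact Nat.mul_le_mul hple ih
    · rw [if_neg hg]
      have h1 : (centMod g (k + 1)).index ∣ (centMod g (k + 1 + 1)).index :=
        Subgroup.index_dvd_of_le (centMod_anti g (k + 1))
      exact le_trans ih (Nat.le_of_dvd (Nat.pos_of_ne_zero Subgroup.index_ne_zero_of_finite) h1)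

theorem card_filter_le (hG : IsPGroup p G) (b : ℕ)
    (hb : ∀ x : G, (Subgroup.centralizer ({x} : Set G)).index ≤ p ^ b) (g : G) (k : ℕ) :
    ((Finset.range k).filter (fun j => g ∉ twoStep G j)).card ≤ b := by
  have hpp : p.Prime := hp.out
  have h1 := index_centMod_ge hG g k
  have h2 : (centMod g (k + 1)).index ∣ (Subgroup.centralizer ({g} : Set G)).index :=
    Subgroup.index_dvd_of_le (centralizer_le_centMod g (k + 1))
  have h3 := Nat.le_of_dvd (Nat.pos_of_ne_zero Subgroup.index_ne_zero_of_finite) h2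
  have h4 := le_trans (le_trans h1 h3) (hb g)
  exact (Nat.pow_le_pow_iff_right hpp.one_lt).mp h4

omit [Finite G] in
theorem twoStep_ne_top {c j : ℕ} (hc : L G c = ⊥) (hmin : ∀ m < c, L G m ≠ ⊥) (hj : j + 1 < c) :
    twoStep G j ≠ ⊤ := by
  intro h
  have hle : L G (j + 1) ≤ L G (j + 2) := by
    show ⁅L G j, (⊤ : Subgroup G)⁆ ≤ L G (j + 2)
    rw [Subgroup.commutator_le]
    intro y hy g _
    have hg : g ∈ twoStep G j := by rw [h]; exact Subgroup.mem_top g
    exact hg y hy
  have heq : L G (j + 2) = L G (j + 1) :=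
    le_antisymm (Subgroup.lowerCentralSeries_antitone (S := (⊤ : Subgroup G)) (Nat.le_succ _)) hle
  have stab : ∀ k, L G (j + 1 + k) = L G (j + 1) := by
    intro k
    induction k with
    | zero => rfl
    | succ k ih =>
      show ⁅L G (j + 1 + k), (⊤ : Subgroup G)⁆ = L G (j + 1)
      rw [ih]
      exact heq
  have h1 := stab (c - (j + 1))
  have h2 : j + 1 + (c - (j + 1)) = c := by omega
  rw [h2, hc] at h1
  exact hmin (j + 1) hj h1.symm

theorem exists_small (hG : IsPGroup p G) (c : ℕ) (hc2 : 2 ≤ c)
    (hprop : ∀ j < c - 1, twoStep G j ≠ ⊤) :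
    ∃ g : G, p * ((Finset.range (c - 1)).filter (fun j => g ∈ twoStep G j)).card < c - 1 := by
  classical
  have hpp : p.Prime := hp.out
  have : Fintype G := Fintype.ofFinite G
  by_contra hcon
  rw [not_exists] at hcon
  have hall : ∀ g : G, c - 1 ≤ p * ((Finset.range (c - 1)).filter (fun j => g ∈ twoStep G j)).card :=
    fun g => not_lt.mp (hcon g)
  -- double counting
  have hdc := Finset.sum_card_bipartiteAbove_eq_sum_card_bipartiteBelow
    (s := (Finset.univ : Finset G)) (t := Finset.range (c - 1)) (fun g j => g ∈ twoStep G j)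
  unfold Finset.bipartiteAbove Finset.bipartiteBelow at hdc
  -- each A_j is small
  have hA : ∀ j ∈ Finset.range (c - 1),
      p * (Finset.univ.filter (fun g : G => g ∈ twoStep G j)).card ≤ Nat.card G := by
    intro j hj
    have hne := hprop j (Finset.mem_range.mp hj)
    have hcard : (Finset.univ.filter (fun g : G => g ∈ twoStep G j)).card = Nat.card (twoStep G j) := by
      rw [Nat.card_eq_fintype_card, Fintype.card_subtype]
    rw [hcard]
    have h1 := (twoStep G j).card_mul_index
    have hidx : p ∣ (twoStep G j).index := by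
      obtain ⟨n, hn⟩ := hG.exists_card_eq
      have hd : (twoStep G j).index ∣ p ^ n := hn ▸ Subgroup.index_dvd_card _
      obtain ⟨t, _, ht⟩ := (Nat.dvd_prime_pow hpp).mp hd
      have ht0 : t ≠ 0 := by
        intro h0
        rw [h0, pow_zero] at ht
        exact hne (Subgroup.index_eq_one.mp ht)
      rw [ht]
      exact dvd_pow_self p ht0
    obtain ⟨u, hu⟩ := hidx
    have hu0 : 0 < u := by
      rcases Nat.eq_zero_or_pos u with h0 | h0
      · exfalso
        rw [h0, mul_zero] at hu
        exact Subgroup.index_ne_zero_of_finite hu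
      · exact h0
    rw [← h1, hu]
    calc p * Nat.card (twoStep G j) = Nat.card (twoStep G j) * (p * 1) := by ring
      _ ≤ Nat.card (twoStep G j) * (p * u) := Nat.mul_le_mul_left _ (Nat.mul_le_mul_left _ hu0)
  have hupper : p * ∑ g : G, ((Finset.range (c - 1)).filter (fun j => g ∈ twoStep G j)).card ≤
      (c - 1) * Nat.card G := by
    rw [hdc, Finset.mul_sum]
    calc ∑ j ∈ Finset.range (c - 1), p * (Finset.univ.filter (fun g : G => g ∈ twoStep G j)).card
        ≤ ∑ _j ∈ Finset.range (c - 1), Nat.card G := Finset.sum_le_sum hA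
      _ = (c - 1) * Nat.card G := by rw [Finset.sum_const, Finset.card_range, smul_eq_mul]
  -- lower bound
  have hone : ((Finset.range (c - 1)).filter (fun j => (1 : G) ∈ twoStep G j)).card = c - 1 := by
    rw [Finset.filter_true_of_mem (fun j _ => Subgroup.one_mem _), Finset.card_range]
  have hlow : ∀ g : G, (c - 1) + (if g = 1 then (c - 1) else 0) ≤
      p * ((Finset.range (c - 1)).filter (fun j => g ∈ twoStep G j)).card := by
    intro g
    by_cases hg : g = 1
    · rw [if_pos hg, hg, hone]
      have := hpp.two_le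
      nlinarith
    · rw [if_neg hg, add_zero]
      exact hall g
  have hsum := Finset.sum_le_sum (fun g (_ : g ∈ (Finset.univ : Finset G)) => hlow g)
  rw [Finset.sum_add_distrib, Finset.sum_const, Finset.card_univ, smul_eq_mul,
    Finset.sum_ite_eq' Finset.univ (1 : G), if_pos (Finset.mem_univ _), ← Finset.mul_sum,
    ← Nat.card_eq_fintype_card] at hsum
  have h5 := le_trans hsum hupper
  have h6 : Nat.card G * (c - 1) = (c - 1) * Nat.card G := mul_comm _ _
  have h7 : 0 < c - 1 := by omega
  omega

end Cfsg.Agent.Lib.Helper75.Breadth
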