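import Cfsg.Agent.S0175

/-!
# Refined Taketa (helper75): for M-groups the derived length is at most the number of degrees

`taketa_rank_step`: if every irreducible character is monomial, an irreducible character `χ` such
that fewer than `k` character degrees lie strictly below `χ 1` is trivial on `derivedSeries G k`.
`derivedSeries_three_eq_bot_of_monomial`: three degrees + monomial ⇒ third derived subgroup trivial.
-/

set_option autoImplicit false
open Cfsg

namespace Cfsg.Agent.Lib.Helper75.CD3

open Cfsg.Agent.Lib.Helper80 Cfsg.Agent.Lib.Helper85 Cfsg.Agent.Lib.Helper83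
open scoped ComplexConjugate commutatorElement

/-- The second half of Taketa's step: if `χ = λ^G` for a linear `λ` of `H` and the `d`-th derived
subgroup lies in `H`, then `χ` is trivial on the `(d+1)`-st derived subgroup. -/
theorem trivial_on_next_derived {G : Type*} [Group G] [Fintype G] (d : ℕ) (χ : G → ℂ)
    (hχ : IsIrrCharacter G χ) (H : Subgroup G) (lam : H →* ℂˣ)
    (hχind : χ = Cfsg.indFun H (fun h => (lam h : ℂ)))
    (hsub : ∀ y ∈ derivedSeries G d, y ∈ H) :
    ∀ x ∈ derivedSeries G (d + 1), χ x = χ 1 := by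
  classical
  intro x hx
  have hχc := isCharacter_of_irr hχ
  have hker : derivedSeries G (d + 1) ≤ charKer hχc := by
    rw [derivedSeries_succ, Subgroup.commutator_le]
    intro y₁ hy₁ y₂ hy₂
    rw [mem_charKer]
    have hN : (derivedSeries G d).Normal := derivedSeries_normal G d
    have hval : ∀ c : G, (∀ g : G, ∃ hc : g⁻¹ * c * g ∈ H, lam ⟨g⁻¹ * c * g, hc⟩ = 1) →
        χ c = (Nat.card H : ℂ)⁻¹ * (Fintype.card G : ℂ) := by
      intro c hc
      rw [hχind, Cfsg.Agent.Lib.Helper04.indFun_apply]
      congr 1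
      have : ∀ g : G, Cfsg.extendByZero H (fun h => ((lam h : ℂˣ) : ℂ)) (g⁻¹ * c * g) = 1 := by
        intro g
        obtain ⟨hc1, hc2⟩ := hc g
        rw [Cfsg.Agent.Lib.Helper04.extendByZero_apply_of_mem _ _ _ hc1, hc2]
        rfl
      rw [Finset.sum_congr rfl fun g _ => this g]
      simp
    rw [hval ⁅y₁, y₂⁆, hval 1]
    · intro g
      refine ⟨by simp, ?_⟩
      have : (⟨g⁻¹ * 1 * g, by simp⟩ : H) = 1 := by
        apply Subtype.ext; simp
      rw [this, map_one]
    · intro g
      have h1 : g⁻¹ * y₁ * g ∈ H := by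
        apply hsub
        have := hN.conj_mem y₁ hy₁ g⁻¹
        simpa using this
      have h2 : g⁻¹ * y₂ * g ∈ H := by
        apply hsub
        have := hN.conj_mem y₂ hy₂ g⁻¹
        simpa using this
      have heq : g⁻¹ * ⁅y₁, y₂⁆ * g = ⁅g⁻¹ * y₁ * g, g⁻¹ * y₂ * g⁆ := by
        simp only [commutatorElement_def]; group
      have hmem : g⁻¹ * ⁅y₁, y₂⁆ * g ∈ H := by
        rw [heq, commutatorElement_def]
        exact H.mul_mem (H.mul_mem (H.mul_mem h1 h2) (H.inv_mem h1)) (H.inv_mem h2)
      refine ⟨hmem, ?_⟩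
      have h3 : (⟨g⁻¹ * ⁅y₁, y₂⁆ * g, hmem⟩ : H) =
          ⁅(⟨g⁻¹ * y₁ * g, h1⟩ : H), (⟨g⁻¹ * y₂ * g, h2⟩ : H)⁆ := by
        apply Subtype.ext
        show g⁻¹ * ⁅y₁, y₂⁆ * g = _
        rw [heq]
        simp [commutatorElement_def]
      rw [h3, map_commutatorElement, commutatorElement_def]
      rw [mul_comm (lam _) (lam _), mul_assoc, mul_assoc, mul_inv_cancel_left,
        mul_inv_cancel]
  exact (mem_charKer hχc x).1 (hker hx)

/-- **Refined Taketa step.** In an M-group, an irreducible character `χ` with fewer than `k`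
character degrees strictly below `χ 1` is trivial on the `k`-th derived subgroup. -/
theorem taketa_rank_step {G : Type*} [Group G] [Fintype G]
    (hM : ∀ χ : G → ℂ, Cfsg.IsIrrCharacter G χ → ∃ (H : Subgroup G) (lam : H →* ℂˣ),
      χ = Cfsg.indFun H (fun h => (lam h : ℂ))) :
    ∀ k : ℕ, ∀ χ : G → ℂ, IsIrrCharacter G χ → ∀ m : ℕ, χ 1 = m →
      (∀ s : Finset ℕ, (∀ n ∈ s, n < m ∧ ∃ ψ : G → ℂ, IsIrrCharacter G ψ ∧ ψ 1 = n) →
        s.card < k) →
      ∀ x ∈ derivedSeries G k, χ x = χ 1 := by
  classical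
  letI : Fintype (IrrCharacter G) := Fintype.ofFinite _
  intro k
  induction k with
  | zero =>
    intro χ hχ m hm hs x _
    exfalso
    have := hs ∅ (by simp)
    simp at this
  | succ k ih =>
    intro χ hχ m hm hs x hx
    have hχc := isCharacter_of_irr hχ
    have hm0 : m ≠ 0 := by
      intro h0
      rw [h0] at hm
      exact Cfsg.Agent.S4566.irr_char_one_ne_zero χ hχ (by simpa using hm)
    rcases Nat.lt_or_ge m 2 with hlt | hge
    · -- linear character
      have hm1 : m = 1 := by omega
      subst hm1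
      have h1 : χ 1 = 1 := by simpa using hm
      rw [h1]
      apply char_deg_one_commutator hχc h1
      have hanti : derivedSeries G (k + 1) ≤ derivedSeries G 1 :=
        derivedSeries_antitone G (by omega)
      have := hanti hx
      rw [derivedSeries_one] at this
      exact this
    · obtain ⟨d, rfl⟩ : ∃ d, m = d + 1 := ⟨m - 1, by omega⟩
      have hdpos : 1 ≤ d := by omega
      obtain ⟨H, lam, hχind⟩ := hM χ hχ
      have hidx : H.index = d + 1 := by
        have h2 : χ 1 = (H.index : ℂ) * ((lam 1 : ℂˣ) : ℂ) := by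
          rw [hχind, indFun_apply_one]
        rw [map_one, Units.val_one, mul_one, hm] at h2
        exact_mod_cast h2.symm
      have hsub : ∀ y ∈ derivedSeries G k, y ∈ H := by
        intro y hy
        apply Cfsg.Agent.S0175.mem_of_indFun_one_eq
        have hΦ : IsCharacter G (Cfsg.indFun H fun _ => (1 : ℂ)) :=
          Cfsg.Agent.Lib.Helper34.isCharacter_indFun H isCharacter_one
        have hdec := char_eq_sum_irrMult hΦ
        rw [congrFun hdec y, congrFun hdec 1]
        simp only [Finset.sum_apply, Pi.smul_apply, smul_eq_mul]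
        apply Finset.sum_congr rfl
        intro ψ _
        by_cases hmψ : irrMult (Cfsg.indFun H fun _ => (1 : ℂ)) ψ = 0
        · rw [hmψ]; simp
        · obtain ⟨j, hj⟩ := char_one_eq_nat (IrrCharacter_isCharacter ψ)
          have hjd := Cfsg.Agent.S0175.perm_const_degree H d hdpos hidx ψ hmψ j hj
          rw [ih ψ.1 ψ.2 j hj ?_ y hy]
          intro s hs'
          have hjs : j ∉ s := fun hmem => lt_irrefl _ (hs' j hmem).1
          have h3 := hs (insert j s) (by
            intro n hn
            rcases Finset.mem_insert.1 hn with rfl | hn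
            · exact ⟨by omega, ψ.1, ψ.2, hj⟩
            · exact ⟨by have := (hs' n hn).1; omega, (hs' n hn).2⟩)
          rw [Finset.card_insert_of_notMem hjs] at h3
          omega
      exact trivial_on_next_derived k χ hχ H lam hχind hsub x hx

/-- If all irreducible characters are trivial at `x`, then `x = 1`. -/
theorem eq_one_of_forall_irr {G : Type*} [Group G] [Fintype G] [Fintype (IrrCharacter G)] (x : G)
    (hall : ∀ χ : IrrCharacter G, χ.1 x = χ.1 1) : x = 1 := by
  classical
  have h1 := second_orthogonality x (1 : G)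
  have h2 := second_orthogonality (1 : G) (1 : G)
  have h3 : ∑ χ : IrrCharacter G, (χ : G → ℂ) x * conj ((χ : G → ℂ) 1) =
      ∑ χ : IrrCharacter G, (χ : G → ℂ) 1 * conj ((χ : G → ℂ) 1) :=
    Finset.sum_congr rfl fun χ _ => by rw [hall χ]
  rw [h3, h2, if_pos (IsConj.refl _)] at h1
  by_contra hcon
  rw [if_neg (fun h => hcon (isConj_one_left.1 h))] at h1
  have hpos : 0 < Nat.card (Subgroup.centralizer ({(1 : G)} : Set G)) := Nat.card_pos
  have : (Nat.card (Subgroup.centralizer ({(1 : G)} : Set G)) : ℂ) ≠ 0 := by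
    exact_mod_cast hpos.ne'
  exact this h1

/-- **Taketa for three degrees**: a finite M-group with exactly three character degrees has trivial
third derived subgroup. -/
theorem derivedSeries_three_eq_bot_of_monomial {G : Type*} [Group G] [Fintype G]
    (hcd : Nat.card {n : ℕ // ∃ χ : Cfsg.IrrCharacter G, Cfsg.charDegree (χ : G → ℂ) = n} = 3)
    (hM : ∀ χ : G → ℂ, Cfsg.IsIrrCharacter G χ → ∃ (H : Subgroup G) (lam : H →* ℂˣ),
      χ = Cfsg.indFun H (fun h => (lam h : ℂ))) :
    derivedSeries G 3 = ⊥ := by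
  classical
  letI : Fintype (IrrCharacter G) := Fintype.ofFinite _
  rw [eq_bot_iff]
  intro x hx
  rw [Subgroup.mem_bot]
  apply eq_one_of_forall_irr
  intro χ
  have hm := (charDegree_cast (IrrCharacter_isCharacter χ)).symm
  refine taketa_rank_step hM 3 χ.1 χ.2 _ hm ?_ x hx
  intro s hs
  -- `insert (deg χ) s` is a set of degrees, so has at most three elements
  set D : Set ℕ := {n : ℕ | ∃ χ : Cfsg.IrrCharacter G, Cfsg.charDegree (χ : G → ℂ) = n} with hD
  have hDcard : D.ncard = 3 := by
    rw [← hcd]; rfl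
  have hDfin : D.Finite := Set.finite_of_ncard_ne_zero (by rw [hDcard]; norm_num)
  have hnot : charDegree (χ : G → ℂ) ∉ s := fun hmem => lt_irrefl _ (hs _ hmem).1
  have hsubD : ((insert (charDegree (χ : G → ℂ)) s : Finset ℕ) : Set ℕ) ⊆ D := by
    intro n hn
    rcases Finset.mem_insert.1 (Finset.mem_coe.1 hn) with rfl | hn
    · exact ⟨χ, rfl⟩
    · obtain ⟨_, ψ, hψ, hψ1⟩ := hs n hn
      refine ⟨⟨ψ, hψ⟩, ?_⟩
      have := charDegree_cast (isCharacter_of_irr hψ)
      rw [hψ1] at this
      exact_mod_cast this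
  have hle := Set.ncard_le_ncard hsubD hDfin
  rw [Set.ncard_coe_finset, Finset.card_insert_of_notMem hnot, hDcard] at hle
  omega

/-- Same with monomiality in the output shape of `S0859.result`. -/
theorem derivedSeries_three_eq_bot_of_monomial' {G : Type*} [Group G] [Fintype G]
    (hcd : Nat.card {n : ℕ // ∃ χ : Cfsg.IrrCharacter G, Cfsg.charDegree (χ : G → ℂ) = n} = 3)
    (hM : ∀ χ : G → ℂ, Cfsg.IsIrrCharacter G χ → ∃ (U : Subgroup G) (lam : U → ℂ),
      Cfsg.IsCharacter U lam ∧ lam 1 = 1 ∧ Cfsg.indFun U lam = χ) :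
    derivedSeries G 3 = ⊥ := by
  classical
  apply derivedSeries_three_eq_bot_of_monomial hcd
  intro χ hχ
  obtain ⟨U, lam, hlam, h1, hind⟩ := hM χ hχ
  exact ⟨U, linUnitHom hlam h1, hind.symm⟩

end Cfsg.Agent.Lib.Helper75.CD3
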