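import Mathlib
import Cfsg.Prelude.Def_Blocks
import Cfsg.Agent.Lib.Helper01.CD3Defs
import Cfsg.Agent.Lib.Helper84.PResCount

/-!
# S4460 pack K-CD3, leaf 446029 K-CD3-VAN (helper75)

`dvd_degree_of_twist_invariant`: an irreducible character `ψ` of `N` fixed under multiplication by
every linear character of the abelian `r`-power-order quotient `N/K` vanishes off `K`, so
`[ψ_K, ψ_K] = |N : K| > 1`; if `r ∤ ψ 1` the restriction `ψ_K` would be irreducible.
-/

set_option autoImplicit false

namespace Cfsg.Agent.Lib.Helper75.CD3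

open Cfsg Cfsg.Agent.Lib.Helper01.CD3
open scoped ComplexConjugate

universe u

/-- In a finite group with commutative quotient by `K`, an element outside `K` is separated from
`1` by a homomorphism of the quotient to `ℂˣ`. -/
theorem exists_quot_hom_ne_one {H : Type u} [Group H] [Finite H] (K : Subgroup H) [K.Normal]
    (hcomm : ∀ x y : H, x * y * x⁻¹ * y⁻¹ ∈ K) {x : H} (hx : x ∉ K) :
    ∃ l : (H ⧸ K) →* ℂˣ, l (x : H ⧸ K) ≠ 1 := by
  classical
  letI : CommGroup (H ⧸ K) :=
    { (inferInstance : Group (H ⧸ K)) with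
      mul_comm := by
        intro a b
        induction a using QuotientGroup.induction_on with
        | H a =>
          induction b using QuotientGroup.induction_on with
          | H b =>
            have h := hcomm a b
            rw [← QuotientGroup.eq_one_iff] at h
            simp only [QuotientGroup.mk_mul, QuotientGroup.mk_inv] at h
            have h2 : (a : H ⧸ K) * b = (a * b * (a : H ⧸ K)⁻¹ * (b : H ⧸ K)⁻¹) * (b * a) := by
              group
            rw [h2, h, one_mul] }
  have hx1 : (x : H ⧸ K) ≠ 1 := by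
    intro h
    exact hx ((QuotientGroup.eq_one_iff x).1 h)
  exact CommGroup.exists_apply_ne_one_of_hasEnoughRootsOfUnity (H ⧸ K) ℂ hx1

section TwelveFour

variable {G : Type u} [Group G] [Finite G] (K N : Subgroup G) [hK : K.Normal] [hN : N.Normal]

/-- 446029 K-CD3-VAN. -/
theorem dvd_degree_of_twist_invariant (hKN : K ≤ N)
    (hNK : ∀ x ∈ N, ∀ y ∈ N, x * y * x⁻¹ * y⁻¹ ∈ K) {r : ℕ} (hr : r.Prime)
    (hidx : ∃ a : ℕ, 0 < a ∧ K.relIndex N = r ^ a)
    {ψ : N → ℂ} (hψ : IsIrrCharacter N ψ)
    (hinv : ∀ μ : N → ℂ, IsIrrCharacter N μ → μ 1 = 1 → (∀ k : N, (k : G) ∈ K → μ k = 1) → ψ * μ = ψ) :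
    r ∣ charDegree ψ := by
  classical
  letI : Fintype N := Fintype.ofFinite _
  haveI : Fact r.Prime := ⟨hr⟩
  set K' : Subgroup N := K.subgroupOf N with hK'
  haveI hK'n : K'.Normal := Subgroup.Normal.subgroupOf hK N
  letI : Fintype K' := Fintype.ofFinite _
  obtain ⟨a, ha0, ha⟩ := hidx
  have hidx' : K'.index = r ^ a := ha
  have hψc := Cfsg.Agent.Lib.Helper83.isCharacter_of_irr hψ
  -- ψ vanishes off K'
  have hvan : ∀ x : N, x ∉ K' → ψ x = 0 := by
    intro x hx
    have hcomm : ∀ x y : N, x * y * x⁻¹ * y⁻¹ ∈ K' := by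
      intro x y
      rw [hK', Subgroup.mem_subgroupOf]
      exact hNK x x.2 y y.2
    obtain ⟨l, hl⟩ := exists_quot_hom_ne_one K' hcomm hx
    have hμc := Cfsg.Agent.Lib.Helper84.quotLin_isCharacter K' l
    have hμ1 := Cfsg.Agent.Lib.Helper84.quotLin_one K' l
    have hμirr := Cfsg.Agent.Lib.Helper83.isIrrCharacter_of_deg_one hμc hμ1
    have hfix := hinv _ hμirr hμ1 (by
      intro k hk
      apply Cfsg.Agent.Lib.Helper84.quotLin_of_mem K' l
      rw [hK', Subgroup.mem_subgroupOf]
      exact hk)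
    have hx2 := congrFun hfix x
    simp only [Pi.mul_apply] at hx2
    rw [Cfsg.Agent.Lib.Helper84.quotLin_apply] at hx2
    have hne : ((l (x : N ⧸ K') : ℂˣ) : ℂ) ≠ 1 := by
      intro h
      apply hl
      exact Units.ext h
    by_contra h0
    apply hne
    have := mul_left_cancel₀ h0 (hx2.trans (mul_one _).symm)
    exact this
  by_contra hnd
  obtain ⟨c, hc⟩ := Cfsg.Agent.Lib.Helper84.exists_degree_nat hψc
  have hdeg : charDegree ψ = c := Cfsg.Agent.Lib.Helper84.charDegree_eq_of_one hc
  rw [hdeg] at hnd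
  have hres := Cfsg.Agent.Lib.Helper84.restrict_irr_of_not_dvd K' r ⟨a, hidx'⟩ hψ c hc hnd
  -- inner products
  have h1 : classInner ψ ψ = 1 := by
    rw [Cfsg.Agent.Lib.Helper84.classInner_irr_irr hψ hψ, if_pos rfl]
  have h2 : classInner (fun k : K' => ψ k) (fun k : K' => ψ k) = 1 := by
    rw [Cfsg.Agent.Lib.Helper84.classInner_irr_irr hres hres, if_pos rfl]
  unfold classInner at h1 h2
  have hsum : ∑ k : K', ψ k * conj (ψ k) = ∑ x : N, ψ x * conj (ψ x) := by
    rw [← Finset.sum_subtype (Finset.univ.filter fun x : N => x ∈ K')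
      (fun x => by simp) (fun x : N => ψ x * conj (ψ x))]
    apply Finset.sum_subset (Finset.subset_univ _)
    intro x _ hx
    have : x ∉ K' := by simpa using hx
    rw [hvan x this, zero_mul]
  rw [hsum] at h2
  have hN0 : (Nat.card N : ℂ) ≠ 0 := by
    have : 0 < Nat.card N := Nat.card_pos
    exact_mod_cast this.ne'
  have hK0 : (Nat.card K' : ℂ) ≠ 0 := by
    have : 0 < Nat.card K' := Nat.card_pos
    exact_mod_cast this.ne'
  have hS1 : ∑ x : N, ψ x * conj (ψ x) = (Nat.card N : ℂ) := by
    field_simp at h1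
    exact h1
  have hS2 : ∑ x : N, ψ x * conj (ψ x) = (Nat.card K' : ℂ) := by
    field_simp at h2
    exact h2
  have hcards : Nat.card N = Nat.card K' := by
    have := hS1.symm.trans hS2
    exact_mod_cast this
  have hmul := K'.card_mul_index
  rw [hidx', ← hcards] at hmul
  have hN0' : 0 < Nat.card N := Nat.card_pos
  have hra : r ^ a = 1 := by
    have : Nat.card N * r ^ a = Nat.card N * 1 := by rw [hmul, mul_one]
    exact Nat.eq_of_mul_eq_mul_left hN0' this
  have h2le : 2 ≤ r ^ a := by
    calc 2 ≤ r := hr.two_le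
      _ = r ^ 1 := (pow_one r).symm
      _ ≤ r ^ a := Nat.pow_le_pow_right hr.pos ha0
  omega

end TwelveFour

end Cfsg.Agent.Lib.Helper75.CD3
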