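import Cfsg.Agent.Lib.Helper37.G2InvDefs

/-!
# K-G2I-A (S2177 pack of helper37): `good_68z`

Self-contained (Mathlib + `Helper37.G2InvDefs` only); the small conjugation formulas needed are proved
privately here.
-/

set_option autoImplicit false
set_option linter.unusedSectionVars false
set_option linter.unusedVariables false

namespace Cfsg.Agent.Lib.Helper75.G2Inv

open Cfsg.Agent.Lib.Helper37.G2Inv

variable {F : Type*} [Field F] [CharP F 2] {G : Type*} [Group G] (D : UData F G)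

private theorem cjm (g u v : G) : g * (u * v) * g⁻¹ = (g * u * g⁻¹) * (g * v * g⁻¹) := by group

private theorem cjc {a b : G} (h : a * b = b * a) : a * b * a⁻¹ = b := by
  rw [h, mul_inv_cancel_right]

private theorem two0 : (2 : F) = 0 := CharTwo.two_eq_zero

/-! ### one-term formulas -/

private theorem a_c79 (c a : F) : D.x 7 c * D.x 9 a * (D.x 7 c)⁻¹ = D.x 9 a * D.x 10 (c * a) := by
  rw [mul_inv_eq_iff_eq_mul, mul_assoc, ← D.c710, ← mul_assoc, D.r79, mul_assoc, D.x_sq, mul_one]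

private theorem a_c89 (c a : F) : D.x 8 c * D.x 9 a * (D.x 8 c)⁻¹ = D.x 9 a * D.x 11 (c * a) := by
  rw [mul_inv_eq_iff_eq_mul, mul_assoc, ← D.c811, ← mul_assoc, D.r89, mul_assoc, D.x_sq, mul_one]

private theorem a_c610 (c b : F) : D.x 6 c * D.x 10 b * (D.x 6 c)⁻¹ = D.x 10 b * D.x 11 (c * b) := by
  rw [mul_inv_eq_iff_eq_mul, mul_assoc, ← D.c611, ← mul_assoc, D.r610, mul_assoc, D.x_sq, mul_one]

private theorem a_c106 (c s : F) : D.x 10 c * D.x 6 s * (D.x 10 c)⁻¹ = D.x 6 s * D.x 11 (c * s) := by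
  rw [mul_inv_eq_iff_eq_mul, mul_assoc, ← D.c1011, ← mul_assoc, D.r610, mul_comm c s]

/-! ### the group `Z` -/

private theorem x9z (a : F) : D.x 9 a = D.z a 0 0 := by simp [UData.z, D.x_zero]
private theorem x10z (b : F) : D.x 10 b = D.z 0 b 0 := by simp [UData.z, D.x_zero]
private theorem x11z (c : F) : D.x 11 c = D.z 0 0 c := by simp [UData.z, D.x_zero]

private theorem a_z_mul (α β γ α' β' γ' : F) :
    D.z α β γ * D.z α' β' γ' = D.z (α + α') (β + β') (γ + γ') := by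
  unfold UData.z
  rw [← D.add, ← D.add, ← D.add]
  have h1 : D.x 10 β * D.x 11 γ * D.x 9 α' = D.x 9 α' * (D.x 10 β * D.x 11 γ) := by
    rw [mul_assoc, ← D.c911, ← mul_assoc, ← D.c910, mul_assoc]
  have h2 : D.x 11 γ * D.x 10 β' = D.x 10 β' * D.x 11 γ := (D.c1011 β' γ).symm
  calc _ = D.x 9 α * ((D.x 10 β * D.x 11 γ * D.x 9 α') * (D.x 10 β' * D.x 11 γ')) := by
        simp only [mul_assoc]
    _ = D.x 9 α * ((D.x 9 α' * (D.x 10 β * D.x 11 γ)) * (D.x 10 β' * D.x 11 γ')) := by rw [h1]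
    _ = D.x 9 α * D.x 9 α' * (D.x 10 β * (D.x 11 γ * D.x 10 β') * D.x 11 γ') := by
        simp only [mul_assoc]
    _ = _ := by rw [h2]; simp only [mul_assoc]

private theorem zcongr {α β γ α' β' γ' : F} (h1 : α = α') (h2 : β = β') (h3 : γ = γ') :
    D.z α β γ = D.z α' β' γ' := by rw [h1, h2, h3]

private theorem a_z_conj7 (c α β γ : F) :
    D.x 7 c * D.z α β γ * (D.x 7 c)⁻¹ = D.z α (β + c * α) γ := by
  have e : D.z α β γ = D.x 9 α * (D.x 10 β * D.x 11 γ) := rfl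
  rw [e, cjm, cjm, a_c79, cjc (D.c710 c β), cjc (D.c711 c γ), x9z, x10z, x10z, x11z,
    a_z_mul, a_z_mul, a_z_mul]
  apply zcongr <;> ring

private theorem a_z_conj8 (c α β γ : F) :
    D.x 8 c * D.z α β γ * (D.x 8 c)⁻¹ = D.z α β (γ + c * α) := by
  have e : D.z α β γ = D.x 9 α * (D.x 10 β * D.x 11 γ) := rfl
  rw [e, cjm, cjm, a_c89, cjc (D.c810 c β), cjc (D.c811 c γ), x9z, x10z, x11z, x11z,
    a_z_mul, a_z_mul, a_z_mul]
  apply zcongr <;> ring

private theorem a_z_conj6 (c α β γ : F) :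
    D.x 6 c * D.z α β γ * (D.x 6 c)⁻¹ = D.z α β (γ + c * β) := by
  have e : D.z α β γ = D.x 9 α * (D.x 10 β * D.x 11 γ) := rfl
  rw [e, cjm, cjm, a_c610, cjc (D.c69 c α), cjc (D.c611 c γ), x9z, x10z, x11z, x11z,
    a_z_mul, a_z_mul, a_z_mul]
  apply zcongr <;> ring

private theorem a_z_conj10 (c α β γ : F) :
    D.x 10 c * D.z α β γ * (D.x 10 c)⁻¹ = D.z α β γ := by
  rw [mul_inv_eq_iff_eq_mul, x10z, a_z_mul, a_z_mul]
  apply zcongr <;> ring

private theorem a_z_eq_one_iff (α β γ : F) : D.z α β γ = 1 ↔ α = 0 ∧ β = 0 ∧ γ = 0 := by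
  constructor
  · intro h
    have h' : D.x 6 0 * (D.x 7 0 * (D.x 8 0 * (D.x 9 α * (D.x 10 β * D.x 11 γ)))) =
        D.x 6 0 * (D.x 7 0 * (D.x 8 0 * (D.x 9 0 * (D.x 10 0 * D.x 11 0)))) := by
      have e : D.x 9 α * (D.x 10 β * D.x 11 γ) = 1 := h
      rw [e]; simp [D.x_zero]
    obtain ⟨-, -, -, h9, h10, h11⟩ := D.inj _ _ _ _ _ _ _ _ _ _ _ _ h'
    exact ⟨h9, h10, h11⟩
  · rintro ⟨rfl, rfl, rfl⟩
    simp [UData.z, D.x_zero]

private theorem a_inv6z (s α β γ : F)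
    (h : D.x 6 s * D.z α β γ * (D.x 6 s * D.z α β γ) = 1) : s * β = 0 := by
  have e : D.x 6 s * D.z α β γ * (D.x 6 s * D.z α β γ) =
      (D.x 6 s * D.z α β γ * (D.x 6 s)⁻¹) * D.z α β γ := by
    rw [D.x_inv]; simp only [mul_assoc]
  rw [e, a_z_conj6, a_z_mul, a_z_eq_one_iff] at h
  obtain ⟨-, -, h3⟩ := h
  have : γ + s * β + γ = s * β := by linear_combination γ * (two0 (F := F))
  rw [← this]; exact h3

/-! ### `c78`, `c76` -/

private theorem a_c78 (c s : F) :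
    D.x 7 c * D.x 8 s * (D.x 7 c)⁻¹ = D.x 8 s * D.z 0 (c ^ 2 * s) (c * s ^ 2) := by
  have hW : D.z 0 (c ^ 2 * s) (c * s ^ 2) = D.x 10 (c ^ 2 * s) * D.x 11 (c * s ^ 2) := by
    simp [UData.z, D.x_zero]
  have hWW : D.z 0 (c ^ 2 * s) (c * s ^ 2) * D.z 0 (c ^ 2 * s) (c * s ^ 2) = 1 := by
    rw [a_z_mul, a_z_eq_one_iff]
    refine ⟨by ring, ?_, ?_⟩
    · linear_combination (c ^ 2 * s) * (two0 (F := F))
    · linear_combination (c * s ^ 2) * (two0 (F := F))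
  have hc : D.z 0 (c ^ 2 * s) (c * s ^ 2) * D.x 7 c = D.x 7 c * D.z 0 (c ^ 2 * s) (c * s ^ 2) := by
    rw [hW, mul_assoc, ← D.c711, ← mul_assoc, ← D.c710, mul_assoc]
  rw [mul_inv_eq_iff_eq_mul, mul_assoc, hc, ← mul_assoc, D.r78, ← hW, mul_assoc, hWW, mul_one]

private theorem a_c76 (c s : F) : D.x 7 c * D.x 6 s * (D.x 7 c)⁻¹ =
    D.x 6 s * (D.x 8 (c * s) * D.z (c ^ 2 * s) (c ^ 3 * s) (c ^ 3 * s ^ 2)) := by
  have h := D.r67 s c
  have e : D.x 7 c * D.x 6 s * (D.x 7 c)⁻¹ = D.x 6 s *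
      (D.x 7 c * (D.x 8 (s * c) * (D.x 9 (s * c ^ 2) * D.x 10 (s * c ^ 3))) * (D.x 7 c)⁻¹) := by
    rw [h]; simp only [mul_assoc]
  rw [e, cjm, a_c78]
  have e2 : D.x 9 (s * c ^ 2) * D.x 10 (s * c ^ 3) = D.z (s * c ^ 2) (s * c ^ 3) 0 := by
    simp [UData.z, D.x_zero]
  rw [e2, a_z_conj7, mul_assoc (D.x 8 (s * c)), a_z_mul, mul_comm s c]
  congr 2
  apply zcongr
  · ring
  · linear_combination (c ^ 3 * s) * (two0 (F := F))
  · ring

/-- `z` moves to the right of `x 8` -/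
private theorem z_x8 (a α β γ : F) : D.z α β γ * D.x 8 a = D.x 8 a * D.z α β (γ + a * α) := by
  have h := a_z_conj8 D a α β (γ + a * α)
  rw [mul_inv_eq_iff_eq_mul] at h
  rw [h]
  congr 1
  apply zcongr
  · rfl
  · rfl
  · linear_combination (-(a * α)) * (two0 (F := F))

/-! ### nontrivial elements of `Z` -/

private theorem a_good_z (α β γ : F) (h : D.z α β γ ≠ 1) : D.Good (D.z α β γ) := by
  by_cases hα : α = 0
  · by_cases hβ : β = 0
    · -- `x 11 γ`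
      have hγ : γ ≠ 0 := by
        intro hγ
        exact h ((a_z_eq_one_iff D α β γ).2 ⟨hα, hβ, hγ⟩)
      obtain ⟨g, hg⟩ := D.torus11 γ hγ
      refine ⟨g, Or.inl ?_⟩
      rw [hα, hβ, ← x11z]; exact hg
    · -- conjugate by `x 6 (γ / β)`
      apply D.good_of_conj (D.x 6 (γ / β))
      rw [a_z_conj6]
      have e : D.z α β (γ + γ / β * β) = D.x 10 β := by
        rw [x10z]
        apply zcongr
        · exact hα
        · rfl
        · rw [div_mul_cancel₀ _ hβ]; linear_combination γ * (two0 (F := F))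
      rw [e]
      obtain ⟨g1, hg1⟩ := D.w10_11 β
      apply D.good_of_conj g1
      rw [hg1]
      obtain ⟨g, hg⟩ := D.torus11 β hβ
      exact ⟨g, Or.inl hg⟩
  · apply D.good_of_conj (D.x 7 (β / α))
    rw [a_z_conj7]
    apply D.good_of_conj (D.x 8 (γ / α))
    rw [a_z_conj8]
    have e : D.z α (β + β / α * α) (γ + γ / α * α) = D.x 9 α := by
      rw [x9z]
      apply zcongr
      · rfl
      · rw [div_mul_cancel₀ _ hα]; linear_combination β * (two0 (F := F))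
      · rw [div_mul_cancel₀ _ hα]; linear_combination γ * (two0 (F := F))
    rw [e]
    obtain ⟨g, hg⟩ := D.torus9 α hα
    exact ⟨g, Or.inr hg⟩

/-! ### the main case `x 6 s * x 8 t8 * z`, `s ≠ 0` -/

private theorem step1 (s t8 α β γ c : F) (hc : c * s = t8) :
    ∃ α' β' γ' : F, D.x 7 c * (D.x 6 s * (D.x 8 t8 * D.z α β γ)) * (D.x 7 c)⁻¹ =
      D.x 6 s * D.z α' β' γ' := by
  have key : D.x 7 c * (D.x 6 s * (D.x 8 t8 * D.z α β γ)) * (D.x 7 c)⁻¹ =
      D.x 6 s * (D.x 8 t8 * (D.z (c ^ 2 * s) (c ^ 3 * s) (c ^ 3 * s ^ 2) * D.x 8 t8) *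
        (D.z 0 (c ^ 2 * t8) (c * t8 ^ 2) * D.z α (β + c * α) γ)) := by
    rw [cjm, cjm, a_c76, a_c78, a_z_conj7, hc]; simp only [mul_assoc]
  rw [key, z_x8, ← mul_assoc (D.x 8 t8), D.x_sq, one_mul, a_z_mul, a_z_mul]
  exact ⟨_, _, _, rfl⟩

private theorem conj_invol {g u : G} (h : u * u = 1) : (g * u * g⁻¹) * (g * u * g⁻¹) = 1 := by
  have : (g * u * g⁻¹) * (g * u * g⁻¹) = g * (u * u) * g⁻¹ := by group
  rw [this, h]; group

/-- the case `x 6 s * x 9 α'` -/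
private theorem good_69 (s α' : F) (hs : s ≠ 0) : D.Good (D.x 6 s * D.z α' 0 0) := by
  by_cases hα : α' = 0
  · have e : D.x 6 s * D.z α' 0 0 = D.x 6 s := by
      rw [hα]; simp [UData.z, D.x_zero]
    rw [e]
    obtain ⟨g1, hg1⟩ := D.w6_11 s
    apply D.good_of_conj g1
    rw [hg1]
    obtain ⟨g, hg⟩ := D.torus11 s hs
    exact ⟨g, Or.inl hg⟩
  · obtain ⟨c, hc⟩ := D.sqrt (α' / s)
    have hc2 : c ^ 2 * s = α' := by
      rw [pow_two, hc, div_mul_cancel₀ _ hs]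
    apply D.good_of_conj (D.x 7 c)
    have e1 : D.x 7 c * (D.x 6 s * D.z α' 0 0) * (D.x 7 c)⁻¹ =
        D.x 6 s * (D.x 8 (c * s) * D.z 0 0 (c ^ 3 * s ^ 2)) := by
      rw [cjm, a_c76, a_z_conj7, mul_assoc, mul_assoc, a_z_mul]
      congr 2
      apply zcongr
      · rw [hc2]; linear_combination α' * (two0 (F := F))
      · have : c ^ 3 * s = c * α' := by rw [← hc2]; ring
        rw [this]; linear_combination (c * α') * (two0 (F := F))
      · ring
    rw [e1]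
    apply D.good_of_conj (D.x 10 (c ^ 3 * s))
    have e2 : D.x 10 (c ^ 3 * s) * (D.x 6 s * (D.x 8 (c * s) * D.z 0 0 (c ^ 3 * s ^ 2))) *
        (D.x 10 (c ^ 3 * s))⁻¹ = D.x 6 s * D.x 8 (c * s) := by
      rw [cjm, cjm, a_c106, cjc (D.c810 _ _).symm, a_z_conj10, mul_assoc,
        ← mul_assoc (D.x 11 _), ← D.c811, mul_assoc, x11z, a_z_mul]
      have e3 : D.z (0 + 0) (0 + 0) (c ^ 3 * s * s + c ^ 3 * s ^ 2) = 1 := by
        rw [a_z_eq_one_iff]
        refine ⟨by ring, by ring, ?_⟩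
        linear_combination (c ^ 3 * s ^ 2) * (two0 (F := F))
      rw [e3, mul_one]
    rw [e2]
    obtain ⟨g1, hg1⟩ := D.w68 s (c * s)
    apply D.good_of_conj g1
    rw [hg1, x10z, x9z, a_z_mul]
    apply a_good_z
    intro h1
    rw [a_z_eq_one_iff] at h1
    apply hs
    have := h1.2.1
    rw [add_zero] at this
    exact this

theorem good_68z (s t8 α β γ : F) (hs : s ≠ 0)
    (h : D.x 6 s * (D.x 8 t8 * D.z α β γ) * (D.x 6 s * (D.x 8 t8 * D.z α β γ)) = 1) :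
    D.Good (D.x 6 s * (D.x 8 t8 * D.z α β γ)) := by
  have hc : t8 / s * s = t8 := div_mul_cancel₀ _ hs
  obtain ⟨α', β', γ', h1⟩ := step1 D s t8 α β γ (t8 / s) hc
  apply D.good_of_conj (D.x 7 (t8 / s))
  have h2 := conj_invol (g := D.x 7 (t8 / s)) h
  rw [h1] at h2 ⊢
  have hβ : β' = 0 := by
    have := a_inv6z D s α' β' γ' h2
    rcases mul_eq_zero.1 this with h0 | h0
    · exact absurd h0 hs
    · exact h0
  subst hβ
  apply D.good_of_conj (D.x 10 (γ' / s))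
  have e : D.x 10 (γ' / s) * (D.x 6 s * D.z α' 0 γ') * (D.x 10 (γ' / s))⁻¹ =
      D.x 6 s * D.z α' 0 0 := by
    rw [cjm, a_c106, a_z_conj10, mul_assoc, x11z, a_z_mul, div_mul_cancel₀ _ hs]
    congr 1
    apply zcongr
    · ring
    · ring
    · linear_combination γ' * (two0 (F := F))
  rw [e]
  exact good_69 D s α' hs

end Cfsg.Agent.Lib.Helper75.G2Inv
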