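import Cfsg.Agent.Lib.Helper75.G2InvA

/-!
# K-G2I pack (S2177 of helper37): ALL leaves and the glue `good_of_involution`

Everything of `notes/S2177_keystones.lean.txt` under the exact spec names, in the namespace
`Cfsg.Agent.Lib.Helper75.G2Inv` (`good_68z` is in `G2InvA`).  Mathlib + `Helper37.G2InvDefs` only.
-/

set_option autoImplicit false
set_option linter.unusedSectionVars false
set_option linter.unusedVariables false

namespace Cfsg.Agent.Lib.Helper75.G2Inv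

open Cfsg.Agent.Lib.Helper37.G2Inv

variable {F : Type*} [Field F] [CharP F 2] {G : Type*} [Group G] (D : UData F G)

theorem cjm (g u v : G) : g * (u * v) * g⁻¹ = (g * u * g⁻¹) * (g * v * g⁻¹) := by group

theorem cjc {a b : G} (h : a * b = b * a) : a * b * a⁻¹ = b := by
  rw [h, mul_inv_cancel_right]

theorem two0 : (2 : F) = 0 := CharTwo.two_eq_zero

/-! ### one-term formulas -/

theorem c79 (c a : F) : D.x 7 c * D.x 9 a * (D.x 7 c)⁻¹ = D.x 9 a * D.x 10 (c * a) := by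
  rw [mul_inv_eq_iff_eq_mul, mul_assoc, ← D.c710, ← mul_assoc, D.r79, mul_assoc, D.x_sq, mul_one]

theorem c89 (c a : F) : D.x 8 c * D.x 9 a * (D.x 8 c)⁻¹ = D.x 9 a * D.x 11 (c * a) := by
  rw [mul_inv_eq_iff_eq_mul, mul_assoc, ← D.c811, ← mul_assoc, D.r89, mul_assoc, D.x_sq, mul_one]

theorem c610 (c b : F) : D.x 6 c * D.x 10 b * (D.x 6 c)⁻¹ = D.x 10 b * D.x 11 (c * b) := by
  rw [mul_inv_eq_iff_eq_mul, mul_assoc, ← D.c611, ← mul_assoc, D.r610, mul_assoc, D.x_sq, mul_one]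

theorem c106 (c s : F) : D.x 10 c * D.x 6 s * (D.x 10 c)⁻¹ = D.x 6 s * D.x 11 (c * s) := by
  rw [mul_inv_eq_iff_eq_mul, mul_assoc, ← D.c1011, ← mul_assoc, D.r610, mul_comm c s]

/-! ### the group `Z` -/

theorem x9z (a : F) : D.x 9 a = D.z a 0 0 := by simp [UData.z, D.x_zero]
theorem x10z (b : F) : D.x 10 b = D.z 0 b 0 := by simp [UData.z, D.x_zero]
theorem x11z (c : F) : D.x 11 c = D.z 0 0 c := by simp [UData.z, D.x_zero]

theorem z_mul (α β γ α' β' γ' : F) :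
    D.z α β γ * D.z α' β' γ' = D.z (α + α') (β + β') (γ + γ') := by
  unfold UData.z
  rw [← D.add, ← D.add, ← D.add]
  have h1 : D.x 10 β * D.x 11 γ * D.x 9 α' = D.x 9 α' * (D.x 10 β * D.x 11 γ) := by
    rw [mul_assoc, ← D.c911, ← mul_assoc, ← D.c910, mul_assoc]
  have h2 : D.x 11 γ * D.x 10 β' = D.x 10 β' * D.x 11 γ := (D.c1011 β' γ).symm
  calc _ = D.x 9 α * ((D.x 10 β * D.x 11 γ * D.x 9 α') * (D.x 10 β' * D.x 11 γ')) := by
        simp only [mul_assoc]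
    _ = D.x 9 α * ((D.x 9 α' * (D.x 10 β * D.x 11 γ)) * (D.x 10 β' * D.x 11 γ')) := by rw [h1]
    _ = D.x 9 α * D.x 9 α' * (D.x 10 β * (D.x 11 γ * D.x 10 β') * D.x 11 γ') := by
        simp only [mul_assoc]
    _ = _ := by rw [h2]; simp only [mul_assoc]

theorem zcongr {α β γ α' β' γ' : F} (h1 : α = α') (h2 : β = β') (h3 : γ = γ') :
    D.z α β γ = D.z α' β' γ' := by rw [h1, h2, h3]

theorem z_conj7 (c α β γ : F) :
    D.x 7 c * D.z α β γ * (D.x 7 c)⁻¹ = D.z α (β + c * α) γ := by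
  have e : D.z α β γ = D.x 9 α * (D.x 10 β * D.x 11 γ) := rfl
  rw [e, cjm, cjm, c79, cjc (D.c710 c β), cjc (D.c711 c γ), x9z, x10z, x10z, x11z,
    z_mul, z_mul, z_mul]
  apply zcongr <;> ring

theorem z_conj8 (c α β γ : F) :
    D.x 8 c * D.z α β γ * (D.x 8 c)⁻¹ = D.z α β (γ + c * α) := by
  have e : D.z α β γ = D.x 9 α * (D.x 10 β * D.x 11 γ) := rfl
  rw [e, cjm, cjm, c89, cjc (D.c810 c β), cjc (D.c811 c γ), x9z, x10z, x11z, x11z,
    z_mul, z_mul, z_mul]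
  apply zcongr <;> ring

theorem z_conj6 (c α β γ : F) :
    D.x 6 c * D.z α β γ * (D.x 6 c)⁻¹ = D.z α β (γ + c * β) := by
  have e : D.z α β γ = D.x 9 α * (D.x 10 β * D.x 11 γ) := rfl
  rw [e, cjm, cjm, c610, cjc (D.c69 c α), cjc (D.c611 c γ), x9z, x10z, x11z, x11z,
    z_mul, z_mul, z_mul]
  apply zcongr <;> ring

theorem z_conj10 (c α β γ : F) :
    D.x 10 c * D.z α β γ * (D.x 10 c)⁻¹ = D.z α β γ := by
  rw [mul_inv_eq_iff_eq_mul, x10z, z_mul, z_mul]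
  apply zcongr <;> ring

theorem z_eq_one_iff (α β γ : F) : D.z α β γ = 1 ↔ α = 0 ∧ β = 0 ∧ γ = 0 := by
  constructor
  · intro h
    have h' : D.x 6 0 * (D.x 7 0 * (D.x 8 0 * (D.x 9 α * (D.x 10 β * D.x 11 γ)))) =
        D.x 6 0 * (D.x 7 0 * (D.x 8 0 * (D.x 9 0 * (D.x 10 0 * D.x 11 0)))) := by
      have e : D.x 9 α * (D.x 10 β * D.x 11 γ) = 1 := h
      rw [e]; simp [D.x_zero]
    obtain ⟨-, -, -, h9, h10, h11⟩ := D.inj _ _ _ _ _ _ _ _ _ _ _ _ h'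
    exact ⟨h9, h10, h11⟩
  · rintro ⟨rfl, rfl, rfl⟩
    simp [UData.z, D.x_zero]

theorem inv6z (s α β γ : F)
    (h : D.x 6 s * D.z α β γ * (D.x 6 s * D.z α β γ) = 1) : s * β = 0 := by
  have e : D.x 6 s * D.z α β γ * (D.x 6 s * D.z α β γ) =
      (D.x 6 s * D.z α β γ * (D.x 6 s)⁻¹) * D.z α β γ := by
    rw [D.x_inv]; simp only [mul_assoc]
  rw [e, z_conj6, z_mul, z_eq_one_iff] at h
  obtain ⟨-, -, h3⟩ := h
  have : γ + s * β + γ = s * β := by linear_combination γ * (two0 (F := F))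
  rw [← this]; exact h3

/-! ### `c78`, `c76` -/

theorem c78z (c s : F) :
    D.x 7 c * D.x 8 s * (D.x 7 c)⁻¹ = D.x 8 s * D.z 0 (c ^ 2 * s) (c * s ^ 2) := by
  have hW : D.z 0 (c ^ 2 * s) (c * s ^ 2) = D.x 10 (c ^ 2 * s) * D.x 11 (c * s ^ 2) := by
    simp [UData.z, D.x_zero]
  have hWW : D.z 0 (c ^ 2 * s) (c * s ^ 2) * D.z 0 (c ^ 2 * s) (c * s ^ 2) = 1 := by
    rw [z_mul, z_eq_one_iff]
    refine ⟨by ring, ?_, ?_⟩
    · linear_combination (c ^ 2 * s) * (two0 (F := F))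
    · linear_combination (c * s ^ 2) * (two0 (F := F))
  have hc : D.z 0 (c ^ 2 * s) (c * s ^ 2) * D.x 7 c = D.x 7 c * D.z 0 (c ^ 2 * s) (c * s ^ 2) := by
    rw [hW, mul_assoc, ← D.c711, ← mul_assoc, ← D.c710, mul_assoc]
  rw [mul_inv_eq_iff_eq_mul, mul_assoc, hc, ← mul_assoc, D.r78, ← hW, mul_assoc, hWW, mul_one]

theorem c76z (c s : F) : D.x 7 c * D.x 6 s * (D.x 7 c)⁻¹ =
    D.x 6 s * (D.x 8 (c * s) * D.z (c ^ 2 * s) (c ^ 3 * s) (c ^ 3 * s ^ 2)) := by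
  have h := D.r67 s c
  have e : D.x 7 c * D.x 6 s * (D.x 7 c)⁻¹ = D.x 6 s *
      (D.x 7 c * (D.x 8 (s * c) * (D.x 9 (s * c ^ 2) * D.x 10 (s * c ^ 3))) * (D.x 7 c)⁻¹) := by
    rw [h]; simp only [mul_assoc]
  rw [e, cjm, c78z]
  have e2 : D.x 9 (s * c ^ 2) * D.x 10 (s * c ^ 3) = D.z (s * c ^ 2) (s * c ^ 3) 0 := by
    simp [UData.z, D.x_zero]
  rw [e2, z_conj7, mul_assoc (D.x 8 (s * c)), z_mul, mul_comm s c]
  congr 2
  apply zcongr
  · ring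
  · linear_combination (c ^ 3 * s) * (two0 (F := F))
  · ring

/-- `z` moves to the right of `x 8` -/
theorem z_x8 (a α β γ : F) : D.z α β γ * D.x 8 a = D.x 8 a * D.z α β (γ + a * α) := by
  have h := z_conj8 D a α β (γ + a * α)
  rw [mul_inv_eq_iff_eq_mul] at h
  rw [h]
  congr 1
  apply zcongr
  · rfl
  · rfl
  · linear_combination (-(a * α)) * (two0 (F := F))

/-! ### nontrivial elements of `Z` -/

theorem good_z (α β γ : F) (h : D.z α β γ ≠ 1) : D.Good (D.z α β γ) := by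
  by_cases hα : α = 0
  · by_cases hβ : β = 0
    · -- `x 11 γ`
      have hγ : γ ≠ 0 := by
        intro hγ
        exact h ((z_eq_one_iff D α β γ).2 ⟨hα, hβ, hγ⟩)
      obtain ⟨g, hg⟩ := D.torus11 γ hγ
      refine ⟨g, Or.inl ?_⟩
      rw [hα, hβ, ← x11z]; exact hg
    · -- conjugate by `x 6 (γ / β)`
      apply D.good_of_conj (D.x 6 (γ / β))
      rw [z_conj6]
      have e : D.z α β (γ + γ / β * β) = D.x 10 β := by
        rw [x10z]
        apply zcongr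
        · exact hα
        · rfl
        · rw [div_mul_cancel₀ _ hβ]; linear_combination γ * (two0 (F := F))
      rw [e]
      obtain ⟨g1, hg1⟩ := D.w10_11 β
      apply D.good_of_conj g1
      rw [hg1]
      obtain ⟨g, hg⟩ := D.torus11 β hβ
      exact ⟨g, Or.inl hg⟩
  · apply D.good_of_conj (D.x 7 (β / α))
    rw [z_conj7]
    apply D.good_of_conj (D.x 8 (γ / α))
    rw [z_conj8]
    have e : D.z α (β + β / α * α) (γ + γ / α * α) = D.x 9 α := by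
      rw [x9z]
      apply zcongr
      · rfl
      · rw [div_mul_cancel₀ _ hα]; linear_combination β * (two0 (F := F))
      · rw [div_mul_cancel₀ _ hα]; linear_combination γ * (two0 (F := F))
    rw [e]
    obtain ⟨g, hg⟩ := D.torus9 α hα
    exact ⟨g, Or.inr hg⟩


/-! ### the remaining one- and two-term formulas -/

theorem c97 (c t : F) : D.x 9 c * D.x 7 t * (D.x 9 c)⁻¹ = D.x 7 t * D.x 10 (c * t) := by
  rw [mul_inv_eq_iff_eq_mul, mul_assoc, ← D.c910, ← mul_assoc, D.r79, mul_comm t c]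

theorem c98 (c s : F) : D.x 9 c * D.x 8 s * (D.x 9 c)⁻¹ = D.x 8 s * D.x 11 (c * s) := by
  rw [mul_inv_eq_iff_eq_mul, mul_assoc, ← D.c911, ← mul_assoc, D.r89, mul_comm s c]

theorem c78 (c s : F) :
    D.x 7 c * D.x 8 s * (D.x 7 c)⁻¹ = D.x 8 s * (D.x 10 (c ^ 2 * s) * D.x 11 (c * s ^ 2)) := by
  rw [c78z]; simp [UData.z, D.x_zero]

theorem c76 (c s : F) : D.x 7 c * D.x 6 s * (D.x 7 c)⁻¹ =
    D.x 6 s * (D.x 8 (c * s) * (D.x 9 (c ^ 2 * s) * (D.x 10 (c ^ 3 * s) * D.x 11 (c ^ 3 * s ^ 2)))) :=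
  c76z D c s

theorem c87z (c t : F) :
    D.x 8 c * D.x 7 t * (D.x 8 c)⁻¹ = D.x 7 t * D.z 0 (t ^ 2 * c) (t * c ^ 2) := by
  have hW : D.z 0 (t ^ 2 * c) (t * c ^ 2) = D.x 10 (t ^ 2 * c) * D.x 11 (t * c ^ 2) := by
    simp [UData.z, D.x_zero]
  have hc : D.z 0 (t ^ 2 * c) (t * c ^ 2) * D.x 8 c = D.x 8 c * D.z 0 (t ^ 2 * c) (t * c ^ 2) := by
    rw [hW, mul_assoc, ← D.c811, ← mul_assoc, ← D.c810, mul_assoc]
  rw [mul_inv_eq_iff_eq_mul, mul_assoc, hc, ← mul_assoc, D.r78, ← hW]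

theorem c87 (c t : F) :
    D.x 8 c * D.x 7 t * (D.x 8 c)⁻¹ = D.x 7 t * (D.x 10 (t ^ 2 * c) * D.x 11 (t * c ^ 2)) := by
  rw [c87z]; simp [UData.z, D.x_zero]

theorem z_conj9 (c α β γ : F) : D.x 9 c * D.z α β γ * (D.x 9 c)⁻¹ = D.z α β γ := by
  rw [mul_inv_eq_iff_eq_mul, x9z, z_mul, z_mul]
  apply zcongr <;> ring

/-- `z` moves to the right of `x 7` -/
theorem z_x7 (a α β γ : F) : D.z α β γ * D.x 7 a = D.x 7 a * D.z α (β + a * α) γ := by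
  have h := z_conj7 D a α (β + a * α) γ
  rw [mul_inv_eq_iff_eq_mul] at h
  rw [h]
  congr 1
  apply zcongr
  · rfl
  · linear_combination (-(a * α)) * (two0 (F := F))
  · rfl

theorem z_sq (α β γ : F) : D.z α β γ * D.z α β γ = 1 := by
  rw [z_mul, z_eq_one_iff]
  refine ⟨?_, ?_, ?_⟩
  · linear_combination α * (two0 (F := F))
  · linear_combination β * (two0 (F := F))
  · linear_combination γ * (two0 (F := F))

theorem c67 (c t : F) : D.x 6 c * D.x 7 t * (D.x 6 c)⁻¹ =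
    D.x 7 t * (D.x 8 (c * t) * (D.x 9 (c * t ^ 2) * D.x 10 (c * t ^ 3))) := by
  have h := D.r67 c t
  have hWz : D.x 8 (c * t) * (D.x 9 (c * t ^ 2) * D.x 10 (c * t ^ 3)) =
      D.x 8 (c * t) * D.z (c * t ^ 2) (c * t ^ 3) 0 := by simp [UData.z, D.x_zero]
  rw [hWz] at h ⊢
  have h6W : D.x 6 c * (D.x 8 (c * t) * D.z (c * t ^ 2) (c * t ^ 3) 0) * (D.x 6 c)⁻¹ =
      D.x 8 (c * t) * D.z (c * t ^ 2) (c * t ^ 3) (0 + c * (c * t ^ 3)) := by
    rw [cjm, cjc (D.c68 _ _), z_conj6]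
  have hWW : D.x 8 (c * t) * D.z (c * t ^ 2) (c * t ^ 3) 0 *
      (D.x 6 c * (D.x 8 (c * t) * D.z (c * t ^ 2) (c * t ^ 3) 0) * (D.x 6 c)⁻¹) = 1 := by
    rw [h6W, mul_assoc, ← mul_assoc (D.z _ _ _), z_x8, mul_assoc, z_mul, ← mul_assoc, D.x_sq,
      one_mul, z_eq_one_iff]
    refine ⟨?_, ?_, ?_⟩
    · linear_combination (c * t ^ 2) * (two0 (F := F))
    · linear_combination (c * t ^ 3) * (two0 (F := F))
    · linear_combination (c ^ 2 * t ^ 3) * (two0 (F := F))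
  rw [mul_inv_eq_iff_eq_mul]
  have key : D.x 7 t * (D.x 8 (c * t) * D.z (c * t ^ 2) (c * t ^ 3) 0) * D.x 6 c =
      D.x 6 c * D.x 7 t * (D.x 8 (c * t) * D.z (c * t ^ 2) (c * t ^ 3) 0 *
      (D.x 6 c * (D.x 8 (c * t) * D.z (c * t ^ 2) (c * t ^ 3) 0) * (D.x 6 c)⁻¹)) := by
    rw [D.x_inv]
    calc D.x 7 t * (D.x 8 (c * t) * D.z (c * t ^ 2) (c * t ^ 3) 0) * D.x 6 c
        = D.x 7 t * (D.x 6 c * D.x 6 c) * (D.x 8 (c * t) * D.z (c * t ^ 2) (c * t ^ 3) 0) *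
            D.x 6 c := by rw [D.x_sq, mul_one]
      _ = (D.x 7 t * D.x 6 c) * (D.x 6 c * (D.x 8 (c * t) * D.z (c * t ^ 2) (c * t ^ 3) 0) *
            D.x 6 c) := by simp only [mul_assoc]
      _ = _ := by rw [h]; simp only [mul_assoc]
  rw [key, hWW, mul_one]

/-! ### short involution conditions -/

theorem inv7z (t α β γ : F) (h : D.x 7 t * D.z α β γ * (D.x 7 t * D.z α β γ) = 1) : t * α = 0 := by
  have e : D.x 7 t * D.z α β γ * (D.x 7 t * D.z α β γ) =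
      (D.x 7 t * D.z α β γ * (D.x 7 t)⁻¹) * D.z α β γ := by
    rw [D.x_inv]; simp only [mul_assoc]
  rw [e, z_conj7, z_mul, z_eq_one_iff] at h
  obtain ⟨-, h2, -⟩ := h
  have : β + t * α + β = t * α := by linear_combination β * (two0 (F := F))
  rw [← this]; exact h2

theorem inv8z (s α β γ : F) (h : D.x 8 s * D.z α β γ * (D.x 8 s * D.z α β γ) = 1) : s * α = 0 := by
  have e : D.x 8 s * D.z α β γ * (D.x 8 s * D.z α β γ) =
      (D.x 8 s * D.z α β γ * (D.x 8 s)⁻¹) * D.z α β γ := by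
    rw [D.x_inv]; simp only [mul_assoc]
  rw [e, z_conj8, z_mul, z_eq_one_iff] at h
  obtain ⟨-, -, h3⟩ := h
  have : γ + s * α + γ = s * α := by linear_combination γ * (two0 (F := F))
  rw [← this]; exact h3

/-! ### multiplication in `X₇ X₈ Z` and `inv67` -/

theorem z_x7' (a α β γ : F) (w : G) :
    D.z α β γ * (D.x 7 a * w) = D.x 7 a * (D.z α (β + a * α) γ * w) := by
  rw [← mul_assoc, z_x7, mul_assoc]

theorem z_x8' (a α β γ : F) (w : G) :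
    D.z α β γ * (D.x 8 a * w) = D.x 8 a * (D.z α β (γ + a * α) * w) := by
  rw [← mul_assoc, z_x8, mul_assoc]

theorem x8_x7' (b a : F) (w : G) :
    D.x 8 b * (D.x 7 a * w) = D.x 7 a * (D.x 8 b * (D.z 0 (a ^ 2 * b) (a * b ^ 2) * w)) := by
  have hW : D.z 0 (a ^ 2 * b) (a * b ^ 2) = D.x 10 (a ^ 2 * b) * D.x 11 (a * b ^ 2) := by
    simp [UData.z, D.x_zero]
  rw [← mul_assoc, D.r78, ← hW]; simp only [mul_assoc]

theorem z_mul' (α β γ α' β' γ' : F) (w : G) :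
    D.z α β γ * (D.z α' β' γ' * w) = D.z (α + α') (β + β') (γ + γ') * w := by
  rw [← mul_assoc, z_mul]

theorem add' (r : ℕ) (t u : F) (w : G) : D.x r t * (D.x r u * w) = D.x r (t + u) * w := by
  rw [← mul_assoc, D.add]

theorem mul78 (a b α β γ a' b' α' β' γ' : F) : ∃ α'' β'' γ'' : F,
    (D.x 7 a * (D.x 8 b * D.z α β γ)) * (D.x 7 a' * (D.x 8 b' * D.z α' β' γ')) =
      D.x 7 (a + a') * (D.x 8 (b + b') * D.z α'' β'' γ'') := by
  have e : (D.x 7 a * (D.x 8 b * D.z α β γ)) * (D.x 7 a' * (D.x 8 b' * D.z α' β' γ')) =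
      D.x 7 a * (D.x 8 b * (D.z α β γ * (D.x 7 a' * (D.x 8 b' * D.z α' β' γ')))) := by
    simp only [mul_assoc]
  rw [e, z_x7', x8_x7', z_mul', z_x8', z_mul, add', add']
  exact ⟨_, _, _, rfl⟩

theorem inv67 (a6 a7 a8 a9 a10 a11 : F)
    (h : D.prod a6 a7 a8 a9 a10 a11 * D.prod a6 a7 a8 a9 a10 a11 = 1) : a6 * a7 = 0 := by
  rw [D.prod_eq] at h
  have e : D.x 6 a6 * (D.x 7 a7 * (D.x 8 a8 * D.z a9 a10 a11)) *
      (D.x 6 a6 * (D.x 7 a7 * (D.x 8 a8 * D.z a9 a10 a11))) =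
      (D.x 6 a6 * (D.x 7 a7 * (D.x 8 a8 * D.z a9 a10 a11)) * (D.x 6 a6)⁻¹) *
        (D.x 7 a7 * (D.x 8 a8 * D.z a9 a10 a11)) := by
    rw [D.x_inv]; simp only [mul_assoc]
  have hWz : D.x 8 (a6 * a7) * (D.x 9 (a6 * a7 ^ 2) * D.x 10 (a6 * a7 ^ 3)) =
      D.x 8 (a6 * a7) * D.z (a6 * a7 ^ 2) (a6 * a7 ^ 3) 0 := by simp [UData.z, D.x_zero]
  have h0 : D.x 8 a8 * D.z a9 a10 (a11 + a6 * a10) =
      D.x 7 0 * (D.x 8 a8 * D.z a9 a10 (a11 + a6 * a10)) := by rw [D.x_zero, one_mul]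
  rw [e, cjm, cjm, c67, cjc (D.c68 _ _), z_conj6, hWz, h0] at h
  obtain ⟨α1, β1, γ1, h1⟩ := mul78 D a7 (a6 * a7) (a6 * a7 ^ 2) (a6 * a7 ^ 3) 0 0 a8 a9 a10
    (a11 + a6 * a10)
  rw [h1] at h
  obtain ⟨α2, β2, γ2, h2⟩ := mul78 D (a7 + 0) (a6 * a7 + a8) α1 β1 γ1 a7 a8 a9 a10 a11
  rw [h2] at h
  have h' : D.x 6 0 * (D.x 7 (a7 + 0 + a7) * (D.x 8 (a6 * a7 + a8 + a8) *
      (D.x 9 α2 * (D.x 10 β2 * D.x 11 γ2)))) =
      D.x 6 0 * (D.x 7 0 * (D.x 8 0 * (D.x 9 0 * (D.x 10 0 * D.x 11 0)))) := by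
    have e' : D.x 7 (a7 + 0 + a7) * (D.x 8 (a6 * a7 + a8 + a8) *
      (D.x 9 α2 * (D.x 10 β2 * D.x 11 γ2))) = 1 := h
    rw [e']; simp [D.x_zero]
  obtain ⟨-, -, h8, -⟩ := D.inj _ _ _ _ _ _ _ _ _ _ _ _ h'
  have : a6 * a7 + a8 + a8 = a6 * a7 := by linear_combination a8 * (two0 (F := F))
  rw [← this]; exact h8

/-! ### `good_8z` -/

theorem good_8z (s α β γ : F) (hs : s ≠ 0)
    (h : D.x 8 s * D.z α β γ * (D.x 8 s * D.z α β γ) = 1) : D.Good (D.x 8 s * D.z α β γ) := by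
  have hα : α = 0 := by
    rcases mul_eq_zero.1 (inv8z D s α β γ h) with h0 | h0
    · exact absurd h0 hs
    · exact h0
  subst hα
  -- conjugate by `x 9 (γ / s)`
  apply D.good_of_conj (D.x 9 (γ / s))
  have e1 : D.x 9 (γ / s) * (D.x 8 s * D.z 0 β γ) * (D.x 9 (γ / s))⁻¹ = D.x 8 s * D.z 0 β 0 := by
    rw [cjm, c98, z_conj9, mul_assoc, x11z, z_mul, div_mul_cancel₀ _ hs]
    congr 1
    apply zcongr
    · ring
    · ring
    · linear_combination γ * (two0 (F := F))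
  rw [e1]
  obtain ⟨c, hc⟩ := D.sqrt (β / s)
  have hc2 : c ^ 2 * s = β := by rw [pow_two, hc, div_mul_cancel₀ _ hs]
  apply D.good_of_conj (D.x 7 c)
  have e2 : D.x 7 c * (D.x 8 s * D.z 0 β 0) * (D.x 7 c)⁻¹ = D.x 8 s * D.z 0 0 (c * s ^ 2) := by
    rw [cjm, c78z, z_conj7, mul_assoc, z_mul, hc2]
    congr 1
    apply zcongr
    · ring
    · linear_combination β * (two0 (F := F))
    · ring
  rw [e2]
  apply D.good_of_conj (D.x 9 (c * s))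
  have e3 : D.x 9 (c * s) * (D.x 8 s * D.z 0 0 (c * s ^ 2)) * (D.x 9 (c * s))⁻¹ = D.x 8 s := by
    rw [cjm, c98, z_conj9, mul_assoc, x11z, z_mul]
    have e4 : D.z (0 + 0) (0 + 0) (c * s * s + c * s ^ 2) = 1 := by
      rw [z_eq_one_iff]
      refine ⟨by ring, by ring, ?_⟩
      linear_combination (c * s ^ 2) * (two0 (F := F))
    rw [e4, mul_one]
  rw [e3]
  obtain ⟨g1, hg1⟩ := D.w8_9 s
  apply D.good_of_conj g1
  rw [hg1]
  obtain ⟨g, hg⟩ := D.torus9 s hs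
  exact ⟨g, Or.inr hg⟩

/-! ### `good_78z` -/

theorem step78 (t t8 α β γ c : F) (hc : c * t = t8) :
    ∃ α' β' γ' : F, D.x 6 c * (D.x 7 t * (D.x 8 t8 * D.z α β γ)) * (D.x 6 c)⁻¹ =
      D.x 7 t * D.z α' β' γ' := by
  have hWz : D.x 8 (c * t) * (D.x 9 (c * t ^ 2) * D.x 10 (c * t ^ 3)) =
      D.x 8 (c * t) * D.z (c * t ^ 2) (c * t ^ 3) 0 := by simp [UData.z, D.x_zero]
  have key : D.x 6 c * (D.x 7 t * (D.x 8 t8 * D.z α β γ)) * (D.x 6 c)⁻¹ =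
      D.x 7 t * (D.x 8 t8 * (D.z (c * t ^ 2) (c * t ^ 3) 0 * D.x 8 t8) *
        D.z α β (γ + c * β)) := by
    rw [cjm, cjm, c67, cjc (D.c68 _ _), z_conj6, hWz, hc]; simp only [mul_assoc]
  rw [key, z_x8, ← mul_assoc (D.x 8 t8), D.x_sq, one_mul, z_mul]
  exact ⟨_, _, _, rfl⟩

theorem conj_invol' {g u : G} (h : u * u = 1) : (g * u * g⁻¹) * (g * u * g⁻¹) = 1 := by
  have : (g * u * g⁻¹) * (g * u * g⁻¹) = g * (u * u) * g⁻¹ := by group
  rw [this, h]; group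

theorem good_78z (t t8 α β γ : F) (ht : t ≠ 0)
    (h : D.x 7 t * (D.x 8 t8 * D.z α β γ) * (D.x 7 t * (D.x 8 t8 * D.z α β γ)) = 1) :
    D.Good (D.x 7 t * (D.x 8 t8 * D.z α β γ)) := by
  have hc : t8 / t * t = t8 := div_mul_cancel₀ _ ht
  obtain ⟨α', β', γ', h1⟩ := step78 D t t8 α β γ (t8 / t) hc
  apply D.good_of_conj (D.x 6 (t8 / t))
  have h2 := conj_invol' (g := D.x 6 (t8 / t)) h
  rw [h1] at h2 ⊢
  have hα : α' = 0 := by
    rcases mul_eq_zero.1 (inv7z D t α' β' γ' h2) with h0 | h0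
    · exact absurd h0 ht
    · exact h0
  subst hα
  -- conjugate by `x 9 (β' / t)`
  apply D.good_of_conj (D.x 9 (β' / t))
  have e1 : D.x 9 (β' / t) * (D.x 7 t * D.z 0 β' γ') * (D.x 9 (β' / t))⁻¹ =
      D.x 7 t * D.z 0 0 γ' := by
    rw [cjm, c97, z_conj9, mul_assoc, x10z, z_mul, div_mul_cancel₀ _ ht]
    congr 1
    apply zcongr
    · ring
    · linear_combination β' * (two0 (F := F))
    · ring
  rw [e1]
  obtain ⟨c, hc'⟩ := D.sqrt (γ' / t)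
  have hc2 : t * c ^ 2 = γ' := by rw [pow_two, hc', mul_div_cancel₀ _ ht]
  apply D.good_of_conj (D.x 8 c)
  have e2 : D.x 8 c * (D.x 7 t * D.z 0 0 γ') * (D.x 8 c)⁻¹ = D.x 7 t * D.z 0 (t ^ 2 * c) 0 := by
    rw [cjm, c87z, z_conj8, mul_assoc, z_mul, hc2]
    congr 1
    apply zcongr
    · ring
    · ring
    · linear_combination γ' * (two0 (F := F))
  rw [e2]
  apply D.good_of_conj (D.x 9 (t * c))
  have e3 : D.x 9 (t * c) * (D.x 7 t * D.z 0 (t ^ 2 * c) 0) * (D.x 9 (t * c))⁻¹ = D.x 7 t := by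
    rw [cjm, c97, z_conj9, mul_assoc, x10z, z_mul]
    have e4 : D.z (0 + 0) (t * c * t + t ^ 2 * c) (0 + 0) = 1 := by
      rw [z_eq_one_iff]
      refine ⟨by ring, ?_, by ring⟩
      linear_combination (t ^ 2 * c) * (two0 (F := F))
    rw [e4, mul_one]
  rw [e3]
  obtain ⟨g1, hg1⟩ := D.w7_9 t
  apply D.good_of_conj g1
  rw [hg1]
  obtain ⟨g, hg⟩ := D.torus9 t ht
  exact ⟨g, Or.inr hg⟩

/-! ### the glue -/

theorem good_of_involution (a6 a7 a8 a9 a10 a11 : F)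
    (h : D.prod a6 a7 a8 a9 a10 a11 * D.prod a6 a7 a8 a9 a10 a11 = 1)
    (h1 : D.prod a6 a7 a8 a9 a10 a11 ≠ 1) : D.Good (D.prod a6 a7 a8 a9 a10 a11) := by
  have h67 := inv67 D a6 a7 a8 a9 a10 a11 h
  rw [D.prod_eq] at h h1 ⊢
  by_cases h6 : a6 = 0
  · subst h6
    rw [D.x_zero, one_mul] at h h1 ⊢
    by_cases h7 : a7 = 0
    · subst h7
      rw [D.x_zero, one_mul] at h h1 ⊢
      by_cases h8 : a8 = 0
      · subst h8
        rw [D.x_zero, one_mul] at h h1 ⊢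
        exact good_z D a9 a10 a11 h1
      · exact good_8z D a8 a9 a10 a11 h8 h
    · exact good_78z D a7 a8 a9 a10 a11 h7 h
  · have h7 : a7 = 0 := by
      rcases mul_eq_zero.1 h67 with h0 | h0
      · exact absurd h0 h6
      · exact h0
    subst h7
    rw [D.x_zero, one_mul] at h h1 ⊢
    exact good_68z D a6 a8 a9 a10 a11 h6 h

end Cfsg.Agent.Lib.Helper75.G2Inv
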