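import Mathlib
import Cfsg.Agent.Lib.Helper83.GSDefs
import Cfsg.Agent.S3742

/-!
# K-GS G3: a normal `Q_8` in `Γ` is `Good p` unless `p = 3` and `|Γ : C_Γ(R)| = 24`
-/

set_option autoImplicit false

namespace Cfsg.Agent.Lib.Helper75.GS

open Cfsg.Agent.Lib.Helper83.GS (Good)

universe u

variable {Γ : Type u} [Group Γ] [Finite Γ]

/-- the center of `Q_8` -/
theorem q8_center (g : QuaternionGroup 2) (h : ∀ x : QuaternionGroup 2, x * g = g * x) :
    g = 1 ∨ g = QuaternionGroup.a 2 := by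
  revert g
  decide

theorem card_mulAut_q8 : Nat.card (MulAut (QuaternionGroup 2)) = 24 := by
  obtain ⟨f⟩ := Cfsg.Agent.S3742.result
  rw [Nat.card_congr f.toEquiv, Nat.card_eq_fintype_card, Fintype.card_perm, Fintype.card_fin]
  rfl

theorem index_centralizer_dvd (R : Subgroup Γ) [R.Normal] (e : R ≃* QuaternionGroup 2) :
    (Subgroup.centralizer (R : Set Γ)).index ∣ 24 := by
  let φ : Γ →* MulAut R := MulAut.conjNormal
  have hker : φ.ker = Subgroup.centralizer (R : Set Γ) := by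
    ext g
    rw [MonoidHom.mem_ker, Subgroup.mem_centralizer_iff]
    constructor
    · intro h r hr
      have h1 : ((φ g ⟨r, hr⟩ : R) : Γ) = r := by rw [h]; rfl
      rw [MulAut.conjNormal_apply] at h1
      calc r * g = (g * r * g⁻¹) * g := by rw [h1]
        _ = g * r := by group
    · intro h
      ext r
      rw [MulAut.conjNormal_apply]
      have h1 := h r r.2
      show g * (r : Γ) * g⁻¹ = r
      calc g * (r : Γ) * g⁻¹ = ((r : Γ) * g) * g⁻¹ := by rw [h1]
        _ = r := by group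
  have h1 : (Subgroup.centralizer (R : Set Γ)).index = Nat.card φ.range := by
    rw [← hker]
    exact Subgroup.index_ker φ
  rw [h1]
  have h2 : Nat.card φ.range ∣ Nat.card (MulAut R) := Subgroup.card_subgroup_dvd_card _
  have h3 : Nat.card (MulAut R) = 24 := by
    rw [Nat.card_congr (MulAut.congr e).toEquiv]
    exact card_mulAut_q8
  rwa [h3] at h2

theorem relIndex_q8 (R : Subgroup Γ) [R.Normal] (e : R ≃* QuaternionGroup 2) :
    4 ∣ (Subgroup.centralizer (R : Set Γ)).relIndex R ∧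
      (Subgroup.centralizer (R : Set Γ)).relIndex R ∣ 8 := by
  set C := Subgroup.centralizer (R : Set Γ) with hC
  have hinj : ∀ r : C.subgroupOf R, e r.1 = 1 ∨ e r.1 = QuaternionGroup.a 2 := by
    intro r
    apply q8_center
    intro x
    have hr : ((r.1 : R) : Γ) ∈ C := Subgroup.mem_subgroupOf.1 r.2
    rw [Subgroup.mem_centralizer_iff] at hr
    have h1 := hr (e.symm x : Γ) (e.symm x).2
    have h2 : e.symm x * r.1 = r.1 * e.symm x := Subtype.ext h1
    have h3 := congrArg e h2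
    simpa using h3
  have hcard : Nat.card (C.subgroupOf R) ≤ 2 := by
    classical
    let f : C.subgroupOf R → Fin 2 := fun r => if e r.1 = 1 then 0 else 1
    have hf : Function.Injective f := by
      intro r r' hrr
      have h1 : e r.1 = e r'.1 := by
        simp only [f] at hrr
        rcases hinj r with h | h <;> rcases hinj r' with h' | h'
        · rw [h, h']
        · exfalso
          have hne : ¬ (e r'.1 = 1) := by
            rw [h']; decide
          rw [if_pos h, if_neg hne] at hrr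
          exact absurd hrr (by decide)
        · exfalso
          have hne : ¬ (e r.1 = 1) := by
            rw [h]; decide
          rw [if_neg hne, if_pos h'] at hrr
          exact absurd hrr (by decide)
        · rw [h, h']
      exact Subtype.ext (e.injective h1)
    have := Nat.card_le_card_of_injective f hf
    simpa using this
  have hmul : Nat.card (C.subgroupOf R) * C.relIndex R = 8 := by
    have h1 := Subgroup.card_mul_index (C.subgroupOf R)
    have h2 : Nat.card R = 8 := by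
      rw [Nat.card_congr e.toEquiv, Nat.card_eq_fintype_card, QuaternionGroup.card]
    rw [h2] at h1
    exact h1
  have hpos : 0 < Nat.card (C.subgroupOf R) := Nat.card_pos
  have hc : Nat.card (C.subgroupOf R) = 1 ∨ Nat.card (C.subgroupOf R) = 2 := by omega
  rcases hc with h | h
  · rw [h, one_mul] at hmul
    rw [hmul]
    exact ⟨⟨2, rfl⟩, dvd_refl 8⟩
  · rw [h] at hmul
    have : C.relIndex R = 4 := by omega
    rw [this]
    exact ⟨dvd_refl 4, ⟨2, rfl⟩⟩

theorem mem_of_pow_of_not_dvd (p : ℕ) [Fact p.Prime] (C : Subgroup Γ) [C.Normal]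
    (hp : ¬ p ∣ C.index) (x : Γ) (hx : ∃ k : ℕ, x ^ (p ^ k) = 1) : x ∈ C := by
  obtain ⟨k, hk⟩ := hx
  rw [← QuotientGroup.eq_one_iff]
  have h1 : ((x : Γ ⧸ C)) ^ (p ^ k) = 1 := by
    rw [← QuotientGroup.mk_pow, hk]; rfl
  have h2 : ((x : Γ ⧸ C)) ^ C.index = 1 := by
    rw [← QuotientGroup.mk_pow, QuotientGroup.eq_one_iff]
    exact Subgroup.pow_index_mem C x
  have h3 : orderOf (x : Γ ⧸ C) ∣ Nat.gcd (p ^ k) C.index :=
    Nat.dvd_gcd (orderOf_dvd_of_pow_eq_one h1) (orderOf_dvd_of_pow_eq_one h2)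
  have h4 : Nat.gcd (p ^ k) C.index = 1 :=
    Nat.Coprime.pow_left k ((Nat.Prime.coprime_iff_not_dvd Fact.out).2 hp)
  rw [h4, Nat.dvd_one] at h3
  exact orderOf_eq_one_iff.1 h3

omit [Finite Γ] in
theorem good_of_centralizes' (p : ℕ) [Fact p.Prime] (R : Subgroup Γ)
    (h : ∀ x : Γ, (∃ k : ℕ, x ^ (p ^ k) = 1) → x ∈ Subgroup.centralizer (R : Set Γ)) : Good p R := by
  refine ⟨⟨⊤, inferInstance, ⟨0, by simp⟩, fun x _ hx => h x hx⟩, ?_⟩
  intro P x hx y hy
  have hpel : ∀ z ∈ (P : Subgroup Γ), z ∈ Subgroup.centralizer (R : Set Γ) := by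
    intro z hz
    apply h
    obtain ⟨k, hk⟩ := P.isPGroup' ⟨z, hz⟩
    exact ⟨k, by simpa using congrArg Subtype.val hk⟩
  exact Subgroup.mul_mem _ (Subgroup.mul_mem _ (Subgroup.mul_mem _ (hpel x hx) (hpel y hy))
    (Subgroup.inv_mem _ (hpel x hx))) (Subgroup.inv_mem _ (hpel y hy))

/-- G3. -/
theorem good_of_q8 (p : ℕ) [Fact p.Prime] (hp2 : p ≠ 2) (R : Subgroup Γ) [R.Normal]
    (e : R ≃* QuaternionGroup 2)
    (hkill : p = 3 → Nat.card Γ ≠ 24 * Nat.card (Subgroup.centralizer (R : Set Γ))) : Good p R := by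
  set C := Subgroup.centralizer (R : Set Γ) with hC
  have hCn : C.Normal := inferInstance
  have h24 : C.index ∣ 24 := index_centralizer_dvd R e
  obtain ⟨h4, h8⟩ := relIndex_q8 R e
  have h4' : 4 ∣ C.index := h4.trans (Subgroup.relIndex_dvd_index_of_normal C R)
  by_cases hp : p ∣ C.index
  · have hpp : p.Prime := Fact.out
    have hp3 : p = 3 := by
      have h1 : p ∣ 2 ^ 3 * 3 := hp.trans h24
      rcases (Nat.Prime.dvd_mul hpp).1 h1 with h | h
      · exact absurd ((Nat.prime_dvd_prime_iff_eq hpp Nat.prime_two).1 (hpp.dvd_of_dvd_pow h)) hp2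
      · exact (Nat.prime_dvd_prime_iff_eq hpp Nat.prime_three).1 h
    subst hp3
    have hne : C.index ≠ 24 := by
      intro h
      apply hkill rfl
      rw [← h, mul_comm]
      exact (Subgroup.card_mul_index C).symm
    have h12 : C.index = 12 := by
      have hpos : 0 < C.index := Nat.pos_of_ne_zero Subgroup.index_ne_zero_of_finite
      have hle : C.index ≤ 24 := Nat.le_of_dvd (by norm_num) h24
      obtain ⟨a, ha⟩ := hp
      obtain ⟨b, hb⟩ := h4'
      omega
    have hrel : C.relIndex R = 4 := by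
      have h1 : C.relIndex R ∣ 12 := h12 ▸ Subgroup.relIndex_dvd_index_of_normal C R
      have h2 : C.relIndex R ∣ Nat.gcd 8 12 := Nat.dvd_gcd h8 h1
      have h3 : C.relIndex R ∣ 4 := by simpa using h2
      exact Nat.dvd_antisymm h3 h4
    -- K
    have hKn : (R ⊔ C).Normal := Subgroup.sup_normal R C
    have hrelK : C.relIndex (R ⊔ C) = 4 := by
      rw [Subgroup.relIndex_sup_right, hrel]
    have hK3 : (R ⊔ C).index = 3 := by
      have h1 := Subgroup.relIndex_mul_index (le_sup_right : C ≤ R ⊔ C)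
      rw [hrelK, h12] at h1
      omega
    -- 3-elements of K lie in C
    have hK : ∀ x ∈ R ⊔ C, (∃ k : ℕ, x ^ (3 ^ k) = 1) → x ∈ C := by
      intro x hx ⟨k, hk⟩
      have hx4 : x ^ 4 ∈ C := by
        have h1 := Subgroup.pow_index_mem (C.subgroupOf (R ⊔ C)) ⟨x, hx⟩
        have h2 : (C.subgroupOf (R ⊔ C)).index = 4 := hrelK
        rw [h2, Subgroup.mem_subgroupOf] at h1
        simpa using h1
      rw [← QuotientGroup.eq_one_iff]
      have e1 : ((x : Γ ⧸ C)) ^ (3 ^ k) = 1 := by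
        rw [← QuotientGroup.mk_pow, hk]; rfl
      have e2 : ((x : Γ ⧸ C)) ^ 4 = 1 := by
        rw [← QuotientGroup.mk_pow, QuotientGroup.eq_one_iff]; exact hx4
      have e3 : orderOf (x : Γ ⧸ C) ∣ Nat.gcd (3 ^ k) 4 :=
        Nat.dvd_gcd (orderOf_dvd_of_pow_eq_one e1) (orderOf_dvd_of_pow_eq_one e2)
      have e4 : Nat.gcd (3 ^ k) 4 = 1 := Nat.Coprime.pow_left k (by decide)
      rw [e4, Nat.dvd_one] at e3
      exact orderOf_eq_one_iff.1 e3
    refine ⟨⟨R ⊔ C, hKn, ⟨1, by rw [hK3]; rfl⟩, hK⟩, ?_⟩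
    intro P x hx y hy
    have hcP : x * y * x⁻¹ * y⁻¹ ∈ (P : Subgroup Γ) :=
      Subgroup.mul_mem _ (Subgroup.mul_mem _ (Subgroup.mul_mem _ hx hy) (Subgroup.inv_mem _ hx))
        (Subgroup.inv_mem _ hy)
    have hc3 : ∃ k : ℕ, (x * y * x⁻¹ * y⁻¹) ^ (3 ^ k) = 1 := by
      obtain ⟨k, hk⟩ := P.isPGroup' ⟨_, hcP⟩
      exact ⟨k, by simpa using congrArg Subtype.val hk⟩
    apply hK _ _ hc3
    -- the commutator lies in K since Γ/K is cyclic of order 3
    rw [← QuotientGroup.eq_one_iff]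
    have hcard : Nat.card (Γ ⧸ (R ⊔ C)) = 3 := by
      rw [← Subgroup.index_eq_card]; exact hK3
    have hcyc : IsCyclic (Γ ⧸ (R ⊔ C)) := isCyclic_of_prime_card hcard
    obtain ⟨g, hg⟩ := hcyc.exists_generator
    obtain ⟨m, hm⟩ := Subgroup.mem_zpowers_iff.1 (hg (x : Γ ⧸ (R ⊔ C)))
    obtain ⟨n, hn⟩ := Subgroup.mem_zpowers_iff.1 (hg (y : Γ ⧸ (R ⊔ C)))
    rw [QuotientGroup.mk_mul, QuotientGroup.mk_mul, QuotientGroup.mk_mul, QuotientGroup.mk_inv,
      QuotientGroup.mk_inv, ← hm, ← hn, ← zpow_neg, ← zpow_neg, ← zpow_add, ← zpow_add, ← zpow_add]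
    have : m + n + -m + -n = 0 := by ring
    rw [this, zpow_zero]
  · exact good_of_centralizes' p R (fun x hx => mem_of_pow_of_not_dvd p C hp x hx)

end Cfsg.Agent.Lib.Helper75.GS
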