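import Mathlib

/-!
# K-GAG G07c: Frattini argument for an involution inverting the odd-order normal subgroup `N`
-/

set_option autoImplicit false

namespace Cfsg.Agent.Lib.Helper75.Gag

variable {G : Type*} [Group G] [Finite G]

/-- elements of a `p`-subgroup, `p` odd, have odd order -/
theorem odd_orderOf_of_isPGroup {p : ℕ} [Fact p.Prime] (hp2 : p ≠ 2) (N : Subgroup G)
    (hNp : IsPGroup p N) (n : G) (hn : n ∈ N) : Odd (orderOf n) := by
  obtain ⟨k, hk⟩ := hNp ⟨n, hn⟩
  have h1 : n ^ (p ^ k) = 1 := by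
    have := congrArg (Subtype.val) hk
    simpa using this
  have h2 : orderOf n ∣ p ^ k := orderOf_dvd_of_pow_eq_one h1
  obtain ⟨j, _, hj⟩ := (Nat.dvd_prime_pow (Fact.out : p.Prime)).1 h2
  rw [hj]
  exact ((Fact.out : p.Prime).odd_of_ne_two hp2).pow

/-- an element of odd order has a square root among its powers -/
theorem exists_sq_eq_of_odd (m : G) (hm : Odd (orderOf m)) : ∃ k : ℕ, m ^ k * m ^ k = m := by
  obtain ⟨j, hj⟩ := hm
  refine ⟨j + 1, ?_⟩
  rw [← pow_add]
  have : j + 1 + (j + 1) = orderOf m + 1 := by omega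
  rw [this, pow_add, pow_orderOf_eq_one, one_mul, pow_one]

/-- G07c (MEDIUM-HARD): Frattini for the central involution of `G/N`: `G = N C_G(t)`, `C_N(t) = 1`. -/
theorem frattini_involution {p : ℕ} [Fact p.Prime] (hp2 : p ≠ 2) (N : Subgroup G) [N.Normal]
    (hNp : IsPGroup p N) (hcent : Subgroup.centralizer (N : Set G) ≤ N)
    (t : G) (ht : t * t = 1) (ht1 : t ≠ 1)
    (hall : ∀ s : G, s * s = 1 → s ≠ 1 → ∀ n ∈ N, s * n * s⁻¹ = n⁻¹) :
    Subgroup.centralizer ({t} : Set G) ⊓ N = ⊥ ∧
      ∀ g : G, ∃ n ∈ N, ∃ l ∈ Subgroup.centralizer ({t} : Set G), g = n * l := by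
  have htinv : t⁻¹ = t := inv_eq_of_mul_eq_one_left ht
  refine ⟨?_, ?_⟩
  · rw [eq_bot_iff]
    intro n hn
    obtain ⟨hnc, hnN⟩ := Subgroup.mem_inf.1 hn
    rw [Subgroup.mem_centralizer_iff] at hnc
    have h1 : t * n = n * t := hnc t (Set.mem_singleton t)
    have h2 : t * n * t⁻¹ = n⁻¹ := hall t ht ht1 n hnN
    rw [h1, mul_inv_cancel_right] at h2
    -- n = n⁻¹
    have h3 : n ^ 2 = 1 := by
      rw [pow_two]
      nth_rewrite 1 [h2]
      exact inv_mul_cancel n
    have h4 : orderOf n ∣ 2 := orderOf_dvd_of_pow_eq_one h3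
    have h5 : Odd (orderOf n) := odd_orderOf_of_isPGroup hp2 N hNp n hnN
    have h6 : orderOf n = 1 := by
      rcases (Nat.dvd_prime Nat.prime_two).1 h4 with h | h
      · exact h
      · rw [h] at h5; exact absurd h5 (by decide)
    rw [Subgroup.mem_bot]
    exact orderOf_eq_one_iff.1 h6
  · intro g
    set s : G := g * t * g⁻¹ with hs
    have hss : s * s = 1 := by
      rw [hs]
      have : g * t * g⁻¹ * (g * t * g⁻¹) = g * (t * t) * g⁻¹ := by group
      rw [this, ht, mul_one, mul_inv_cancel]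
    have hs1 : s ≠ 1 := by
      intro h
      apply ht1
      have : t = g⁻¹ * s * g := by rw [hs]; group
      rw [this, h]; group
    -- m = s * t centralises N
    have hmc : s * t ∈ Subgroup.centralizer (N : Set G) := by
      rw [Subgroup.mem_centralizer_iff]
      intro n hn
      have e1 : t * n * t⁻¹ = n⁻¹ := hall t ht ht1 n hn
      have hninv : n⁻¹ ∈ N := N.inv_mem hn
      have e2 : s * n⁻¹ * s⁻¹ = n⁻¹⁻¹ := hall s hss hs1 n⁻¹ hninv
      rw [inv_inv] at e2
      -- (s t) n (s t)⁻¹ = n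
      have e3 : s * t * n * (s * t)⁻¹ = n := by
        have : s * t * n * (s * t)⁻¹ = s * (t * n * t⁻¹) * s⁻¹ := by group
        rw [this, e1, e2]
      -- n * (s t) = (s t) * n
      have : s * t * n = n * (s * t) := by
        calc s * t * n = s * t * n * (s * t)⁻¹ * (s * t) := by group
          _ = n * (s * t) := by rw [e3]
      exact this.symm
    have hmN : s * t ∈ N := hcent hmc
    obtain ⟨k, hk⟩ := exists_sq_eq_of_odd (s * t) (odd_orderOf_of_isPGroup hp2 N hNp _ hmN)
    set n : G := (s * t) ^ k with hn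
    have hnN : n ∈ N := N.pow_mem hmN k
    -- n t n⁻¹ = n n t
    have e1 : t * n * t⁻¹ = n⁻¹ := hall t ht ht1 n hnN
    have e4 : n * t * n⁻¹ = s := by
      have h1 : t * n⁻¹ = n * t := by
        have : t * n⁻¹ * t⁻¹ = n := by
          have := congrArg (fun z => z⁻¹) e1
          simp only [mul_inv_rev, inv_inv] at this
          rw [← mul_assoc] at this
          exact this
        calc t * n⁻¹ = t * n⁻¹ * t⁻¹ * t := by group
          _ = n * t := by rw [this]
      calc n * t * n⁻¹ = n * (t * n⁻¹) := by group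
        _ = n * (n * t) := by rw [h1]
        _ = (n * n) * t := by group
        _ = (s * t) * t := by rw [hk]
        _ = s := by rw [mul_assoc, ht, mul_one]
    refine ⟨n, hnN, n⁻¹ * g, ?_, by group⟩
    rw [Subgroup.mem_centralizer_iff]
    intro h hh
    rw [Set.mem_singleton_iff] at hh
    subst hh
    -- h = t ; need t * (n⁻¹ g) = (n⁻¹ g) * t
    have e5 : g * h * g⁻¹ = n * h * n⁻¹ := by rw [e4]
    calc h * (n⁻¹ * g) = n⁻¹ * (n * h * n⁻¹) * g := by group
      _ = n⁻¹ * (g * h * g⁻¹) * g := by rw [e5]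
      _ = n⁻¹ * g * h := by group

end Cfsg.Agent.Lib.Helper75.Gag
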