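import Mathlib

/-!
# K-GAG G09: two involutions generating a non-2-group invert a nontrivial element of odd order
-/

set_option autoImplicit false

namespace Cfsg.Agent.Lib.Helper75.Gag

/-- G09 (MEDIUM): two involutions generating a non-2-group: some odd-order `x ≠ 1` is inverted. -/
theorem dihedral_odd {Γ : Type*} [Group Γ] [Finite Γ] (a b : Γ) (ha : a * a = 1) (hb : b * b = 1)
    (h : ¬ IsPGroup 2 (Subgroup.closure ({a, b} : Set Γ))) :
    ∃ x : Γ, x ≠ 1 ∧ Odd (orderOf x) ∧ a * x * a⁻¹ = x⁻¹ := by
  have hai : a⁻¹ = a := inv_eq_of_mul_eq_one_left ha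
  have hbi : b⁻¹ = b := inv_eq_of_mul_eq_one_left hb
  set c : Γ := a * b with hc
  have hcinv : a * c * a⁻¹ = c⁻¹ := by
    rw [hc, mul_inv_rev, hai, hbi, ← mul_assoc, ha, one_mul]
  -- conjugation by `a` inverts `zpowers c`
  have hZ : ∀ z ∈ Subgroup.zpowers c, a * z * a⁻¹ = z⁻¹ := by
    intro z hz
    obtain ⟨i, rfl⟩ := Subgroup.mem_zpowers_iff.1 hz
    rw [← conj_zpow, hcinv, inv_zpow]
  obtain ⟨k, m, hm, hkm⟩ := Nat.exists_eq_two_pow_mul_odd (orderOf_pos c).ne'
  have hxZ : c ^ (2 ^ k) ∈ Subgroup.zpowers c := Subgroup.pow_mem _ (Subgroup.mem_zpowers c) _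
  have hxm : (c ^ (2 ^ k)) ^ m = 1 := by
    rw [← pow_mul, ← hkm, pow_orderOf_eq_one]
  have hodd : Odd (orderOf (c ^ (2 ^ k))) := Odd.of_dvd_nat hm (orderOf_dvd_of_pow_eq_one hxm)
  by_cases hx1 : c ^ (2 ^ k) = 1
  · exfalso
    apply h
    -- the explicit subgroup
    let D0 : Subgroup Γ :=
      { carrier := {g | g ∈ Subgroup.zpowers c ∨ g * a ∈ Subgroup.zpowers c}
        mul_mem' := by
          intro g g' hg hg'
          rcases hg with hg | hg <;> rcases hg' with hg' | hg'
          · exact Or.inl (Subgroup.mul_mem _ hg hg')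
          · refine Or.inr ?_
            rw [mul_assoc]
            exact Subgroup.mul_mem _ hg hg'
          · refine Or.inr ?_
            have e : g * g' * a = (g * a) * (a⁻¹ * g' * a) := by group
            rw [e]
            refine Subgroup.mul_mem _ hg ?_
            have e2 : a⁻¹ * g' * a = g'⁻¹ := by
              have := hZ g' hg'
              rw [hai] at this ⊢
              exact this
            rw [e2]
            exact Subgroup.inv_mem _ hg'
          · refine Or.inl ?_
            have e : g * g' = (g * a) * (a⁻¹ * (g' * a) * a) * (a⁻¹ * a⁻¹) := by group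
            have e2 : a⁻¹ * (g' * a) * a = (g' * a)⁻¹ := by
              have := hZ (g' * a) hg'
              rw [hai] at this ⊢
              exact this
            have e3 : a⁻¹ * a⁻¹ = 1 := by rw [hai, ha]
            rw [e, e2, e3, mul_one]
            exact Subgroup.mul_mem _ hg (Subgroup.inv_mem _ hg')
        one_mem' := Or.inl (Subgroup.one_mem _)
        inv_mem' := by
          intro g hg
          rcases hg with hg | hg
          · exact Or.inl (Subgroup.inv_mem _ hg)
          · refine Or.inr ?_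
            have e : g⁻¹ * a = a * (g * a)⁻¹ * a⁻¹ * (a * a) := by group
            rw [e, ha, mul_one, hZ _ (Subgroup.inv_mem _ hg), inv_inv]
            exact hg }
    have hle : Subgroup.closure ({a, b} : Set Γ) ≤ D0 := by
      rw [Subgroup.closure_le]
      intro g hg
      rcases hg with rfl | hg
      · refine Or.inr ?_
        rw [ha]; exact Subgroup.one_mem _
      · rw [Set.mem_singleton_iff] at hg
        subst hg
        refine Or.inr ?_
        have : g * a = c⁻¹ := by rw [hc, mul_inv_rev, hai, hbi]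
        rw [this]
        exact Subgroup.inv_mem _ (Subgroup.mem_zpowers c)
    intro ⟨g, hg⟩
    refine ⟨k + 1, Subtype.ext ?_⟩
    rw [Subgroup.coe_pow, Subgroup.coe_one]
    show g ^ 2 ^ (k + 1) = 1
    rcases hle hg with hgZ | hgZ
    · obtain ⟨i, rfl⟩ := Subgroup.mem_zpowers_iff.1 hgZ
      have : (c ^ i) ^ (2 ^ k) = 1 := by
        rw [← zpow_natCast, ← zpow_mul, mul_comm, zpow_mul, zpow_natCast, hx1, one_zpow]
      rw [pow_succ, pow_mul, this, one_pow]
    · have e : g * g = (g * a) * (a⁻¹ * (g * a) * a) * (a⁻¹ * a⁻¹) := by group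
      have e2 : a⁻¹ * (g * a) * a = (g * a)⁻¹ := by
        have := hZ (g * a) hgZ
        rw [hai] at this ⊢
        exact this
      have e3 : a⁻¹ * a⁻¹ = 1 := by rw [hai, ha]
      have hgg : g ^ 2 = 1 := by
        rw [pow_two, e, e2, e3, mul_one, mul_inv_cancel]
      rw [pow_succ', pow_mul, hgg, one_pow]
  · exact ⟨c ^ (2 ^ k), hx1, hodd, hZ _ hxZ⟩

end Cfsg.Agent.Lib.Helper75.Gag
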