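import Mathlib
import Cfsg.Agent.Lib.Helper75.EnumPrinciple

set_option autoImplicit false

namespace Cfsg.Agent.Lib.Helper75.SubCount

theorem dvd_card_of_forall_dvd_index {P X : Type*} [Group P] [MulAction P X] [Finite X] (m : ℕ)
    (h : ∀ x : X, m ∣ (MulAction.stabilizer P x).index) : m ∣ Nat.card X := by
  classical
  have : Fintype (MulAction.orbitRel.Quotient P X) := Fintype.ofFinite _
  rw [Nat.card_congr (MulAction.selfEquivSigmaOrbits P X), Nat.card_sigma]
  apply Finset.dvd_sum
  intro ω _
  rw [Nat.card_coe_set_eq, ← MulAction.index_stabilizer]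
  exact h _

/-- Orbit counting modulo `p ^ 2` for a `p`-group acting without fixed points. -/
theorem card_modEq_sum_fixed {P : Type*} [Group P] [Finite P] {Y : Type*} [MulAction P Y] [Finite Y]
    {p : ℕ} [hp : Fact p.Prime] (hP : IsPGroup p P) (hfix : ∀ y : Y, ∃ g : P, g • y ≠ y) :
    Nat.card Y ≡ ∑ᶠ M : {M : Subgroup P // M.index = p},
      Nat.card {y : Y // ∀ g ∈ M.1, g • y = y} [MOD p ^ 2] := by
  classical
  have hpp : p.Prime := hp.out
  have : Fintype {M : Subgroup P // M.index = p} := Fintype.ofFinite _
  rw [finsum_eq_sum_of_fintype]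
  -- index of each stabilizer is a power of p, not 1
  have hidx : ∀ y : Y, ∃ k, 1 ≤ k ∧ (MulAction.stabilizer P y).index = p ^ k := by
    intro y
    obtain ⟨n, hn⟩ := hP.exists_card_eq
    have : (MulAction.stabilizer P y).index ∣ p ^ n := hn ▸ Subgroup.index_dvd_card _
    obtain ⟨k, _, hk⟩ := (Nat.dvd_prime_pow hpp).mp this
    refine ⟨k, ?_, hk⟩
    by_contra h0
    have hk0 : k = 0 := by omega
    rw [hk0, pow_zero, Subgroup.index_eq_one] at hk
    obtain ⟨g, hg⟩ := hfix y
    apply hg
    have : g ∈ MulAction.stabilizer P y := by rw [hk]; exact Subgroup.mem_top g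
    exact this
  -- the invariant subset of points with large orbits
  let S : SubMulAction P Y :=
    { carrier := {y | ¬ (MulAction.stabilizer P y).index = p}
      smul_mem' := by
        intro g y hy
        show ¬ (MulAction.stabilizer P (g • y)).index = p
        rw [MulAction.stabilizer_smul_eq_stabilizer_map_conj]
        have := Subgroup.index_map_equiv (MulAction.stabilizer P y) (MulAut.conj g)
        rw [MulEquiv.toMonoidHom_eq_coe, this]
        exact hy }
  have hS : p ^ 2 ∣ Nat.card S := by
    apply dvd_card_of_forall_dvd_index (P := P)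
    intro y
    rw [SubMulAction.stabilizer_of_subMul]
    obtain ⟨k, hk1, hk⟩ := hidx (y : Y)
    rw [hk]
    have hk2 : k ≠ 1 := by
      intro h
      rw [h, pow_one] at hk
      exact y.2 hk
    exact pow_dvd_pow p (by omega)
  have hsplit : Nat.card Y = Nat.card {y : Y // (MulAction.stabilizer P y).index = p} + Nat.card S := by
    have e := Equiv.sumCompl (fun y : Y => (MulAction.stabilizer P y).index = p)
    have h := Nat.card_congr e
    rw [Nat.card_sum] at h
    exact h.symm
  -- fibres
  let f : {y : Y // (MulAction.stabilizer P y).index = p} → {M : Subgroup P // M.index = p} :=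
    fun y => ⟨MulAction.stabilizer P y.1, y.2⟩
  have hfib : ∀ M : {M : Subgroup P // M.index = p},
      Nat.card {y : {y : Y // (MulAction.stabilizer P y).index = p} // f y = M} =
        Nat.card {y : Y // ∀ g ∈ M.1, g • y = y} := by
    intro M
    apply Nat.card_congr
    exact
      { toFun := fun y => ⟨y.1.1, by
          intro g hg
          have h := congrArg Subtype.val y.2
          simp only [f] at h
          rw [← h] at hg
          exact hg⟩
        invFun := fun y => by
          have hle : M.1 ≤ MulAction.stabilizer P y.1 := fun g hg => y.2 g hg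
          have hne : MulAction.stabilizer P y.1 ≠ ⊤ := by
            intro h
            obtain ⟨g, hg⟩ := hfix y.1
            apply hg
            have : g ∈ MulAction.stabilizer P y.1 := by rw [h]; exact Subgroup.mem_top g
            exact this
          have hco := isCoatom_of_index_prime hpp M.1 M.2
          have heq : MulAction.stabilizer P y.1 = M.1 := by
            by_contra hcon
            exact hne (hco.2 _ (lt_of_le_of_ne hle (Ne.symm hcon)))
          exact ⟨⟨y.1, by rw [heq]; exact M.2⟩, Subtype.ext heq⟩
        left_inv := fun y => rfl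
        right_inv := fun y => rfl }
  have h1 : Nat.card {y : Y // (MulAction.stabilizer P y).index = p} =
      ∑ M : {M : Subgroup P // M.index = p}, Nat.card {y : Y // ∀ g ∈ M.1, g • y = y} := by
    rw [Nat.card_congr (Equiv.sigmaFiberEquiv f).symm, Nat.card_sigma]
    apply Finset.sum_congr rfl
    intro M _
    exact hfib M
  rw [hsplit, h1]
  obtain ⟨t, ht⟩ := hS
  rw [ht]
  unfold Nat.ModEq
  exact Nat.add_mul_mod_self_left _ _ _

end Cfsg.Agent.Lib.Helper75.SubCount
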