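import Mathlib
import Cfsg.Agent.Lib.Helper75.OrbitModSq
import Cfsg.Agent.Lib.Helper75.Kulakoff

set_option autoImplicit false

namespace Cfsg.Agent.Lib.Helper75.SubCount

open scoped Pointwise

variable {G : Type*} [Group G]

theorem conj_smul_eq_self_iff (g : G) (H : Subgroup G) :
    MulAut.conj g • H = H ↔ g ∈ Subgroup.normalizer (H : Set G) := by
  rw [Subgroup.mem_normalizer_iff'']
  constructor
  · intro h x
    rw [← h, Subgroup.mem_pointwise_smul_iff_inv_smul_mem, h]
    simp [MulAut.smul_def]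
  · intro h
    ext x
    rw [Subgroup.mem_pointwise_smul_iff_inv_smul_mem]
    have := (h x).symm
    simpa [MulAut.smul_def] using this

theorem card_conj_smul (g : G) (H : Subgroup G) :
    Nat.card (MulAut.conj g • H : Subgroup G) = Nat.card H := by
  rw [Subgroup.pointwise_smul_def]
  exact Subgroup.card_map_of_injective (MulAction.injective (MulAut.conj g))

theorem normalizer_conj_smul (g : G) (H : Subgroup G) :
    Subgroup.normalizer ((MulAut.conj g • H : Subgroup G) : Set G) =
      MulAut.conj g • Subgroup.normalizer (H : Set G) := by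
  ext x
  rw [← conj_smul_eq_self_iff, Subgroup.mem_pointwise_smul_iff_inv_smul_mem,
    ← conj_smul_eq_self_iff]
  have h1 : (MulAut.conj g)⁻¹ • x = g⁻¹ * x * g := by simp [MulAut.smul_def]
  rw [h1]
  have h2 : MulAut.conj (g⁻¹ * x * g) = (MulAut.conj g)⁻¹ * MulAut.conj x * MulAut.conj g := by
    rw [map_mul, map_mul, map_inv]
  rw [h2, mul_smul, mul_smul]
  constructor
  · intro h
    rw [h, inv_smul_smul]
  · intro h
    have := congrArg (fun K => MulAut.conj g • K) h
    simpa using this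

/-- The conjugation action of a subgroup `P` on a `P`-invariant family of subgroups. -/
@[reducible] noncomputable def conjMulAction (P : Subgroup G) (Pr : Subgroup G → Prop)
    (hPr : ∀ g ∈ P, ∀ H, Pr H → Pr (MulAut.conj g • H)) :
    MulAction ↥P {H : Subgroup G // Pr H} where
  smul g H := ⟨MulAut.conj (g : G) • H.1, hPr g g.2 H.1 H.2⟩
  one_smul H := Subtype.ext (by
    show MulAut.conj ((1 : ↥P) : G) • H.1 = H.1
    rw [Subgroup.coe_one, map_one, one_smul])
  mul_smul g h H := Subtype.ext (by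
    show MulAut.conj ((g * h : ↥P) : G) • H.1 = MulAut.conj (g : G) • (MulAut.conj (h : G) • H.1)
    rw [Subgroup.coe_mul, map_mul, mul_smul])

theorem conjMulAction_smul_val (P : Subgroup G) (Pr : Subgroup G → Prop)
    (hPr : ∀ g ∈ P, ∀ H, Pr H → Pr (MulAut.conj g • H)) (g : ↥P) (H : {H : Subgroup G // Pr H}) :
    (letI := conjMulAction P Pr hPr; (g • H).1) = MulAut.conj (g : G) • H.1 := rfl

/-- fixed by `g` iff `g` normalizes. -/
theorem conjMulAction_smul_eq_iff (P : Subgroup G) (Pr : Subgroup G → Prop)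
    (hPr : ∀ g ∈ P, ∀ H, Pr H → Pr (MulAut.conj g • H)) (g : ↥P) (H : {H : Subgroup G // Pr H}) :
    (letI := conjMulAction P Pr hPr; g • H = H) ↔ (g : G) ∈ Subgroup.normalizer (H.1 : Set G) := by
  rw [← conj_smul_eq_self_iff]
  constructor
  · intro h
    exact congrArg Subtype.val h
  · intro h
    exact Subtype.ext h

theorem le_normalizer_of_index_p [Finite G] {p : ℕ} [hp : Fact p.Prime] (Q M : Subgroup G) (m : ℕ)
    (hm : 1 ≤ m) (hQ : Nat.card Q = p ^ m) (hM : Nat.card M = p ^ (m - 1)) (hle : M ≤ Q) :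
    Q ≤ Subgroup.normalizer (M : Set G) := by
  have hpp : p.Prime := hp.out
  rw [← Subgroup.normal_subgroupOf_iff_le_normalizer hle]
  apply Subgroup.normal_of_index_eq_minFac_card
  rw [hQ, hpp.pow_minFac (by omega)]
  have h1 := (M.subgroupOf Q).card_mul_index
  rw [Nat.card_congr (Subgroup.subgroupOfEquivOfLe hle).toEquiv, hQ, hM] at h1
  have h2 : p ^ m = p ^ (m - 1) * p := by rw [← pow_succ]; congr 1; omega
  rw [h2] at h1
  exact Nat.eq_of_mul_eq_mul_left (pow_pos hpp.pos _) h1

theorem sup_eq_of_not_le [Finite G] {p : ℕ} [hp : Fact p.Prime] (Q M H : Subgroup G) (m : ℕ)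
    (hm : 1 ≤ m) (hQ : Nat.card Q = p ^ m) (hM : Nat.card M = p ^ (m - 1)) (hle : M ≤ Q)
    (hH : H ≤ Q) (hHM : ¬ H ≤ M) : H ⊔ M = Q := by
  have hpp : p.Prime := hp.out
  have hS : H ⊔ M ≤ Q := sup_le hH hle
  have h1 : Nat.card (H ⊔ M : Subgroup G) ∣ p ^ m := hQ ▸ Subgroup.card_dvd_of_le hS
  obtain ⟨k, hk, hkc⟩ := (Nat.dvd_prime_pow hpp).mp h1
  have h2 : p ^ (m - 1) ∣ p ^ k := by
    rw [← hM, ← hkc]; exact Subgroup.card_dvd_of_le le_sup_right
  have h3 : m - 1 ≤ k := (Nat.pow_dvd_pow_iff_le_right hpp.one_lt).mp h2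
  have hk' : k = m := by
    by_contra hne
    have hk1 : k = m - 1 := by omega
    apply hHM
    have : M = H ⊔ M := by
      apply Subgroup.eq_of_le_of_card_ge le_sup_right
      rw [hkc, hM, hk1]
    rw [this]; exact le_sup_left
  apply Subgroup.eq_of_le_of_card_ge hS
  rw [hQ, hkc, hk']

end Cfsg.Agent.Lib.Helper75.SubCount
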