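import Mathlib
import Cfsg.Agent.Lib.Helper75.HallCount

set_option autoImplicit false

namespace Cfsg.Agent.Lib.Helper75.SubCount

open scoped Pointwise

variable {G : Type*} [Group G]

/-- the family of normal subgroups of `Q` of order `p ^ a` not inside `M`. -/
def VSet (p a : ℕ) (M Q : Subgroup G) : Type _ :=
  {H : Subgroup G // Nat.card H = p ^ a ∧ H ≤ Q ∧ Q ≤ Subgroup.normalizer (H : Set G) ∧ ¬ H ≤ M}

theorem card_VSet_conj (p a : ℕ) (M Q : Subgroup G) (g : G) :
    Nat.card (VSet p a (MulAut.conj g • M) (MulAut.conj g • Q)) = Nat.card (VSet p a M Q) := by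
  symm
  apply Nat.card_congr
  unfold VSet
  refine Equiv.subtypeEquiv (MulAction.toPerm (MulAut.conj g) : Equiv.Perm (Subgroup G)) ?_
  intro H
  rw [MulAction.toPerm_apply, card_conj_smul, Subgroup.pointwise_smul_le_pointwise_smul_iff,
    normalizer_conj_smul, Subgroup.pointwise_smul_le_pointwise_smul_iff,
    Subgroup.pointwise_smul_le_pointwise_smul_iff]

variable [Finite G] {p : ℕ} [hp : Fact p.Prime]

theorem card_VSet_sylow (a m : ℕ) (hm : 1 ≤ m) (M : Subgroup G) (P Q : Sylow p G)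
    (hPc : Nat.card P = p ^ m) (hMc : Nat.card M = p ^ (m - 1))
    (hMP : M ≤ P) (hMQ : M ≤ Q) :
    Nat.card (VSet p a M (Q : Subgroup G)) = Nat.card (VSet p a M (P : Subgroup G)) := by
  have hQc : Nat.card Q = p ^ m := by
    rw [Q.card_eq_multiplicity, ← P.card_eq_multiplicity, hPc]
  have hP : (P : Subgroup G) ≤ Subgroup.normalizer (M : Set G) :=
    le_normalizer_of_index_p _ M m hm hPc hMc hMP
  have hQ : (Q : Subgroup G) ≤ Subgroup.normalizer (M : Set G) :=
    le_normalizer_of_index_p _ M m hm hQc hMc hMQ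
  obtain ⟨n, hn⟩ := MulAction.exists_smul_eq ↥(Subgroup.normalizer (M : Set G))
    (P.subtype hP) (Q.subtype hQ)
  rw [Sylow.smul_subtype] at hn
  have h1 : n • P = Q := Sylow.subtype_injective hn
  have h2 : MulAut.conj (n : G) • (P : Subgroup G) = (Q : Subgroup G) := by
    rw [← h1]; rfl
  have h3 : MulAut.conj (n : G) • M = M := (conj_smul_eq_self_iff _ _).mpr n.2
  have := card_VSet_conj p a M (P : Subgroup G) (n : G)
  rw [h2, h3] at this
  exact this

theorem card_sylow_ge_ne_modEq_zero (M : Subgroup G) (hM : IsPGroup p M) (P : Sylow p G)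
    (hMP : M ≤ P) : Nat.card {Q : Sylow p G // M ≤ Q ∧ Q ≠ P} ≡ 0 [MOD p] := by
  have h1 : Nat.card {Q : Sylow p G // M ≤ Q} ≡ 1 [MOD p] := by
    have e : {Q : Sylow p G // M ≤ Q} ≃ ↥(MulAction.fixedPoints ↥M (Sylow p G)) :=
      Equiv.subtypeEquivRight (fun Q => (hM.sylow_mem_fixedPoints_iff).symm)
    rw [Nat.card_congr e]
    exact ((hM.card_modEq_card_fixedPoints (Sylow p G)).symm).trans (card_sylow_modEq_one p G)
  have hsplit := card_split (fun Q : Sylow p G => M ≤ Q) (fun Q => Q = P)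
  have h2 : Nat.card {Q : Sylow p G // M ≤ Q ∧ Q = P} = 1 := by
    rw [Nat.card_eq_one_iff_exists]
    refine ⟨⟨P, hMP, rfl⟩, ?_⟩
    rintro ⟨Q, _, hQ⟩
    exact Subtype.ext hQ
  rw [hsplit, h2] at h1
  have h3 : 1 + Nat.card {Q : Sylow p G // M ≤ Q ∧ ¬ Q = P} ≡ 1 + 0 [MOD p] := h1
  exact Nat.ModEq.add_left_cancel' 1 h3

theorem card_VSet_modEq_zero (a m : ℕ) (ha : a < m) (M : Subgroup G) (P : Sylow p G)
    (hPc : Nat.card P = p ^ m) (hMc : Nat.card M = p ^ (m - 1)) (hMP : M ≤ P) :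
    Nat.card (VSet p a M (P : Subgroup G)) ≡ 0 [MOD p] := by
  have hpp : p.Prime := hp.out
  have hPn : (P : Subgroup G) ≤ Subgroup.normalizer (M : Set G) :=
    le_normalizer_of_index_p _ M m (by omega) hPc hMc hMP
  -- the P-set X₁
  let Pr : Subgroup G → Prop := fun H => Nat.card H = p ^ a ∧ H ≤ (P : Subgroup G) ∧ ¬ H ≤ M
  have hinv : ∀ g ∈ (P : Subgroup G), ∀ H, Pr H → Pr (MulAut.conj g • H) := by
    intro g hg H hH
    refine ⟨by rw [card_conj_smul]; exact hH.1, ?_, ?_⟩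
    · have := Subgroup.conj_smul_eq_self_of_mem hg
      rw [← this, Subgroup.pointwise_smul_le_pointwise_smul_iff]
      exact hH.2.1
    · have := (conj_smul_eq_self_iff g M).mpr (hPn hg)
      rw [← this, Subgroup.pointwise_smul_le_pointwise_smul_iff]
      exact hH.2.2
  letI : MulAction ↥(P : Subgroup G) {H : Subgroup G // Pr H} := conjMulAction _ Pr hinv
  have h1 := P.2.card_modEq_card_fixedPoints {H : Subgroup G // Pr H}
  -- fixed points
  have e : ↥(MulAction.fixedPoints ↥(P : Subgroup G) {H : Subgroup G // Pr H}) ≃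
      VSet p a M (P : Subgroup G) :=
    { toFun := fun H => ⟨H.1.1, H.1.2.1, H.1.2.2.1, by
          intro g hg
          have := H.2 ⟨g, hg⟩
          exact (conjMulAction_smul_eq_iff _ Pr hinv ⟨g, hg⟩ H.1).mp this, H.1.2.2.2⟩
      invFun := fun H => ⟨⟨H.1, H.2.1, H.2.2.1, H.2.2.2.2⟩, by
          intro g
          exact (conjMulAction_smul_eq_iff _ Pr hinv g _).mpr (H.2.2.2.1 g.2)⟩
      left_inv := fun H => rfl
      right_inv := fun H => rfl }
  rw [← Nat.card_congr e]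
  refine h1.symm.trans ?_
  -- count X₁
  have hsplit := card_split (fun H : Subgroup G => Nat.card H = p ^ a ∧ H ≤ (P : Subgroup G))
    (fun H => H ≤ M)
  have hP1 : Nat.card {H : Subgroup G // Nat.card H = p ^ a ∧ H ≤ (P : Subgroup G)} ≡ 1 [MOD p] := by
    have e1 : {H : Subgroup G // Nat.card H = p ^ a ∧ H ≤ (P : Subgroup G)} ≃
        {H : Subgroup G // H ≤ (P : Subgroup G) ∧ Nat.card H = p ^ a} :=
      Equiv.subtypeEquivRight (fun H => and_comm)
    rw [Nat.card_congr e1, card_below_eq]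
    apply Cfsg.Agent.Lib.Helper71.card_subgroups_modEq_one
    rw [hPc]; exact pow_dvd_pow p ha.le
  have hM1 : Nat.card {H : Subgroup G // (Nat.card H = p ^ a ∧ H ≤ (P : Subgroup G)) ∧ H ≤ M}
      ≡ 1 [MOD p] := by
    have e1 : {H : Subgroup G // (Nat.card H = p ^ a ∧ H ≤ (P : Subgroup G)) ∧ H ≤ M} ≃
        {H : Subgroup G // H ≤ M ∧ Nat.card H = p ^ a} :=
      Equiv.subtypeEquivRight (fun H => by
        constructor
        · rintro ⟨⟨h1, _⟩, h3⟩; exact ⟨h3, h1⟩
        · rintro ⟨h3, h1⟩; exact ⟨⟨h1, h3.trans hMP⟩, h3⟩)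
    rw [Nat.card_congr e1, card_below_eq]
    apply Cfsg.Agent.Lib.Helper71.card_subgroups_modEq_one
    rw [hMc]; exact pow_dvd_pow p (by omega)
  have e2 : {H : Subgroup G // Pr H} ≃
      {H : Subgroup G // (Nat.card H = p ^ a ∧ H ≤ (P : Subgroup G)) ∧ ¬ H ≤ M} :=
    Equiv.subtypeEquivRight (fun H => by
      constructor
      · rintro ⟨h1, h2, h3⟩; exact ⟨⟨h1, h2⟩, h3⟩
      · rintro ⟨⟨h1, h2⟩, h3⟩; exact ⟨h1, h2, h3⟩)
  rw [Nat.card_congr e2]
  rw [hsplit] at hP1
  have h3 : 1 + Nat.card {H : Subgroup G // (Nat.card H = p ^ a ∧ H ≤ (P : Subgroup G)) ∧ ¬ H ≤ M}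
      ≡ 1 + 0 [MOD p] := (Nat.ModEq.add_right _ hM1.symm).trans hP1
  exact Nat.ModEq.add_left_cancel' 1 h3

end Cfsg.Agent.Lib.Helper75.SubCount
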