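import Mathlib
import Cfsg.Agent.Lib.Helper75.HallCount2

set_option autoImplicit false

namespace Cfsg.Agent.Lib.Helper75.SubCount

open scoped Pointwise

variable {G : Type*} [Group G] [Finite G] {p : ℕ} [hp : Fact p.Prime]

/-- Subgroups of order `p ^ a` normalized by a maximal subgroup `M` of the Sylow subgroup `P`, but
not contained in `P`: their number is divisible by `p ^ 2`. -/
theorem card_normalized_not_le_modEq_zero (a m : ℕ) (ha : a < m) (M : Subgroup G) (P : Sylow p G)
    (hPc : Nat.card P = p ^ m) (hMc : Nat.card M = p ^ (m - 1)) (hMP : M ≤ P) :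
    Nat.card {H : Subgroup G // Nat.card H = p ^ a ∧ ¬ H ≤ (P : Subgroup G) ∧
      M ≤ Subgroup.normalizer (H : Set G)} ≡ 0 [MOD p ^ 2] := by
  classical
  have hpp : p.Prime := hp.out
  have hm : 1 ≤ m := by omega
  have hMp : IsPGroup p M := IsPGroup.of_card hMc
  have hfact : (Nat.card G).factorization p = m := by
    have := P.card_eq_multiplicity
    rw [hPc] at this
    exact (Nat.pow_right_injective hpp.two_le this).symm
  let W := {H : Subgroup G // Nat.card H = p ^ a ∧ ¬ H ≤ (P : Subgroup G) ∧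
      M ≤ Subgroup.normalizer (H : Set G)}
  let 𝔜 := {Q : Sylow p G // M ≤ Q ∧ Q ≠ P}
  -- the join with M is a Sylow subgroup
  have hsup : ∀ H : W, ∃ Q : Sylow p G, H.1 ⊔ M = (Q : Subgroup G) := by
    intro H
    have hHp : IsPGroup p H.1 := IsPGroup.of_card H.2.1
    have hS : IsPGroup p (H.1 ⊔ M : Subgroup G) := hHp.to_sup_of_normal_left' hMp H.2.2.2
    obtain ⟨Q, hQ⟩ := hS.exists_le_sylow
    refine ⟨Q, ?_⟩
    have hQc : Nat.card Q = p ^ m := by rw [Q.card_eq_multiplicity, hfact]
    apply sup_eq_of_not_le (Q : Subgroup G) M H.1 m hm hQc hMc (le_sup_right.trans hQ)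
      (le_sup_left.trans hQ)
    intro h
    exact H.2.2.1 (h.trans hMP)
  have hsupc : ∀ H : W, Nat.card (H.1 ⊔ M : Subgroup G) = p ^ (Nat.card G).factorization p := by
    intro H
    obtain ⟨Q, hQ⟩ := hsup H
    rw [hQ, Q.card_eq_multiplicity]
  let φ : W → 𝔜 := fun H => ⟨Sylow.ofCard (H.1 ⊔ M) (hsupc H), by
      show M ≤ H.1 ⊔ M
      exact le_sup_right, by
      intro h
      have h1 : H.1 ⊔ M = (P : Subgroup G) :=
        congrArg (fun Q : Sylow p G => (Q : Subgroup G)) h
      exact H.2.2.1 (le_sup_left.trans h1.le)⟩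
  have hfib : ∀ Q : 𝔜, Nat.card {H : W // φ H = Q} = Nat.card (VSet p a M (Q.1 : Subgroup G)) := by
    intro Q
    have hQc : Nat.card Q.1 = p ^ m := by rw [Q.1.card_eq_multiplicity, hfact]
    apply Nat.card_congr
    exact
      { toFun := fun H => ⟨H.1.1, H.1.2.1, by
            have h := congrArg (fun Q : 𝔜 => ((Q.1 : Sylow p G) : Subgroup G)) H.2
            have h' : H.1.1 ⊔ M = (Q.1 : Subgroup G) := h
            rw [← h']; exact le_sup_left, by
            have h := congrArg (fun Q : 𝔜 => ((Q.1 : Sylow p G) : Subgroup G)) H.2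
            have h' : H.1.1 ⊔ M = (Q.1 : Subgroup G) := h
            rw [← h']
            exact sup_le Subgroup.le_normalizer H.1.2.2.2, by
            intro h
            exact H.1.2.2.1 (h.trans hMP)⟩
        invFun := fun H => by
          have hsupQ : H.1 ⊔ M = (Q.1 : Subgroup G) :=
            sup_eq_of_not_le (Q.1 : Subgroup G) M H.1 m hm hQc hMc Q.2.1 H.2.2.1 H.2.2.2.2
          have hnP : ¬ H.1 ≤ (P : Subgroup G) := by
            intro h
            apply Q.2.2
            have hle : (Q.1 : Subgroup G) ≤ (P : Subgroup G) := by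
              rw [← hsupQ]; exact sup_le h hMP
            apply Sylow.ext
            apply Subgroup.eq_of_le_of_card_ge hle
            rw [hPc, hQc]
          exact ⟨⟨H.1, H.2.1, hnP, Q.2.1.trans H.2.2.2.1⟩, by
            apply Subtype.ext
            apply Sylow.ext
            exact hsupQ⟩
        left_inv := fun H => rfl
        right_inv := fun H => rfl }
  have ht : ∀ Q : 𝔜, Nat.card (VSet p a M (Q.1 : Subgroup G)) =
      Nat.card (VSet p a M (P : Subgroup G)) := by
    intro Q
    exact card_VSet_sylow a m hm M P Q.1 hPc hMc hMP Q.2.1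
  have h1 : Nat.card W = Nat.card 𝔜 * Nat.card (VSet p a M (P : Subgroup G)) := by
    have : Fintype 𝔜 := Fintype.ofFinite _
    rw [Nat.card_congr (Equiv.sigmaFiberEquiv φ).symm, Nat.card_sigma]
    simp only [hfib, ht]
    rw [Finset.sum_const, Finset.card_univ, smul_eq_mul, ← Nat.card_eq_fintype_card]
  have h2 : Nat.card 𝔜 ≡ 0 [MOD p] := card_sylow_ge_ne_modEq_zero M hMp P hMP
  have h3 : Nat.card (VSet p a M (P : Subgroup G)) ≡ 0 [MOD p] :=
    card_VSet_modEq_zero a m ha M P hPc hMc hMP
  show Nat.card W ≡ 0 [MOD p ^ 2]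
  rw [h1]
  obtain ⟨u, hu⟩ := (Nat.modEq_zero_iff_dvd).mp h2
  obtain ⟨v, hv⟩ := (Nat.modEq_zero_iff_dvd).mp h3
  rw [hu, hv]
  apply (Nat.modEq_zero_iff_dvd).mpr
  exact ⟨u * v, by ring⟩

/-- **P. Hall's reduction**: the number of subgroups of order `p ^ a` of `G` is congruent modulo
`p ^ 2` to the number of those in a Sylow `p`-subgroup, if `p ^ (a + 1)` divides `|G|`. -/
theorem hall_reduction (a m : ℕ) (ha : a < m) (P : Sylow p G) (hPc : Nat.card P = p ^ m) :
    sN p a G ≡ sN p a ↥(P : Subgroup G) [MOD p ^ 2] := by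
  classical
  have hpp : p.Prime := hp.out
  have hsplit := card_split (fun H : Subgroup G => Nat.card H = p ^ a)
    (fun H => H ≤ (P : Subgroup G))
  have h1 : Nat.card {H : Subgroup G // Nat.card H = p ^ a ∧ H ≤ (P : Subgroup G)} =
      sN p a ↥(P : Subgroup G) := by
    rw [← card_below_eq]
    exact Nat.card_congr (Equiv.subtypeEquivRight (fun H => and_comm))
  unfold sN at h1 ⊢
  rw [hsplit, h1]
  suffices h : Nat.card {H : Subgroup G // Nat.card H = p ^ a ∧ ¬ H ≤ (P : Subgroup G)} ≡ 0
      [MOD p ^ 2] by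
    exact Nat.ModEq.add_left _ h
  -- the action
  let Pr : Subgroup G → Prop := fun H => Nat.card H = p ^ a ∧ ¬ H ≤ (P : Subgroup G)
  have hinv : ∀ g ∈ (P : Subgroup G), ∀ H, Pr H → Pr (MulAut.conj g • H) := by
    intro g hg H hH
    refine ⟨by rw [card_conj_smul]; exact hH.1, ?_⟩
    have := Subgroup.conj_smul_eq_self_of_mem hg
    rw [← this, Subgroup.pointwise_smul_le_pointwise_smul_iff]
    exact hH.2
  letI : MulAction ↥(P : Subgroup G) {H : Subgroup G // Pr H} := conjMulAction _ Pr hinv
  have hfix : ∀ y : {H : Subgroup G // Pr H}, ∃ g : ↥(P : Subgroup G), g • y ≠ y := by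
    intro y
    by_contra hcon
    rw [not_exists] at hcon
    apply y.2.2
    have hn : (P : Subgroup G) ≤ Subgroup.normalizer (y.1 : Set G) := by
      intro g hg
      have := not_not.mp (hcon ⟨g, hg⟩)
      exact (conjMulAction_smul_eq_iff _ Pr hinv ⟨g, hg⟩ y).mp this
    have hyp : IsPGroup p y.1 := IsPGroup.of_card y.2.1
    have hS : IsPGroup p (y.1 ⊔ (P : Subgroup G) : Subgroup G) :=
      hyp.to_sup_of_normal_left' P.2 hn
    have := P.is_maximal' hS le_sup_right
    rw [← this]; exact le_sup_left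
  have hO := card_modEq_sum_fixed (P := ↥(P : Subgroup G)) (Y := {H : Subgroup G // Pr H}) P.2 hfix
  refine hO.trans ?_
  have : Fintype {M : Subgroup ↥(P : Subgroup G) // M.index = p} := Fintype.ofFinite _
  rw [finsum_eq_sum_of_fintype]
  have hz : ∀ M : {M : Subgroup ↥(P : Subgroup G) // M.index = p},
      Nat.card {y : {H : Subgroup G // Pr H} // ∀ g ∈ M.1, g • y = y} ≡ 0 [MOD p ^ 2] := by
    intro M
    set M₀ : Subgroup G := M.1.map (P : Subgroup G).subtype with hM₀
    have hM₀P : M₀ ≤ (P : Subgroup G) := Subgroup.map_subtype_le _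
    have hM₀c : Nat.card M₀ = p ^ (m - 1) := by
      rw [hM₀, Subgroup.card_map_of_injective (Subgroup.subtype_injective _)]
      have h1 := M.1.card_mul_index
      rw [M.2, hPc] at h1
      have h2 : p ^ m = p ^ (m - 1) * p := by rw [← pow_succ]; congr 1; omega
      rw [h2] at h1
      exact Nat.eq_of_mul_eq_mul_right hpp.pos h1
    have e : {y : {H : Subgroup G // Pr H} // ∀ g ∈ M.1, g • y = y} ≃
        {H : Subgroup G // Nat.card H = p ^ a ∧ ¬ H ≤ (P : Subgroup G) ∧
          M₀ ≤ Subgroup.normalizer (H : Set G)} :=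
      { toFun := fun y => ⟨y.1.1, y.1.2.1, y.1.2.2, by
            rintro _ ⟨g, hg, rfl⟩
            exact (conjMulAction_smul_eq_iff _ Pr hinv g y.1).mp (y.2 g hg)⟩
        invFun := fun H => ⟨⟨H.1, H.2.1, H.2.2.1⟩, by
            intro g hg
            apply (conjMulAction_smul_eq_iff _ Pr hinv g _).mpr
            apply H.2.2.2
            exact ⟨g, hg, rfl⟩⟩
        left_inv := fun y => rfl
        right_inv := fun H => rfl }
    rw [Nat.card_congr e]
    exact card_normalized_not_le_modEq_zero a m ha M₀ P hPc hM₀c hM₀P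
  have := sum_modEq _ _ (p ^ 2) hz
  refine this.trans ?_
  rw [Finset.sum_const_zero]

end Cfsg.Agent.Lib.Helper75.SubCount
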