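import Mathlib
import Cfsg.Agent.Lib.Helper27.FrobReduce

/-!
# Counting conjugacy classes of `2`-elements (for S3895)
-/

set_option autoImplicit false

namespace Cfsg.Agent.Lib.Helper75.TwoClasses

open Cfsg Cfsg.Agent.Lib.Helper41 Cfsg.Agent.Lib.Helper27

section Count

/-- Weighted fibre counting. -/
theorem sum_le_card_of_fibers {α β : Type*} [DecidableEq β] (s : Finset α) (f : α → β)
    (R : Finset β) (w : β → ℕ)
    (h : ∀ c ∈ R, w c ≤ (s.filter (fun a => f a = c)).card) :
    ∑ c ∈ R, w c ≤ s.card := by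
  classical
  have h1 : (s.filter (fun a => f a ∈ R)).card
      = ∑ c ∈ R, ((s.filter (fun a => f a ∈ R)).filter (fun a => f a = c)).card :=
    Finset.card_eq_sum_card_fiberwise (fun a ha => (Finset.mem_filter.mp ha).2)
  have h2 : ∀ c ∈ R, ((s.filter (fun a => f a ∈ R)).filter (fun a => f a = c))
      = s.filter (fun a => f a = c) := by
    intro c hc
    ext a
    simp only [Finset.mem_filter]
    constructor
    · rintro ⟨⟨ha, _⟩, hac⟩; exact ⟨ha, hac⟩
    · rintro ⟨ha, hac⟩; exact ⟨⟨ha, hac ▸ hc⟩, hac⟩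
  calc ∑ c ∈ R, w c ≤ ∑ c ∈ R, (s.filter (fun a => f a = c)).card := Finset.sum_le_sum h
    _ = ∑ c ∈ R, ((s.filter (fun a => f a ∈ R)).filter (fun a => f a = c)).card := by
        apply Finset.sum_congr rfl; intro c hc; rw [h2 c hc]
    _ = (s.filter (fun a => f a ∈ R)).card := h1.symm
    _ ≤ s.card := Finset.card_filter_le _ _

end Count

variable {G : Type*} [Group G]

/-- conjugating three times by an element of odd order which moves `x` gives three distinct
elements. -/
theorem three_distinct {g x : G} (hodd : Odd (orderOf g)) (hx : g * x * g⁻¹ ≠ x) :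
    g ^ 2 * x * (g ^ 2)⁻¹ ≠ x ∧ g ^ 2 * x * (g ^ 2)⁻¹ ≠ g * x * g⁻¹ := by
  constructor
  · intro h
    apply hx
    obtain ⟨j, hj⟩ := hodd
    have hc : Commute (g ^ 2) x := by
      have : g ^ 2 * x = x * g ^ 2 := by
        calc g ^ 2 * x = g ^ 2 * x * (g ^ 2)⁻¹ * g ^ 2 := by group
          _ = x * g ^ 2 := by rw [h]
      exact this
    have hg : (g ^ 2) ^ (j + 1) = g := by
      rw [← pow_mul, show 2 * (j + 1) = orderOf g + 1 by omega, pow_succ, pow_orderOf_eq_one,
        one_mul]
    have hc' : Commute g x := by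
      have := hc.pow_left (j + 1)
      rwa [hg] at this
    calc g * x * g⁻¹ = x * g * g⁻¹ := by rw [hc'.eq]
      _ = x := by group
  · intro h
    apply hx
    have : g⁻¹ * (g ^ 2 * x * (g ^ 2)⁻¹) * g = g⁻¹ * (g * x * g⁻¹) * g := by rw [h]
    have e1 : g⁻¹ * (g ^ 2 * x * (g ^ 2)⁻¹) * g = g * x * g⁻¹ := by group
    have e2 : g⁻¹ * (g * x * g⁻¹) * g = x := by group
    rw [e1, e2] at this
    exact this

/-- The fixed points on a `2`-group `D` of an element of odd order normalizing but not centralizing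
`D` form a subgroup of index at least `4`. -/
theorem four_mul_card_fixed_le [Finite G] {D : Subgroup G} (hD : IsPGroup 2 D) {g : G}
    (hgN : g ∈ Subgroup.normalizer (D : Set G)) (hodd : Odd (orderOf g))
    (hgC : g ∉ Subgroup.centralizer (D : Set G)) :
    4 * Nat.card ↥(D ⊓ Subgroup.centralizer ({g} : Set G)) ≤ Nat.card D := by
  set F : Subgroup G := D ⊓ Subgroup.centralizer ({g} : Set G) with hF
  have hFD : F ≤ D := inf_le_left
  have hmemF : ∀ x, x ∈ F ↔ x ∈ D ∧ g * x = x * g := by
    intro x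
    rw [hF, Subgroup.mem_inf, Subgroup.mem_centralizer_iff]
    constructor
    · rintro ⟨h1, h2⟩; exact ⟨h1, h2 g rfl⟩
    · rintro ⟨h1, h2⟩
      refine ⟨h1, ?_⟩
      intro y hy
      rw [Set.mem_singleton_iff] at hy
      rw [hy]; exact h2
  have hne : F ≠ D := by
    intro h
    apply hgC
    rw [Subgroup.mem_centralizer_iff]
    intro d hd
    have := ((hmemF d).mp (h ▸ hd)).2
    exact this.symm
  obtain ⟨a, ha⟩ := IsPGroup.iff_card.mp hD
  have hdvd : Nat.card F ∣ 2 ^ a := ha ▸ Subgroup.card_dvd_of_le hFD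
  obtain ⟨b, hba, hb⟩ := (Nat.dvd_prime_pow Nat.prime_two).mp hdvd
  have hb1 : b ≠ a := by
    intro h
    apply hne
    apply Subgroup.eq_of_le_of_card_ge hFD
    rw [ha, hb, h]
  have hb2 : b + 1 ≠ a := by
    intro h
    -- index two
    have hrel : F.relIndex D = 2 := by
      have h1 : Nat.card F * F.relIndex D = Nat.card D := by
        have := Subgroup.relIndex_mul_relIndex ⊥ F D bot_le hFD
        rwa [Subgroup.relIndex_bot_left, Subgroup.relIndex_bot_left] at this
      rw [ha, hb, ← h, pow_succ] at h1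
      have h2 : 0 < 2 ^ b := by positivity
      exact Nat.eq_of_mul_eq_mul_left h2 h1
    obtain ⟨d, hdD, hdF⟩ : ∃ d ∈ D, d ∉ F := by
      by_contra hc
      apply hne
      apply le_antisymm hFD
      intro x hx
      by_contra hxF
      exact hc ⟨x, hx, hxF⟩
    have hd'D : g * d * g⁻¹ ∈ D := (Subgroup.mem_normalizer_iff.mp hgN d).mp hdD
    have hd'F : g * d * g⁻¹ ∉ F := by
      intro h1
      have h2 := ((hmemF _).mp h1).2
      apply hdF
      rw [hmemF]
      refine ⟨hdD, ?_⟩
      have h3 : g * d = g * (g * d * g⁻¹) := by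
        calc g * d = g * (g * d * g⁻¹) * g⁻¹ * g := by rw [h2]; group
          _ = g * (g * d * g⁻¹) := by group
      have h4 : d = g * d * g⁻¹ := mul_left_cancel h3
      calc g * d = g * d * g⁻¹ * g := by group
        _ = d * g := by rw [← h4]
    have hfF : d⁻¹ * (g * d * g⁻¹) ∈ F := by
      have hidx : (F.subgroupOf D).index = 2 := hrel
      have := Subgroup.mul_mem_iff_of_index_two hidx (a := (⟨d⁻¹, D.inv_mem hdD⟩ : D))
        (b := (⟨g * d * g⁻¹, hd'D⟩ : D))
      rw [Subgroup.mem_subgroupOf, Subgroup.mem_subgroupOf, Subgroup.mem_subgroupOf] at this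
      apply this.mpr
      constructor
      · intro h1
        exact absurd ((Subgroup.inv_mem_iff F).mp h1) hdF
      · intro h1
        exact absurd h1 hd'F
    set f := d⁻¹ * (g * d * g⁻¹) with hf
    have hfg : g * f = f * g := ((hmemF f).mp hfF).2
    have hgd : g * d * g⁻¹ = d * f := by rw [hf]; group
    have hpow : ∀ k : ℕ, g ^ k * d * (g ^ k)⁻¹ = d * f ^ k := by
      intro k
      induction k with
      | zero => simp
      | succ k ih =>
        have hfk : g * f ^ k * g⁻¹ = f ^ k := by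
          have hc : Commute g (f ^ k) := (show Commute g f from hfg).pow_right k
          calc g * f ^ k * g⁻¹ = f ^ k * g * g⁻¹ := by rw [hc.eq]
            _ = f ^ k := by group
        calc g ^ (k + 1) * d * (g ^ (k + 1))⁻¹ = g * (g ^ k * d * (g ^ k)⁻¹) * g⁻¹ := by
              rw [pow_succ']; group
          _ = g * (d * f ^ k) * g⁻¹ := by rw [ih]
          _ = (g * d * g⁻¹) * (g * f ^ k * g⁻¹) := by group
          _ = d * f * f ^ k := by rw [hgd, hfk]
          _ = d * f ^ (k + 1) := by rw [pow_succ', mul_assoc]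
    have h1 := hpow (orderOf g)
    rw [pow_orderOf_eq_one, one_mul, inv_one, mul_one] at h1
    have hf1 : f ^ orderOf g = 1 := by
      have : d * 1 = d * f ^ orderOf g := by rw [mul_one]; exact h1
      exact (mul_left_cancel this).symm
    have hford : orderOf f ∣ orderOf g := orderOf_dvd_of_pow_eq_one hf1
    obtain ⟨j, hj⟩ := (IsPGroup.iff_orderOf.mp hD) ⟨f, hFD hfF⟩
    rw [Subgroup.orderOf_mk] at hj
    have hj0 : j = 0 := by
      by_contra hj0
      have h2 : 2 ∣ orderOf f := by rw [hj]; exact dvd_pow_self 2 hj0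
      have h3 : 2 ∣ orderOf g := h2.trans hford
      exact (Nat.not_even_iff_odd.mpr hodd) (even_iff_two_dvd.mpr h3)
    rw [hj0, pow_zero, orderOf_eq_one_iff] at hj
    rw [hj, mul_one] at hgd
    apply hdF
    rw [hmemF]
    refine ⟨hdD, ?_⟩
    calc g * d = g * d * g⁻¹ * g := by group
      _ = d * g := by rw [hgd]
  have hle : b + 2 ≤ a := by omega
  rw [ha, hb]
  calc 4 * 2 ^ b = 2 ^ (b + 2) := by ring
    _ ≤ 2 ^ a := Nat.pow_le_pow_right (by norm_num) hle

section Main

variable [Finite G]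

/-- If an element of odd order normalizes but does not centralize a subgroup `D` of the Sylow
`2`-subgroup `P` with `C_P(D) ≤ D`, then at most `|P|/2` classes of `G` meet `P`. -/
theorem two_mul_classes_le (P : Sylow 2 G) {D : Subgroup G} (hDP : D ≤ (P : Subgroup G))
    (hcent : (P : Subgroup G) ⊓ Subgroup.centralizer (D : Set G) ≤ D) {g : G}
    (hgN : g ∈ Subgroup.normalizer (D : Set G)) (hodd : Odd (orderOf g))
    (hgC : g ∉ Subgroup.centralizer (D : Set G)) :
    2 * (ConjClasses.mk '' ((P : Subgroup G) : Set G)).ncard ≤ Nat.card (P : Subgroup G) := by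
  classical
  have : Fintype G := Fintype.ofFinite G
  have hDp : IsPGroup 2 D := P.2.to_le hDP
  set F : Subgroup G := D ⊓ Subgroup.centralizer ({g} : Set G) with hF
  have hFD : F ≤ D := inf_le_left
  have hmemF : ∀ x, x ∈ F ↔ x ∈ D ∧ g * x * g⁻¹ = x := by
    intro x
    rw [hF, Subgroup.mem_inf, Subgroup.mem_centralizer_iff]
    constructor
    · rintro ⟨h1, h2⟩
      refine ⟨h1, ?_⟩
      have := h2 g rfl
      rw [this]; group
    · rintro ⟨h1, h2⟩
      refine ⟨h1, ?_⟩
      intro y hy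
      rw [Set.mem_singleton_iff] at hy
      rw [hy]
      calc g * x = g * x * g⁻¹ * g := by group
        _ = x * g := by rw [h2]
  have h4F := four_mul_card_fixed_le hDp hgN hodd hgC
  set cl : G → ConjClasses G := ConjClasses.mk with hcl
  have hclconj : ∀ (u x : G), cl (u * x * u⁻¹) = cl x := by
    intro u x
    rw [hcl, ConjClasses.mk_eq_mk_iff_isConj, isConj_comm, isConj_iff]
    exact ⟨u, rfl⟩
  set PF : Finset G := Finset.univ.filter (· ∈ (P : Subgroup G)) with hPF
  set DF : Finset G := Finset.univ.filter (· ∈ D) with hDF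
  set FF : Finset G := Finset.univ.filter (· ∈ F) with hFF
  have hPcard : Nat.card (P : Subgroup G) = PF.card := by
    rw [Nat.card_eq_fintype_card, Fintype.card_subtype]
  have hDcard : Nat.card D = DF.card := by
    rw [Nat.card_eq_fintype_card, Fintype.card_subtype]
  have hFcard : Nat.card F = FF.card := by
    rw [Nat.card_eq_fintype_card, Fintype.card_subtype]
  have hconv : (ConjClasses.mk '' ((P : Subgroup G) : Set G)).ncard = (PF.image cl).card := by
    rw [← Set.ncard_coe_finset]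
    congr 1
    ext c
    simp [PF, hcl]
  rw [hconv, hPcard]
  have hDFsub : DF ⊆ PF := by
    intro x hx
    rw [hDF, Finset.mem_filter] at hx
    rw [hPF, Finset.mem_filter]
    exact ⟨hx.1, hDP hx.2⟩
  -- classes meeting `D`
  set R' : Finset (ConjClasses G) := DF.image cl with hR'
  set T1 : Finset (ConjClasses G) := R'.filter (fun c => ∀ x ∈ DF, cl x = c → x ∈ F) with hT1
  set T2 : Finset (ConjClasses G) := R'.filter (fun c => ¬ ∀ x ∈ DF, cl x = c → x ∈ F) with hT2
  have hT12 : T1.card + T2.card = R'.card := Finset.card_filter_add_card_filter_not _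
  have hsum1 : ∑ c ∈ R', (if c ∈ T1 then 1 else 3) ≤ DF.card := by
    apply sum_le_card_of_fibers
    intro c hc
    by_cases hc1 : c ∈ T1
    · rw [if_pos hc1]
      obtain ⟨x, hx, hxc⟩ := Finset.mem_image.mp hc
      exact Finset.card_pos.mpr ⟨x, Finset.mem_filter.mpr ⟨hx, hxc⟩⟩
    · rw [if_neg hc1]
      have hc2 : ¬ ∀ x ∈ DF, cl x = c → x ∈ F := by
        intro h
        exact hc1 (Finset.mem_filter.mpr ⟨hc, h⟩)
      simp only [not_forall] at hc2
      obtain ⟨x, hxD, hxc, hxF⟩ := hc2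
      have hxD' : x ∈ D := (Finset.mem_filter.mp hxD).2
      have hmove : g * x * g⁻¹ ≠ x := fun h => hxF ((hmemF x).mpr ⟨hxD', h⟩)
      obtain ⟨h31, h32⟩ := three_distinct hodd hmove
      have hg2N : g ^ 2 ∈ Subgroup.normalizer (D : Set G) := Subgroup.pow_mem _ hgN 2
      have hm1 : g * x * g⁻¹ ∈ D := (Subgroup.mem_normalizer_iff.mp hgN x).mp hxD'
      have hm2 : g ^ 2 * x * (g ^ 2)⁻¹ ∈ D := (Subgroup.mem_normalizer_iff.mp hg2N x).mp hxD'
      have : 2 < (DF.filter (fun a => cl a = c)).card := by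
        rw [Finset.two_lt_card]
        refine ⟨x, Finset.mem_filter.mpr ⟨hxD, hxc⟩, g * x * g⁻¹,
          Finset.mem_filter.mpr ⟨Finset.mem_filter.mpr ⟨Finset.mem_univ _, hm1⟩, ?_⟩,
          g ^ 2 * x * (g ^ 2)⁻¹,
          Finset.mem_filter.mpr ⟨Finset.mem_filter.mpr ⟨Finset.mem_univ _, hm2⟩, ?_⟩,
          hmove.symm, h31.symm, h32.symm⟩
        · rw [hclconj, hxc]
        · rw [hclconj, hxc]
      exact this
  have hsum2 : ∑ c ∈ R', (if c ∈ T1 then 1 else 3) = T1.card + 3 * T2.card := by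
    rw [← Finset.sum_filter_add_sum_filter_not R' (fun c => ∀ x ∈ DF, cl x = c → x ∈ F)]
    congr 1
    · rw [Finset.card_eq_sum_ones]
      apply Finset.sum_congr rfl
      intro c hc
      rw [if_pos hc]
    · rw [Finset.card_eq_sum_ones, Finset.mul_sum]
      apply Finset.sum_congr rfl
      intro c hc
      have : c ∉ T1 := by
        intro h
        exact (Finset.mem_filter.mp hc).2 (Finset.mem_filter.mp h).2
      rw [if_neg this, mul_one]
  have hT1le : T1.card ≤ FF.card := by
    have hsub : T1 ⊆ FF.image cl := by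
      intro c hc
      obtain ⟨hcR, hprop⟩ := Finset.mem_filter.mp hc
      obtain ⟨x, hx, hxc⟩ := Finset.mem_image.mp hcR
      exact Finset.mem_image.mpr ⟨x, Finset.mem_filter.mpr ⟨Finset.mem_univ _, hprop x hx hxc⟩, hxc⟩
    exact (Finset.card_le_card hsub).trans Finset.card_image_le
  have hR'le : 2 * R'.card ≤ DF.card := by
    rw [hDcard, hFcard] at h4F
    rw [hsum2] at hsum1
    omega
  -- classes missing `D`
  set R : Finset (ConjClasses G) := (PF.image cl) \ R' with hR
  have hRle : 2 * R.card ≤ (PF \ DF).card := by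
    have := sum_le_card_of_fibers (PF \ DF) cl R (fun _ => 2) ?_
    · rwa [Finset.sum_const, smul_eq_mul, mul_comm] at this
    intro c hc
    obtain ⟨hcP, hcR'⟩ := Finset.mem_sdiff.mp hc
    obtain ⟨x, hxP, hxc⟩ := Finset.mem_image.mp hcP
    have hxP' : x ∈ (P : Subgroup G) := (Finset.mem_filter.mp hxP).2
    have hnotD : ∀ y, cl y = c → y ∉ D := by
      intro y hyc hyD
      exact hcR' (Finset.mem_image.mpr ⟨y, Finset.mem_filter.mpr ⟨Finset.mem_univ _, hyD⟩, hyc⟩)
    have hxD : x ∉ D := hnotD x hxc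
    -- `x` is not central in `P`
    obtain ⟨u, huP, hux⟩ : ∃ u ∈ (P : Subgroup G), u * x * u⁻¹ ≠ x := by
      by_contra hcon
      apply hxD
      apply hcent
      refine Subgroup.mem_inf.mpr ⟨hxP', ?_⟩
      rw [Subgroup.mem_centralizer_iff]
      intro d hd
      by_contra hdx
      apply hcon
      refine ⟨d, hDP hd, ?_⟩
      intro h
      apply hdx
      calc d * x = d * x * d⁻¹ * d := by group
        _ = x * d := by rw [h]
    have huxP : u * x * u⁻¹ ∈ (P : Subgroup G) :=
      Subgroup.mul_mem _ (Subgroup.mul_mem _ huP hxP') (Subgroup.inv_mem _ huP)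
    have huxc : cl (u * x * u⁻¹) = c := by rw [hclconj, hxc]
    show 2 ≤ _
    have : 1 < ((PF \ DF).filter (fun a => cl a = c)).card := by
      rw [Finset.one_lt_card]
      refine ⟨x, ?_, u * x * u⁻¹, ?_, hux.symm⟩
      · refine Finset.mem_filter.mpr ⟨Finset.mem_sdiff.mpr ⟨hxP, ?_⟩, hxc⟩
        intro h
        exact hxD (Finset.mem_filter.mp h).2
      · refine Finset.mem_filter.mpr ⟨Finset.mem_sdiff.mpr
          ⟨Finset.mem_filter.mpr ⟨Finset.mem_univ _, huxP⟩, ?_⟩, huxc⟩
        intro h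
        exact hnotD _ huxc (Finset.mem_filter.mp h).2
    exact this
  have hsdiff : (PF \ DF).card = PF.card - DF.card := Finset.card_sdiff_of_subset hDFsub
  have hDle : DF.card ≤ PF.card := Finset.card_le_card hDFsub
  have hR'sub : R' ⊆ PF.image cl := Finset.image_subset_image hDFsub
  have htot : (PF.image cl).card = R.card + R'.card := by
    rw [hR, Finset.card_sdiff_of_subset hR'sub]
    have := Finset.card_le_card hR'sub
    omega
  omega

/-- The classes of `2`-elements are the classes meeting a Sylow `2`-subgroup. -/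
theorem card_two_classes (P : Sylow 2 G) :
    Nat.card {c : ConjClasses G // ∀ x ∈ c.carrier, ∃ k : ℕ, orderOf x = 2 ^ k}
      = (ConjClasses.mk '' ((P : Subgroup G) : Set G)).ncard := by
  have hset : {c : ConjClasses G | ∀ x ∈ c.carrier, ∃ k : ℕ, orderOf x = 2 ^ k}
      = ConjClasses.mk '' ((P : Subgroup G) : Set G) := by
    ext c
    constructor
    · intro hc
      obtain ⟨x, rfl⟩ := ConjClasses.exists_rep c
      obtain ⟨k, hk⟩ := hc x ConjClasses.mem_carrier_mk
      have hpg : IsPGroup 2 (Subgroup.zpowers x) :=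
        IsPGroup.of_card (n := k) (by rw [Nat.card_zpowers, hk])
      obtain ⟨y, hy⟩ := exists_lc_le_sylow P hpg
      refine ⟨y * x * y⁻¹, hy (conj_mem_lc (Subgroup.mem_zpowers x)), ?_⟩
      rw [ConjClasses.mk_eq_mk_iff_isConj, isConj_comm, isConj_iff]
      exact ⟨y, rfl⟩
    · rintro ⟨y, hy, rfl⟩ x hx
      rw [ConjClasses.mem_carrier_iff_mk_eq, ConjClasses.mk_eq_mk_iff_isConj, isConj_iff] at hx
      obtain ⟨u, hu⟩ := hx
      obtain ⟨k, hk⟩ := (IsPGroup.iff_orderOf.mp P.2) ⟨y, hy⟩
      rw [Subgroup.orderOf_mk] at hk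
      refine ⟨k, ?_⟩
      rw [← hk, ← hu]
      have := (MulAut.conj u).orderOf_eq x
      rw [MulAut.conj_apply] at this
      exact this.symm
  show Nat.card ↥{c : ConjClasses G | ∀ x ∈ c.carrier, ∃ k : ℕ, orderOf x = 2 ^ k} = _
  rw [Nat.card_coe_set_eq, hset]

/-- In a group with a normal `2`-complement, `G`-conjugate elements of a Sylow `2`-subgroup `P`
are `P`-conjugate. -/
theorem conj_in_sylow_of_npc (P : Sylow 2 G) (h : HasNormalPComplement 2 G) {x y h0 : G}
    (hx : x ∈ (P : Subgroup G)) (hy : y ∈ (P : Subgroup G)) (hxy : h0 * x * h0⁻¹ = y) :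
    ∃ u ∈ (P : Subgroup G), u * x * u⁻¹ = y := by
  obtain ⟨P', N, hNn, hc⟩ := h
  have hcardN : Nat.card N = (P' : Subgroup G).index := hc.index_eq_card.symm
  have hN2 : ¬ 2 ∣ Nat.card N := by
    rw [hcardN]
    exact P'.not_dvd_index
  have hdisj : Disjoint N (P : Subgroup G) := by
    rw [Subgroup.disjoint_def]
    intro z hzN hzP
    obtain ⟨k, hk⟩ := (IsPGroup.iff_orderOf.mp P.2) ⟨z, hzP⟩
    rw [Subgroup.orderOf_mk] at hk
    have hdvd : orderOf z ∣ Nat.card N := by
      have := orderOf_dvd_natCard (⟨z, hzN⟩ : N)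
      rwa [Subgroup.orderOf_mk] at this
    have hk0 : k = 0 := by
      by_contra hk0
      exact hN2 ((dvd_pow_self 2 hk0).trans (hk ▸ hdvd))
    rw [hk0, pow_zero, orderOf_eq_one_iff] at hk
    exact hk
  have hcard : Nat.card N * Nat.card (P : Subgroup G) = Nat.card G := by
    rw [← hc.card_mul_card, Sylow.card_eq_multiplicity P, Sylow.card_eq_multiplicity P']
  have hc' : N.IsComplement' (P : Subgroup G) :=
    Subgroup.isComplement'_of_card_mul_and_disjoint hcard hdisj
  obtain ⟨⟨n, u⟩, hnu⟩ := hc'.2 h0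
  simp only at hnu
  refine ⟨u, u.2, ?_⟩
  set x' := (u : G) * x * (u : G)⁻¹ with hx'
  have hx'P : x' ∈ (P : Subgroup G) :=
    Subgroup.mul_mem _ (Subgroup.mul_mem _ u.2 hx) (Subgroup.inv_mem _ u.2)
  have hy' : y = (n : G) * x' * (n : G)⁻¹ := by
    rw [← hxy, ← hnu, hx']; group
  have hmemN : y * x'⁻¹ ∈ N := by
    have h1 : y * x'⁻¹ = (n : G) * (x' * (n : G)⁻¹ * x'⁻¹) := by rw [hy']; group
    rw [h1]
    exact N.mul_mem n.2 (hNn.conj_mem _ (N.inv_mem n.2) x')
  have hmemP : y * x'⁻¹ ∈ (P : Subgroup G) :=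
    Subgroup.mul_mem _ hy (Subgroup.inv_mem _ hx'P)
  have := Subgroup.disjoint_def.mp hdisj hmemN hmemP
  exact (mul_inv_eq_one.mp this).symm

/-- In a group with a normal `2`-complement the classes of `2`-elements correspond to the classes
of a Sylow `2`-subgroup. -/
theorem card_classes_eq_of_npc (P : Sylow 2 G) (h : HasNormalPComplement 2 G) :
    (ConjClasses.mk '' ((P : Subgroup G) : Set G)).ncard
      = Nat.card (ConjClasses ↥(P : Subgroup G)) := by
  set ψ : ConjClasses ↥(P : Subgroup G) → ConjClasses G :=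
    ConjClasses.map (P : Subgroup G).subtype with hψ
  have hinj : Function.Injective ψ := by
    intro c1 c2 h12
    obtain ⟨u1, rfl⟩ := ConjClasses.exists_rep c1
    obtain ⟨u2, rfl⟩ := ConjClasses.exists_rep c2
    have h1 : ConjClasses.mk (u1 : G) = ConjClasses.mk (u2 : G) := h12
    rw [ConjClasses.mk_eq_mk_iff_isConj, isConj_iff] at h1
    obtain ⟨h0, hh0⟩ := h1
    obtain ⟨u, hu, huu⟩ := conj_in_sylow_of_npc P h u1.2 u2.2 hh0
    rw [ConjClasses.mk_eq_mk_iff_isConj, isConj_iff]
    exact ⟨⟨u, hu⟩, Subtype.ext huu⟩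
  have hrange : Set.range ψ = ConjClasses.mk '' ((P : Subgroup G) : Set G) := by
    ext c
    constructor
    · rintro ⟨c1, rfl⟩
      obtain ⟨u1, rfl⟩ := ConjClasses.exists_rep c1
      exact ⟨u1, u1.2, rfl⟩
    · rintro ⟨y, hy, rfl⟩
      exact ⟨ConjClasses.mk ⟨y, hy⟩, rfl⟩
  rw [← hrange, Set.ncard_range_of_injective hinj]

end Main

end Cfsg.Agent.Lib.Helper75.TwoClasses
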