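import Mathlib
import Cfsg.Agent.Lib.Helper75.TwoClasses

/-!
# Counting conjugacy classes of `p`-elements (for S3897)
-/

set_option autoImplicit false

namespace Cfsg.Agent.Lib.Helper75.PClasses

open Cfsg Cfsg.Agent.Lib.Helper41 Cfsg.Agent.Lib.Helper27 Cfsg.Agent.Lib.Helper75.TwoClasses

variable {G : Type*} [Group G]

/-- class size = index of the centralizer -/
theorem ncard_carrier_eq_index (x : G) :
    (ConjClasses.mk x).carrier.ncard = (Subgroup.centralizer ({x} : Set G)).index := by
  rw [← ConjAct.orbit_eq_carrier_conjClasses, ← MulAction.index_stabilizer,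
    Subgroup.centralizer_eq_comap_stabilizer]
  exact (Subgroup.index_comap_of_surjective _ (ConjAct.toConjAct (G := G)).surjective).symm

/-- A proper subgroup of a finite `p`-group has index at least `p`. -/
theorem p_mul_card_le_of_lt [Finite G] {p : ℕ} [Fact p.Prime] (hG : IsPGroup p G)
    {H : Subgroup G} (hH : H ≠ ⊤) : p * Nat.card H ≤ Nat.card G := by
  have hp : p.Prime := Fact.out
  obtain ⟨j, hj⟩ := hG.index H
  have hj0 : j ≠ 0 := by
    intro h
    rw [h, pow_zero, Subgroup.index_eq_one] at hj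
    exact hH hj
  have hdvd : p ∣ H.index := by rw [hj]; exact dvd_pow_self p hj0
  obtain ⟨m, hm⟩ := hdvd
  have hcard := H.card_mul_index
  have hm0 : 0 < m := by
    rcases Nat.eq_zero_or_pos m with h | h
    · rw [h, mul_zero] at hm
      exact absurd hm (Subgroup.index_ne_zero_of_finite)
    · exact h
  rw [hm] at hcard
  calc p * Nat.card H ≤ p * Nat.card H * m := Nat.le_mul_of_pos_right _ hm0
    _ = Nat.card H * (p * m) := by ring
    _ = Nat.card G := hcard

/-- The centre of a nonabelian finite `p`-group has index at least `p ^ 2`. -/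
theorem p_sq_mul_card_center_le [Finite G] {p : ℕ} [Fact p.Prime] (hG : IsPGroup p G)
    (hnc : ¬ ∀ a b : G, a * b = b * a) : p ^ 2 * Nat.card (Subgroup.center G) ≤ Nat.card G := by
  have hp : p.Prime := Fact.out
  obtain ⟨j, hj⟩ := hG.index (Subgroup.center G)
  have hj0 : j ≠ 0 := by
    intro h
    rw [h, pow_zero, Subgroup.index_eq_one] at hj
    apply hnc
    intro a b
    have : a ∈ Subgroup.center G := hj ▸ Subgroup.mem_top a
    exact (Subgroup.mem_center_iff.mp this b).symm
  have hj1 : j ≠ 1 := by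
    intro h
    rw [h, pow_one] at hj
    have hcard : Nat.card (G ⧸ Subgroup.center G) = p := by
      rw [← Subgroup.index_eq_card]; exact hj
    have hcyc : IsCyclic (G ⧸ Subgroup.center G) := isCyclic_of_prime_card hcard
    apply hnc
    intro a b
    have hc : IsMulCommutative G :=
      MonoidHom.isMulCommutative_of_isCyclic_of_ker_le_center
        (QuotientGroup.mk' (Subgroup.center G)) (by rw [QuotientGroup.ker_mk'])
    exact hc.is_comm.comm a b
  have hj2 : 2 ≤ j := by omega
  have hdvd : p ^ 2 ∣ (Subgroup.center G).index := by rw [hj]; exact pow_dvd_pow p hj2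
  obtain ⟨m, hm⟩ := hdvd
  have hcard := (Subgroup.center G).card_mul_index
  have hm0 : 0 < m := by
    rcases Nat.eq_zero_or_pos m with h | h
    · rw [h, mul_zero] at hm
      exact absurd hm (Subgroup.index_ne_zero_of_finite)
    · exact h
  rw [hm] at hcard
  calc p ^ 2 * Nat.card (Subgroup.center G)
      ≤ p ^ 2 * Nat.card (Subgroup.center G) * m := Nat.le_mul_of_pos_right _ hm0
    _ = Nat.card (Subgroup.center G) * (p ^ 2 * m) := by ring
    _ = Nat.card G := hcard

/-- A nonabelian finite `p`-group of order `n` has at most `(p² + p - 1) n / p³` classes. -/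
theorem card_classes_le_of_not_comm [Finite G] {p : ℕ} [Fact p.Prime] (hG : IsPGroup p G)
    (hnc : ¬ ∀ a b : G, a * b = b * a) :
    p ^ 3 * Nat.card (ConjClasses G) ≤ (p ^ 2 + p - 1) * Nat.card G := by
  classical
  have hp : p.Prime := Fact.out
  have : Fintype G := Fintype.ofFinite G
  have : Fintype (ConjClasses G) := Fintype.ofFinite _
  have hZ := p_sq_mul_card_center_le hG hnc
  set cl : G → ConjClasses G := ConjClasses.mk with hcl
  set ZF : Finset G := Finset.univ.filter (· ∈ Subgroup.center G) with hZF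
  have hZcard : Nat.card (Subgroup.center G) = ZF.card := by
    rw [Nat.card_eq_fintype_card, Fintype.card_subtype]
  set R' : Finset (ConjClasses G) := Finset.univ with hR'
  set T1 : Finset (ConjClasses G) := R'.filter (fun c => ∀ x, cl x = c → x ∈ Subgroup.center G)
    with hT1
  set T2 : Finset (ConjClasses G) := R'.filter (fun c => ¬ ∀ x, cl x = c → x ∈ Subgroup.center G)
    with hT2
  have hT12 : T1.card + T2.card = R'.card := Finset.card_filter_add_card_filter_not _
  have hsum1 : ∑ c ∈ R', (if c ∈ T1 then 1 else p) ≤ (Finset.univ : Finset G).card := by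
    apply sum_le_card_of_fibers
    intro c hc
    by_cases hc1 : c ∈ T1
    · rw [if_pos hc1]
      obtain ⟨x, rfl⟩ := ConjClasses.exists_rep c
      exact Finset.card_pos.mpr ⟨x, Finset.mem_filter.mpr ⟨Finset.mem_univ _, rfl⟩⟩
    · rw [if_neg hc1]
      have hc2 : ¬ ∀ x, cl x = c → x ∈ Subgroup.center G := by
        intro h
        exact hc1 (Finset.mem_filter.mpr ⟨hc, h⟩)
      simp only [not_forall] at hc2
      obtain ⟨x, hxc, hxZ⟩ := hc2
      have hfib : (Finset.univ.filter (fun a => cl a = c)).card = (ConjClasses.mk x).carrier.ncard := by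
        rw [← Set.ncard_coe_finset]
        congr 1
        ext a
        simp only [Finset.coe_filter, Finset.mem_univ, true_and, Set.mem_ofPred_eq]
        rw [ConjClasses.mem_carrier_iff_mk_eq, ← hxc]
      rw [hfib, ncard_carrier_eq_index]
      have hne : Subgroup.centralizer ({x} : Set G) ≠ ⊤ := by
        intro h
        apply hxZ
        rw [Subgroup.mem_center_iff]
        intro b
        have hb : b ∈ Subgroup.centralizer ({x} : Set G) := h ▸ Subgroup.mem_top b
        exact (Subgroup.mem_centralizer_iff.mp hb x rfl).symm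
      obtain ⟨j, hj⟩ := hG.index (Subgroup.centralizer ({x} : Set G))
      have hj0 : j ≠ 0 := by
        intro h
        rw [h, pow_zero, Subgroup.index_eq_one] at hj
        exact hne hj
      rw [hj]
      calc p = p ^ 1 := (pow_one p).symm
        _ ≤ p ^ j := Nat.pow_le_pow_right hp.pos (by omega)
  have hsum2 : ∑ c ∈ R', (if c ∈ T1 then 1 else p) = T1.card + p * T2.card := by
    rw [← Finset.sum_filter_add_sum_filter_not R' (fun c => ∀ x, cl x = c → x ∈ Subgroup.center G)]
    congr 1
    · rw [Finset.card_eq_sum_ones]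
      apply Finset.sum_congr rfl
      intro c hc
      rw [if_pos hc]
    · rw [Finset.card_eq_sum_ones, Finset.mul_sum]
      apply Finset.sum_congr rfl
      intro c hc
      have : c ∉ T1 := by
        intro h
        exact (Finset.mem_filter.mp hc).2 (Finset.mem_filter.mp h).2
      rw [if_neg this, mul_one]
  have hT1le : T1.card ≤ ZF.card := by
    have hsub : T1 ⊆ ZF.image cl := by
      intro c hc
      obtain ⟨hcR, hprop⟩ := Finset.mem_filter.mp hc
      obtain ⟨x, rfl⟩ := ConjClasses.exists_rep c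
      exact Finset.mem_image.mpr ⟨x, Finset.mem_filter.mpr ⟨Finset.mem_univ _, hprop x rfl⟩, rfl⟩
    exact (Finset.card_le_card hsub).trans Finset.card_image_le
  have hk : Nat.card (ConjClasses G) = R'.card := by
    rw [Nat.card_eq_fintype_card, hR', Finset.card_univ]
  have hn : Nat.card G = (Finset.univ : Finset G).card := by
    rw [Nat.card_eq_fintype_card, Finset.card_univ]
  rw [hsum2] at hsum1
  rw [hk, hn]
  rw [hZcard, hn] at hZ
  set n := (Finset.univ : Finset G).card
  set z := ZF.card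
  set t1 := T1.card
  set t2 := T2.card
  have hp2 : 2 ≤ p := hp.two_le
  have hpp : 1 ≤ p ^ 2 + p := by nlinarith
  -- p^3 (t1 + t2) ≤ (p^2+p-1) n
  have h1 : p * (t1 + t2) ≤ (p - 1) * t1 + n := by
    obtain ⟨q, rfl⟩ : ∃ q, p = q + 1 := ⟨p - 1, by omega⟩
    simp only [Nat.add_sub_cancel]
    nlinarith
  have h2 : p ^ 2 * ((p - 1) * t1) ≤ (p - 1) * n := by
    calc p ^ 2 * ((p - 1) * t1) = (p - 1) * (p ^ 2 * t1) := by ring
      _ ≤ (p - 1) * (p ^ 2 * z) := by
          apply Nat.mul_le_mul_left; apply Nat.mul_le_mul_left; exact hT1le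
      _ ≤ (p - 1) * n := Nat.mul_le_mul_left _ hZ
  rw [← hT12]
  calc p ^ 3 * (t1 + t2) = p ^ 2 * (p * (t1 + t2)) := by ring
    _ ≤ p ^ 2 * ((p - 1) * t1 + n) := Nat.mul_le_mul_left _ h1
    _ = p ^ 2 * ((p - 1) * t1) + p ^ 2 * n := by ring
    _ ≤ (p - 1) * n + p ^ 2 * n := Nat.add_le_add_right h2 _
    _ = (p ^ 2 + p - 1) * n := by
        obtain ⟨q, rfl⟩ : ∃ q, p = q + 1 := ⟨p - 1, by omega⟩
        have : (q + 1) ^ 2 + (q + 1) - 1 = (q + 1) ^ 2 + q := by omega
        rw [this]
        simp only [Nat.add_sub_cancel]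
        ring

section Main

variable [Finite G] {p : ℕ} [Fact p.Prime]

/-- The classes of `p`-elements are the classes meeting a Sylow `p`-subgroup. -/
theorem card_p_classes (P : Sylow p G) :
    Nat.card {c : ConjClasses G // ∀ x ∈ c.carrier, ∃ k : ℕ, orderOf x = p ^ k}
      = (ConjClasses.mk '' ((P : Subgroup G) : Set G)).ncard := by
  have hset : {c : ConjClasses G | ∀ x ∈ c.carrier, ∃ k : ℕ, orderOf x = p ^ k}
      = ConjClasses.mk '' ((P : Subgroup G) : Set G) := by
    ext c
    constructor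
    · intro hc
      obtain ⟨x, rfl⟩ := ConjClasses.exists_rep c
      obtain ⟨k, hk⟩ := hc x ConjClasses.mem_carrier_mk
      have hpg : IsPGroup p (Subgroup.zpowers x) :=
        IsPGroup.of_card (n := k) (by rw [Nat.card_zpowers, hk])
      obtain ⟨y, hy⟩ := exists_lc_le_sylow P hpg
      refine ⟨y * x * y⁻¹, hy (conj_mem_lc (Subgroup.mem_zpowers x)), ?_⟩
      rw [ConjClasses.mk_eq_mk_iff_isConj, isConj_comm, isConj_iff]
      exact ⟨y, rfl⟩
    · rintro ⟨y, hy, rfl⟩ x hx
      rw [ConjClasses.mem_carrier_iff_mk_eq, ConjClasses.mk_eq_mk_iff_isConj, isConj_iff] at hx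
      obtain ⟨u, hu⟩ := hx
      obtain ⟨k, hk⟩ := (IsPGroup.iff_orderOf.mp P.2) ⟨y, hy⟩
      rw [Subgroup.orderOf_mk] at hk
      refine ⟨k, ?_⟩
      rw [← hk, ← hu]
      have := (MulAut.conj u).orderOf_eq x
      rw [MulAut.conj_apply] at this
      exact this.symm
  show Nat.card ↥{c : ConjClasses G | ∀ x ∈ c.carrier, ∃ k : ℕ, orderOf x = p ^ k} = _
  rw [Nat.card_coe_set_eq, hset]

/-- The number of classes of `G` meeting a subgroup `P` is at most the class number of `P`. -/
theorem ncard_classes_le (P : Subgroup G) :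
    (ConjClasses.mk '' (P : Set G)).ncard ≤ Nat.card (ConjClasses ↥P) := by
  set ψ : ConjClasses ↥P → ConjClasses G := ConjClasses.map P.subtype with hψ
  have hrange : Set.range ψ = ConjClasses.mk '' (P : Set G) := by
    ext c
    constructor
    · rintro ⟨c1, rfl⟩
      obtain ⟨u1, rfl⟩ := ConjClasses.exists_rep c1
      exact ⟨u1, u1.2, rfl⟩
    · rintro ⟨y, hy, rfl⟩
      exact ⟨ConjClasses.mk ⟨y, hy⟩, rfl⟩
  rw [← hrange, ← Set.image_univ]
  calc (ψ '' Set.univ).ncard ≤ (Set.univ : Set (ConjClasses ↥P)).ncard :=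
        Set.ncard_image_le (Set.toFinite _)
    _ = Nat.card (ConjClasses ↥P) := Set.ncard_univ _

/-- In a group with a normal `p`-complement, `G`-conjugate elements of a Sylow `p`-subgroup `P`
are `P`-conjugate. -/
theorem conj_in_sylow_of_npc (P : Sylow p G) (h : HasNormalPComplement p G) {x y h0 : G}
    (hx : x ∈ (P : Subgroup G)) (hy : y ∈ (P : Subgroup G)) (hxy : h0 * x * h0⁻¹ = y) :
    ∃ u ∈ (P : Subgroup G), u * x * u⁻¹ = y := by
  have hp : p.Prime := Fact.out
  obtain ⟨P', N, hNn, hc⟩ := h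
  have hcardN : Nat.card N = (P' : Subgroup G).index := hc.index_eq_card.symm
  have hN2 : ¬ p ∣ Nat.card N := by
    rw [hcardN]
    exact P'.not_dvd_index
  have hdisj : Disjoint N (P : Subgroup G) := by
    rw [Subgroup.disjoint_def]
    intro z hzN hzP
    obtain ⟨k, hk⟩ := (IsPGroup.iff_orderOf.mp P.2) ⟨z, hzP⟩
    rw [Subgroup.orderOf_mk] at hk
    have hdvd : orderOf z ∣ Nat.card N := by
      have := orderOf_dvd_natCard (⟨z, hzN⟩ : N)
      rwa [Subgroup.orderOf_mk] at this
    have hk0 : k = 0 := by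
      by_contra hk0
      exact hN2 ((dvd_pow_self p hk0).trans (hk ▸ hdvd))
    rw [hk0, pow_zero, orderOf_eq_one_iff] at hk
    exact hk
  have hcard : Nat.card N * Nat.card (P : Subgroup G) = Nat.card G := by
    rw [← hc.card_mul_card, Sylow.card_eq_multiplicity P, Sylow.card_eq_multiplicity P']
  have hc' : N.IsComplement' (P : Subgroup G) :=
    Subgroup.isComplement'_of_card_mul_and_disjoint hcard hdisj
  obtain ⟨⟨n, u⟩, hnu⟩ := hc'.2 h0
  simp only at hnu
  refine ⟨u, u.2, ?_⟩
  set x' := (u : G) * x * (u : G)⁻¹ with hx'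
  have hx'P : x' ∈ (P : Subgroup G) :=
    Subgroup.mul_mem _ (Subgroup.mul_mem _ u.2 hx) (Subgroup.inv_mem _ u.2)
  have hy' : y = (n : G) * x' * (n : G)⁻¹ := by
    rw [← hxy, ← hnu, hx']; group
  have hmemN : y * x'⁻¹ ∈ N := by
    have h1 : y * x'⁻¹ = (n : G) * (x' * (n : G)⁻¹ * x'⁻¹) := by rw [hy']; group
    rw [h1]
    exact N.mul_mem n.2 (hNn.conj_mem _ (N.inv_mem n.2) x')
  have hmemP : y * x'⁻¹ ∈ (P : Subgroup G) :=
    Subgroup.mul_mem _ hy (Subgroup.inv_mem _ hx'P)
  have := Subgroup.disjoint_def.mp hdisj hmemN hmemP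
  exact (mul_inv_eq_one.mp this).symm

/-- In a group with a normal `p`-complement the classes of `p`-elements correspond to the classes
of a Sylow `p`-subgroup. -/
theorem card_classes_eq_of_npc (P : Sylow p G) (h : HasNormalPComplement p G) :
    (ConjClasses.mk '' ((P : Subgroup G) : Set G)).ncard
      = Nat.card (ConjClasses ↥(P : Subgroup G)) := by
  set ψ : ConjClasses ↥(P : Subgroup G) → ConjClasses G :=
    ConjClasses.map (P : Subgroup G).subtype with hψ
  have hinj : Function.Injective ψ := by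
    intro c1 c2 h12
    obtain ⟨u1, rfl⟩ := ConjClasses.exists_rep c1
    obtain ⟨u2, rfl⟩ := ConjClasses.exists_rep c2
    have h1 : ConjClasses.mk (u1 : G) = ConjClasses.mk (u2 : G) := h12
    rw [ConjClasses.mk_eq_mk_iff_isConj, isConj_iff] at h1
    obtain ⟨h0, hh0⟩ := h1
    obtain ⟨u, hu, huu⟩ := conj_in_sylow_of_npc P h u1.2 u2.2 hh0
    rw [ConjClasses.mk_eq_mk_iff_isConj, isConj_iff]
    exact ⟨⟨u, hu⟩, Subtype.ext huu⟩
  have hrange : Set.range ψ = ConjClasses.mk '' ((P : Subgroup G) : Set G) := by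
    ext c
    constructor
    · rintro ⟨c1, rfl⟩
      obtain ⟨u1, rfl⟩ := ConjClasses.exists_rep c1
      exact ⟨u1, u1.2, rfl⟩
    · rintro ⟨y, hy, rfl⟩
      exact ⟨ConjClasses.mk ⟨y, hy⟩, rfl⟩
  rw [← hrange, Set.ncard_range_of_injective hinj]

/-- If some element normalizes but does not centralize the `p`-subgroup `P`, then at most
`(p + 1) |P| / (2 p)` classes of `G` meet `P`. -/
theorem two_p_mul_classes_le {P : Subgroup G} (hP : IsPGroup p P) {g : G}
    (hgN : g ∈ Subgroup.normalizer (P : Set G))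
    (hgC : g ∉ Subgroup.centralizer (P : Set G)) :
    2 * p * (ConjClasses.mk '' (P : Set G)).ncard ≤ (p + 1) * Nat.card P := by
  classical
  have hp : p.Prime := Fact.out
  have : Fintype G := Fintype.ofFinite G
  set F : Subgroup G := P ⊓ Subgroup.centralizer ({g} : Set G) with hF
  have hFP : F ≤ P := inf_le_left
  have hmemF : ∀ x, x ∈ F ↔ x ∈ P ∧ g * x * g⁻¹ = x := by
    intro x
    rw [hF, Subgroup.mem_inf, Subgroup.mem_centralizer_iff]
    constructor
    · rintro ⟨h1, h2⟩
      refine ⟨h1, ?_⟩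
      have := h2 g rfl
      rw [this]; group
    · rintro ⟨h1, h2⟩
      refine ⟨h1, ?_⟩
      intro y hy
      rw [Set.mem_singleton_iff] at hy
      rw [hy]
      calc g * x = g * x * g⁻¹ * g := by group
        _ = x * g := by rw [h2]
  have hne : F.subgroupOf P ≠ ⊤ := by
    intro h
    apply hgC
    rw [Subgroup.mem_centralizer_iff]
    intro d hd
    have h1 : (⟨d, hd⟩ : P) ∈ F.subgroupOf P := h ▸ Subgroup.mem_top _
    rw [Subgroup.mem_subgroupOf] at h1
    have h2 := ((hmemF d).mp h1).2
    calc d * g = g * d * g⁻¹ * g := by rw [h2]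
      _ = g * d := by group
  have hpF : p * Nat.card F ≤ Nat.card P := by
    have := p_mul_card_le_of_lt hP hne
    rwa [Nat.card_congr (Subgroup.subgroupOfEquivOfLe hFP).toEquiv] at this
  set cl : G → ConjClasses G := ConjClasses.mk with hcl
  have hclconj : ∀ (u x : G), cl (u * x * u⁻¹) = cl x := by
    intro u x
    rw [hcl, ConjClasses.mk_eq_mk_iff_isConj, isConj_comm, isConj_iff]
    exact ⟨u, rfl⟩
  set PF : Finset G := Finset.univ.filter (· ∈ P) with hPF
  set FF : Finset G := Finset.univ.filter (· ∈ F) with hFF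
  have hPcard : Nat.card P = PF.card := by
    rw [Nat.card_eq_fintype_card, Fintype.card_subtype]
  have hFcard : Nat.card F = FF.card := by
    rw [Nat.card_eq_fintype_card, Fintype.card_subtype]
  have hconv : (ConjClasses.mk '' (P : Set G)).ncard = (PF.image cl).card := by
    rw [← Set.ncard_coe_finset]
    congr 1
    ext c
    simp [PF, hcl]
  rw [hconv, hPcard]
  set R' : Finset (ConjClasses G) := PF.image cl with hR'
  set T1 : Finset (ConjClasses G) := R'.filter (fun c => ∀ x ∈ PF, cl x = c → x ∈ F) with hT1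
  set T2 : Finset (ConjClasses G) := R'.filter (fun c => ¬ ∀ x ∈ PF, cl x = c → x ∈ F) with hT2
  have hT12 : T1.card + T2.card = R'.card := Finset.card_filter_add_card_filter_not _
  have hsum1 : ∑ c ∈ R', (if c ∈ T1 then 1 else 2) ≤ PF.card := by
    apply sum_le_card_of_fibers
    intro c hc
    by_cases hc1 : c ∈ T1
    · rw [if_pos hc1]
      obtain ⟨x, hx, hxc⟩ := Finset.mem_image.mp hc
      exact Finset.card_pos.mpr ⟨x, Finset.mem_filter.mpr ⟨hx, hxc⟩⟩
    · rw [if_neg hc1]
      have hc2 : ¬ ∀ x ∈ PF, cl x = c → x ∈ F := by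
        intro h
        exact hc1 (Finset.mem_filter.mpr ⟨hc, h⟩)
      simp only [not_forall] at hc2
      obtain ⟨x, hxD, hxc, hxF⟩ := hc2
      have hxD' : x ∈ P := (Finset.mem_filter.mp hxD).2
      have hmove : g * x * g⁻¹ ≠ x := fun h => hxF ((hmemF x).mpr ⟨hxD', h⟩)
      have hm1 : g * x * g⁻¹ ∈ P := (Subgroup.mem_normalizer_iff.mp hgN x).mp hxD'
      have : 1 < (PF.filter (fun a => cl a = c)).card := by
        rw [Finset.one_lt_card]
        refine ⟨x, Finset.mem_filter.mpr ⟨hxD, hxc⟩, g * x * g⁻¹,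
          Finset.mem_filter.mpr ⟨Finset.mem_filter.mpr ⟨Finset.mem_univ _, hm1⟩, ?_⟩,
          hmove.symm⟩
        rw [hclconj, hxc]
      exact this
  have hsum2 : ∑ c ∈ R', (if c ∈ T1 then 1 else 2) = T1.card + 2 * T2.card := by
    rw [← Finset.sum_filter_add_sum_filter_not R' (fun c => ∀ x ∈ PF, cl x = c → x ∈ F)]
    congr 1
    · rw [Finset.card_eq_sum_ones]
      apply Finset.sum_congr rfl
      intro c hc
      rw [if_pos hc]
    · rw [Finset.card_eq_sum_ones, Finset.mul_sum]
      apply Finset.sum_congr rfl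
      intro c hc
      have : c ∉ T1 := by
        intro h
        exact (Finset.mem_filter.mp hc).2 (Finset.mem_filter.mp h).2
      rw [if_neg this, mul_one]
  have hT1le : T1.card ≤ FF.card := by
    have hsub : T1 ⊆ FF.image cl := by
      intro c hc
      obtain ⟨hcR, hprop⟩ := Finset.mem_filter.mp hc
      obtain ⟨x, hx, hxc⟩ := Finset.mem_image.mp hcR
      exact Finset.mem_image.mpr ⟨x, Finset.mem_filter.mpr ⟨Finset.mem_univ _, hprop x hx hxc⟩, hxc⟩
    exact (Finset.card_le_card hsub).trans Finset.card_image_le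
  rw [hPcard, hFcard] at hpF
  rw [hsum2] at hsum1
  rw [← hT12]
  set n := PF.card
  set f := FF.card
  set t1 := T1.card
  set t2 := T2.card
  -- 2 (t1 + t2) ≤ n + t1 ≤ n + f ; p f ≤ n
  have h1 : 2 * (t1 + t2) ≤ n + f := by omega
  calc 2 * p * (t1 + t2) = p * (2 * (t1 + t2)) := by ring
    _ ≤ p * (n + f) := Nat.mul_le_mul_left _ h1
    _ = p * n + p * f := by ring
    _ ≤ p * n + n := Nat.add_le_add_left hpF _
    _ = (p + 1) * n := by ring

end Main

end Cfsg.Agent.Lib.Helper75.PClasses
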