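import Mathlib
import Cfsg.Agent.Lib.Helper75.PClasses
import Cfsg.Agent.Lib.Helper82.PDecomp

/-!
# Counting conjugacy classes of `π`-elements (for S3899)

`card_sigClasses_insert_le`: `k_{σ ∪ {q}}(H) ≤ k_q(H) · M` when `k_σ(C_H(u)) ≤ M` for all `u`.
`card_sigClasses_le`: `k_σ(H) ≤ |H|_σ`.
-/

set_option autoImplicit false

namespace Cfsg.Agent.Lib.Helper75.PiClasses

open Cfsg.Agent.Lib.Helper75.PClasses

universe u

/-- The classes of `σ`-elements. -/
abbrev SigClasses (σ : Finset ℕ) (H : Type*) [Group H] : Type _ :=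
  {c : ConjClasses H // ∀ x ∈ c.carrier, ∀ r : ℕ, r.Prime → r ∣ orderOf x → r ∈ σ}

/-- The `σ`-part of the order. -/
noncomputable abbrev ordPart (σ : Finset ℕ) (H : Type*) : ℕ :=
  σ.prod (fun r => r ^ (Nat.card H).factorization r)

theorem orderOf_conj' {H : Type*} [Group H] (g x : H) : orderOf (g * x * g⁻¹) = orderOf x := by
  have := (MulAut.conj g).orderOf_eq x
  rwa [MulAut.conj_apply] at this

/-- Every element is the product of commuting `q`-part and `q'`-part. -/
theorem exists_qpart {H : Type*} [Group H] [Finite H] {q : ℕ} (hq : q.Prime) (x : H) :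
    ∃ w y : H, w * y = x ∧ Commute w y ∧ (∃ k : ℕ, orderOf w = q ^ k) ∧ ¬ q ∣ orderOf y := by
  by_cases h : q ∣ orderOf x
  · obtain ⟨n, m, u, s, -, hpm, hm, hsu, hcomm, hu, hs⟩ :=
      Cfsg.Agent.Lib.Helper82.exists_p_decomposition hq x h (orderOf_pos x)
    exact ⟨u, s, by rw [hcomm.eq, hsu], hcomm, ⟨n, hu⟩,
      fun h' => hpm (h'.trans (orderOf_dvd_of_pow_eq_one hs))⟩
  · exact ⟨1, x, one_mul x, Commute.one_left x, ⟨0, by simp⟩, h⟩

/-- `k_{σ ∪ {q}}(H) ≤ k_q(H) · M` when `k_σ(C_H(u)) ≤ M` for all `u`. -/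
theorem card_sigClasses_insert_le {H : Type u} [Group H] [Finite H] {q : ℕ} (hq : q.Prime)
    (σ : Finset ℕ) (M : ℕ)
    (hM : ∀ u : H, Nat.card (SigClasses σ ↥(Subgroup.centralizer ({u} : Set H))) ≤ M) :
    Nat.card (SigClasses (insert q σ) H)
      ≤ Nat.card {d : ConjClasses H // ∀ x ∈ d.carrier, ∃ k : ℕ, orderOf x = q ^ k} * M := by
  classical
  let E : {d : ConjClasses H // ∀ x ∈ d.carrier, ∃ k : ℕ, orderOf x = q ^ k} → Type u :=
    fun d => SigClasses σ ↥(Subgroup.centralizer ({Quotient.out d.1} : Set H))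
  have key : ∀ c : SigClasses (insert q σ) H, ∃ p : (Σ d, E d),
      ∃ y : H, ∃ hy : y ∈ Subgroup.centralizer ({Quotient.out p.1.1} : Set H),
        ConjClasses.mk (⟨y, hy⟩ : ↥(Subgroup.centralizer ({Quotient.out p.1.1} : Set H))) = p.2.1 ∧
          ConjClasses.mk (Quotient.out p.1.1 * y) = c.1 := by
    intro c
    obtain ⟨x, hx⟩ := ConjClasses.exists_rep c.1
    have hxσ : ∀ r : ℕ, r.Prime → r ∣ orderOf x → r ∈ insert q σ :=
      c.2 x (by rw [ConjClasses.mem_carrier_iff_mk_eq]; exact hx)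
    obtain ⟨w, y0, hwy, hcomm, ⟨k, hk⟩, hy0⟩ := exists_qpart hq x
    have hd : ∀ z ∈ (ConjClasses.mk w).carrier, ∃ k : ℕ, orderOf z = q ^ k := by
      intro z hz
      rw [ConjClasses.mem_carrier_iff_mk_eq, ConjClasses.mk_eq_mk_iff_isConj, isConj_iff] at hz
      obtain ⟨g, hg⟩ := hz
      refine ⟨k, ?_⟩
      rw [← hk, ← hg, orderOf_conj']
    have hu : ConjClasses.mk (Quotient.out (ConjClasses.mk w)) = ConjClasses.mk w :=
      Quotient.out_eq _
    rw [ConjClasses.mk_eq_mk_iff_isConj, isConj_comm, isConj_iff] at hu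
    obtain ⟨g, hg⟩ := hu
    have hyu : ∀ h ∈ ({Quotient.out (ConjClasses.mk w)} : Set H),
        h * (g * y0 * g⁻¹) = (g * y0 * g⁻¹) * h := by
      intro h hh
      rw [Set.mem_singleton_iff] at hh
      rw [hh, ← hg]
      calc g * w * g⁻¹ * (g * y0 * g⁻¹) = g * (w * y0) * g⁻¹ := by group
        _ = g * (y0 * w) * g⁻¹ := by rw [hcomm.eq]
        _ = g * y0 * g⁻¹ * (g * w * g⁻¹) := by group
    have hymem : g * y0 * g⁻¹ ∈ Subgroup.centralizer ({Quotient.out (ConjClasses.mk w)} : Set H) :=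
      Subgroup.mem_centralizer_iff.mpr hyu
    have hcop : Nat.Coprime (orderOf w) (orderOf y0) := by
      rw [hk]
      exact Nat.Coprime.pow_left k ((Nat.Prime.coprime_iff_not_dvd hq).2 hy0)
    have hord : orderOf x = orderOf w * orderOf y0 := by
      rw [← hwy]
      exact hcomm.orderOf_mul_eq_mul_orderOf_of_coprime hcop
    have hyσ : ∀ r : ℕ, r.Prime → r ∣ orderOf y0 → r ∈ σ := by
      intro r hr hry
      have h1 : r ∈ insert q σ := hxσ r hr (hord ▸ Dvd.dvd.mul_left hry _)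
      rcases Finset.mem_insert.mp h1 with h2 | h2
      · exact absurd (h2 ▸ hry) hy0
      · exact h2
    have he : ∀ z ∈ (ConjClasses.mk (⟨g * y0 * g⁻¹, hymem⟩ :
        ↥(Subgroup.centralizer ({Quotient.out (ConjClasses.mk w)} : Set H)))).carrier,
        ∀ r : ℕ, r.Prime → r ∣ orderOf z → r ∈ σ := by
      intro z hz r hr hrz
      rw [ConjClasses.mem_carrier_iff_mk_eq, ConjClasses.mk_eq_mk_iff_isConj, isConj_iff] at hz
      obtain ⟨h, hh⟩ := hz
      have h1 : orderOf z = orderOf y0 := by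
        rw [← orderOf_conj' h z, hh, Subgroup.orderOf_mk, orderOf_conj']
      exact hyσ r hr (h1 ▸ hrz)
    refine ⟨⟨⟨ConjClasses.mk w, hd⟩, ⟨ConjClasses.mk ⟨g * y0 * g⁻¹, hymem⟩, he⟩⟩,
      g * y0 * g⁻¹, hymem, rfl, ?_⟩
    rw [← hx, ConjClasses.mk_eq_mk_iff_isConj, isConj_comm, isConj_iff]
    refine ⟨g, ?_⟩
    show g * x * g⁻¹ = Quotient.out (ConjClasses.mk w) * (g * y0 * g⁻¹)
    rw [← hwy, ← hg]; group
  choose Φ hΦ using key
  have hinj : Function.Injective Φ := by
    intro c1 c2 h12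
    have h1 := hΦ c1
    have h2 := hΦ c2
    rw [h12] at h1
    obtain ⟨y1, hy1m, hy1, hc1⟩ := h1
    obtain ⟨y2, hy2m, hy2, hc2⟩ := h2
    have h3 := hy1.trans hy2.symm
    rw [ConjClasses.mk_eq_mk_iff_isConj, isConj_iff] at h3
    obtain ⟨h, hh⟩ := h3
    have hh' : (h : H) * y1 * (h : H)⁻¹ = y2 := congrArg Subtype.val hh
    have hhu : Quotient.out (Φ c2).1.1 * (h : H) = (h : H) * Quotient.out (Φ c2).1.1 :=
      Subgroup.mem_centralizer_iff.mp h.2 _ rfl
    apply Subtype.ext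
    rw [← hc1, ← hc2, ConjClasses.mk_eq_mk_iff_isConj, isConj_iff]
    refine ⟨h, ?_⟩
    rw [← hh']
    calc (h : H) * (Quotient.out (Φ c2).1.1 * y1) * (h : H)⁻¹
        = ((h : H) * Quotient.out (Φ c2).1.1) * y1 * (h : H)⁻¹ := by group
      _ = (Quotient.out (Φ c2).1.1 * (h : H)) * y1 * (h : H)⁻¹ := by rw [hhu]
      _ = Quotient.out (Φ c2).1.1 * ((h : H) * y1 * (h : H)⁻¹) := by group
  have : Fintype {d : ConjClasses H // ∀ x ∈ d.carrier, ∃ k : ℕ, orderOf x = q ^ k} :=
    Fintype.ofFinite _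
  have hfin : ∀ d, Finite (E d) := fun d => inferInstance
  calc Nat.card (SigClasses (insert q σ) H) ≤ Nat.card (Σ d, E d) :=
        Nat.card_le_card_of_injective Φ hinj
    _ = ∑ d, Nat.card (E d) := Nat.card_sigma
    _ ≤ ∑ _d : {d : ConjClasses H // ∀ x ∈ d.carrier, ∃ k : ℕ, orderOf x = q ^ k}, M :=
        Finset.sum_le_sum (fun d _ => hM _)
    _ = Nat.card {d : ConjClasses H // ∀ x ∈ d.carrier, ∃ k : ℕ, orderOf x = q ^ k} * M := by
        rw [Finset.sum_const, Finset.card_univ, smul_eq_mul, Nat.card_eq_fintype_card]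

/-- The number of classes of `q`-elements is at most the order of a Sylow `q`-subgroup. -/
theorem card_qclasses_le {H : Type*} [Group H] [Finite H] {q : ℕ} [Fact q.Prime] :
    Nat.card {d : ConjClasses H // ∀ x ∈ d.carrier, ∃ k : ℕ, orderOf x = q ^ k}
      ≤ q ^ (Nat.card H).factorization q := by
  have P : Sylow q H := default
  rw [card_p_classes P, ← Sylow.card_eq_multiplicity P]
  calc (ConjClasses.mk '' ((P : Subgroup H) : Set H)).ncard
      ≤ ((P : Subgroup H) : Set H).ncard := Set.ncard_image_le (Set.toFinite _)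
    _ = Nat.card (P : Subgroup H) := by rw [← Nat.card_coe_set_eq]; rfl

/-- Monotonicity of the `σ`-part of the order. -/
theorem ordPart_mono (σ : Finset ℕ) (hσ : ∀ r ∈ σ, r.Prime) {H : Type*} [Group H] [Finite H]
    (K : Subgroup H) : ordPart σ K ≤ ordPart σ H := by
  apply Finset.prod_le_prod'
  intro r hr
  have hdvd : Nat.card K ∣ Nat.card H := Subgroup.card_subgroup_dvd_card K
  have hle := (Nat.factorization_le_iff_dvd Nat.card_pos.ne' Nat.card_pos.ne').mpr hdvd r
  exact Nat.pow_le_pow_right (hσ r hr).pos hle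

/-- `k_σ(H) ≤ |H|_σ`. -/
theorem card_sigClasses_le : ∀ σ : Finset ℕ, (∀ r ∈ σ, r.Prime) →
    ∀ (H : Type u) [Group H] [Finite H], Nat.card (SigClasses σ H) ≤ ordPart σ H := by
  intro σ
  induction σ using Finset.induction_on with
  | empty =>
    intro _ H _ _
    rw [ordPart, Finset.prod_empty, Finite.card_le_one_iff_subsingleton]
    have h1 : ∀ a : SigClasses ∅ H, a.1 = ConjClasses.mk 1 := by
      intro a
      obtain ⟨x, hx⟩ := ConjClasses.exists_rep a.1
      have hxσ := a.2 x (by rw [ConjClasses.mem_carrier_iff_mk_eq]; exact hx)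
      have h2 : orderOf x = 1 := by
        rw [Nat.eq_one_iff_not_exists_prime_dvd]
        intro r hr hrx
        exact absurd (hxσ r hr hrx) (Finset.notMem_empty r)
      rw [orderOf_eq_one_iff] at h2
      rw [← hx, h2]
    constructor
    intro a b
    apply Subtype.ext
    rw [h1 a, h1 b]
  | insert q σ hqσ ih =>
    intro hσ H _ _
    have hq : q.Prime := hσ q (Finset.mem_insert_self _ _)
    have : Fact q.Prime := ⟨hq⟩
    have hσ' : ∀ r ∈ σ, r.Prime := fun r hr => hσ r (Finset.mem_insert_of_mem hr)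
    have h1 := card_sigClasses_insert_le hq σ (ordPart σ H)
      (fun u => (ih hσ' _).trans (ordPart_mono σ hσ' _))
    have h2 := card_qclasses_le (H := H) (q := q)
    calc Nat.card (SigClasses (insert q σ) H)
        ≤ Nat.card {d : ConjClasses H // ∀ x ∈ d.carrier, ∃ k : ℕ, orderOf x = q ^ k}
            * ordPart σ H := h1
      _ ≤ q ^ (Nat.card H).factorization q * ordPart σ H := Nat.mul_le_mul_right _ h2
      _ = ordPart (insert q σ) H := by
          rw [ordPart, ordPart, Finset.prod_insert hqσ]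

/-- `k_π(G) ≤ k_q(G) · |G|_{π - q}` for `q ∈ π`. -/
theorem card_sigClasses_le_mul {G : Type u} [Group G] [Finite G] (π : Finset ℕ)
    (hπ : ∀ r ∈ π, r.Prime) {q : ℕ} (hq : q ∈ π) :
    Nat.card (SigClasses π G)
      ≤ Nat.card {d : ConjClasses G // ∀ x ∈ d.carrier, ∃ k : ℕ, orderOf x = q ^ k}
          * ordPart (π.erase q) G := by
  have hσ' : ∀ r ∈ π.erase q, r.Prime := fun r hr => hπ r (Finset.mem_of_mem_erase hr)
  have h1 := card_sigClasses_insert_le (H := G) (hπ q hq) (π.erase q)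
    (ordPart (π.erase q) G)
    (fun u => (card_sigClasses_le _ hσ' _).trans (ordPart_mono _ hσ' _))
  rwa [Finset.insert_erase hq] at h1

end Cfsg.Agent.Lib.Helper75.PiClasses
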