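import Mathlib
import Cfsg.Agent.Lib.Helper75.PiClasses

/-!
# More on classes of `π`-elements (for S3898)

* `card_sigClasses_insert_le'`: splitting off the `q`-part last.
* `m_mul_classes_le`: orbit counting with a lower bound for the nontrivial orbits.
* `odd_many_classes`: in a group of odd order, `k_q(G) > |Q|/2` forces a normal `q`-complement and
  abelian Sylow `q`-subgroups.
* `exists_normal_compl_of_all`: assembling the normal `τ`-complement and the abelian Hall subgroup.
-/

set_option autoImplicit false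

namespace Cfsg.Agent.Lib.Helper75.PiClasses

open Cfsg Cfsg.Agent.Lib.Helper41 Cfsg.Agent.Lib.Helper27
open Cfsg.Agent.Lib.Helper75.PClasses Cfsg.Agent.Lib.Helper75.TwoClasses

universe u

/-- `k_{σ ∪ {q}}(H) ≤ k_σ(H) · M` when `k_q(C_H(v)) ≤ M` for all `v`. -/
theorem card_sigClasses_insert_le' {H : Type u} [Group H] [Finite H] {q : ℕ} (hq : q.Prime)
    (σ : Finset ℕ) (M : ℕ)
    (hM : ∀ v : H, Nat.card {d : ConjClasses ↥(Subgroup.centralizer ({v} : Set H)) //
      ∀ x ∈ d.carrier, ∃ k : ℕ, orderOf x = q ^ k} ≤ M) :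
    Nat.card (SigClasses (insert q σ) H) ≤ Nat.card (SigClasses σ H) * M := by
  classical
  let E : SigClasses σ H → Type u :=
    fun e => {d : ConjClasses ↥(Subgroup.centralizer ({Quotient.out e.1} : Set H)) //
      ∀ x ∈ d.carrier, ∃ k : ℕ, orderOf x = q ^ k}
  have key : ∀ c : SigClasses (insert q σ) H, ∃ p : (Σ e, E e),
      ∃ y : H, ∃ hy : y ∈ Subgroup.centralizer ({Quotient.out p.1.1} : Set H),
        ConjClasses.mk (⟨y, hy⟩ : ↥(Subgroup.centralizer ({Quotient.out p.1.1} : Set H))) = p.2.1 ∧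
          ConjClasses.mk (Quotient.out p.1.1 * y) = c.1 := by
    intro c
    obtain ⟨x, hx⟩ := ConjClasses.exists_rep c.1
    have hxσ : ∀ r : ℕ, r.Prime → r ∣ orderOf x → r ∈ insert q σ :=
      c.2 x (by rw [ConjClasses.mem_carrier_iff_mk_eq]; exact hx)
    obtain ⟨w, y0, hwy, hcomm, ⟨k, hk⟩, hy0⟩ := exists_qpart hq x
    have hcop : Nat.Coprime (orderOf w) (orderOf y0) := by
      rw [hk]
      exact Nat.Coprime.pow_left k ((Nat.Prime.coprime_iff_not_dvd hq).2 hy0)
    have hord : orderOf x = orderOf w * orderOf y0 := by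
      rw [← hwy]
      exact hcomm.orderOf_mul_eq_mul_orderOf_of_coprime hcop
    have hyσ : ∀ r : ℕ, r.Prime → r ∣ orderOf y0 → r ∈ σ := by
      intro r hr hry
      have h1 : r ∈ insert q σ := hxσ r hr (hord ▸ Dvd.dvd.mul_left hry _)
      rcases Finset.mem_insert.mp h1 with h2 | h2
      · exact absurd (h2 ▸ hry) hy0
      · exact h2
    have he : ∀ z ∈ (ConjClasses.mk y0).carrier, ∀ r : ℕ, r.Prime → r ∣ orderOf z → r ∈ σ := by
      intro z hz r hr hrz
      rw [ConjClasses.mem_carrier_iff_mk_eq, ConjClasses.mk_eq_mk_iff_isConj, isConj_iff] at hz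
      obtain ⟨g, hg⟩ := hz
      have h1 : orderOf z = orderOf y0 := by rw [← hg, orderOf_conj']
      exact hyσ r hr (h1 ▸ hrz)
    have hu : ConjClasses.mk (Quotient.out (ConjClasses.mk y0)) = ConjClasses.mk y0 :=
      Quotient.out_eq _
    rw [ConjClasses.mk_eq_mk_iff_isConj, isConj_comm, isConj_iff] at hu
    obtain ⟨g, hg⟩ := hu
    have hyu : ∀ h ∈ ({Quotient.out (ConjClasses.mk y0)} : Set H),
        h * (g * w * g⁻¹) = (g * w * g⁻¹) * h := by
      intro h hh
      rw [Set.mem_singleton_iff] at hh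
      rw [hh, ← hg]
      calc g * y0 * g⁻¹ * (g * w * g⁻¹) = g * (y0 * w) * g⁻¹ := by group
        _ = g * (w * y0) * g⁻¹ := by rw [hcomm.eq]
        _ = g * w * g⁻¹ * (g * y0 * g⁻¹) := by group
    have hymem : g * w * g⁻¹ ∈ Subgroup.centralizer ({Quotient.out (ConjClasses.mk y0)} : Set H) :=
      Subgroup.mem_centralizer_iff.mpr hyu
    have hd : ∀ z ∈ (ConjClasses.mk (⟨g * w * g⁻¹, hymem⟩ :
        ↥(Subgroup.centralizer ({Quotient.out (ConjClasses.mk y0)} : Set H)))).carrier,
        ∃ k : ℕ, orderOf z = q ^ k := by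
      intro z hz
      rw [ConjClasses.mem_carrier_iff_mk_eq, ConjClasses.mk_eq_mk_iff_isConj, isConj_iff] at hz
      obtain ⟨h, hh⟩ := hz
      refine ⟨k, ?_⟩
      rw [← orderOf_conj' h z, hh, Subgroup.orderOf_mk, orderOf_conj', hk]
    refine ⟨⟨⟨ConjClasses.mk y0, he⟩, ⟨ConjClasses.mk ⟨g * w * g⁻¹, hymem⟩, hd⟩⟩,
      g * w * g⁻¹, hymem, rfl, ?_⟩
    rw [← hx, ConjClasses.mk_eq_mk_iff_isConj, isConj_comm, isConj_iff]
    refine ⟨g, ?_⟩
    show g * x * g⁻¹ = Quotient.out (ConjClasses.mk y0) * (g * w * g⁻¹)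
    rw [← hwy, ← hg, hcomm.eq]; group
  choose Φ hΦ using key
  have hinj : Function.Injective Φ := by
    intro c1 c2 h12
    have h1 := hΦ c1
    have h2 := hΦ c2
    rw [h12] at h1
    obtain ⟨y1, hy1m, hy1, hc1⟩ := h1
    obtain ⟨y2, hy2m, hy2, hc2⟩ := h2
    have h3 := hy1.trans hy2.symm
    rw [ConjClasses.mk_eq_mk_iff_isConj, isConj_iff] at h3
    obtain ⟨h, hh⟩ := h3
    have hh' : (h : H) * y1 * (h : H)⁻¹ = y2 := congrArg Subtype.val hh
    have hhu : Quotient.out (Φ c2).1.1 * (h : H) = (h : H) * Quotient.out (Φ c2).1.1 :=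
      Subgroup.mem_centralizer_iff.mp h.2 _ rfl
    apply Subtype.ext
    rw [← hc1, ← hc2, ConjClasses.mk_eq_mk_iff_isConj, isConj_iff]
    refine ⟨h, ?_⟩
    rw [← hh']
    calc (h : H) * (Quotient.out (Φ c2).1.1 * y1) * (h : H)⁻¹
        = ((h : H) * Quotient.out (Φ c2).1.1) * y1 * (h : H)⁻¹ := by group
      _ = (Quotient.out (Φ c2).1.1 * (h : H)) * y1 * (h : H)⁻¹ := by rw [hhu]
      _ = Quotient.out (Φ c2).1.1 * ((h : H) * y1 * (h : H)⁻¹) := by group
  have : Fintype (SigClasses σ H) := Fintype.ofFinite _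
  have hfin : ∀ e, Finite (E e) := fun e => inferInstance
  calc Nat.card (SigClasses (insert q σ) H) ≤ Nat.card (Σ e, E e) :=
        Nat.card_le_card_of_injective Φ hinj
    _ = ∑ e, Nat.card (E e) := Nat.card_sigma
    _ ≤ ∑ _e : SigClasses σ H, M := Finset.sum_le_sum (fun e _ => hM _)
    _ = Nat.card (SigClasses σ H) * M := by
        rw [Finset.sum_const, Finset.card_univ, smul_eq_mul, Nat.card_eq_fintype_card]

section Orbit

variable {G : Type*} [Group G]

theorem iterate_conj (g x : G) (n : ℕ) : (fun y => g * y * g⁻¹)^[n] x = g ^ n * x * (g ^ n)⁻¹ := by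
  induction n with
  | zero => simp
  | succ n ih =>
    rw [Function.iterate_succ_apply', ih, pow_succ']
    group

/-- If every element of `P` moved by `g` has period at least `m` under conjugation by `g`, then
`T₁ + m T₂ ≤ |P|`-type counting gives: `q m k ≤ (m + q - 1) |P|`, stated here in the raw form. -/
theorem m_mul_classes_le [Finite G] {q : ℕ} [Fact q.Prime] {P : Subgroup G} (hP : IsPGroup q P)
    {g : G} (hgN : g ∈ Subgroup.normalizer (P : Set G))
    (hgC : g ∉ Subgroup.centralizer (P : Set G)) (m : ℕ)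
    (hm : ∀ x ∈ P, g * x * g⁻¹ ≠ x → m ≤ Function.minimalPeriod (fun y => g * y * g⁻¹) x) :
    ∃ t1 t2 f : ℕ, (ConjClasses.mk '' (P : Set G)).ncard = t1 + t2 ∧ t1 + m * t2 ≤ Nat.card P ∧
      t1 ≤ f ∧ q * f ≤ Nat.card P := by
  classical
  have hq : q.Prime := Fact.out
  have : Fintype G := Fintype.ofFinite G
  set F : Subgroup G := P ⊓ Subgroup.centralizer ({g} : Set G) with hF
  have hFP : F ≤ P := inf_le_left
  have hmemF : ∀ x, x ∈ F ↔ x ∈ P ∧ g * x * g⁻¹ = x := by
    intro x
    rw [hF, Subgroup.mem_inf, Subgroup.mem_centralizer_iff]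
    constructor
    · rintro ⟨h1, h2⟩
      refine ⟨h1, ?_⟩
      have := h2 g rfl
      rw [this]; group
    · rintro ⟨h1, h2⟩
      refine ⟨h1, ?_⟩
      intro y hy
      rw [Set.mem_singleton_iff] at hy
      rw [hy]
      calc g * x = g * x * g⁻¹ * g := by group
        _ = x * g := by rw [h2]
  have hne : F.subgroupOf P ≠ ⊤ := by
    intro h
    apply hgC
    rw [Subgroup.mem_centralizer_iff]
    intro d hd
    have h1 : (⟨d, hd⟩ : P) ∈ F.subgroupOf P := h ▸ Subgroup.mem_top _
    rw [Subgroup.mem_subgroupOf] at h1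
    have h2 := ((hmemF d).mp h1).2
    calc d * g = g * d * g⁻¹ * g := by rw [h2]
      _ = g * d := by group
  have hpF : q * Nat.card F ≤ Nat.card P := by
    have := p_mul_card_le_of_lt hP hne
    rwa [Nat.card_congr (Subgroup.subgroupOfEquivOfLe hFP).toEquiv] at this
  set cl : G → ConjClasses G := ConjClasses.mk with hcl
  have hclconj : ∀ (u x : G), cl (u * x * u⁻¹) = cl x := by
    intro u x
    rw [hcl, ConjClasses.mk_eq_mk_iff_isConj, isConj_comm, isConj_iff]
    exact ⟨u, rfl⟩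
  set PF : Finset G := Finset.univ.filter (· ∈ P) with hPF
  set FF : Finset G := Finset.univ.filter (· ∈ F) with hFF
  have hPcard : Nat.card P = PF.card := by
    rw [Nat.card_eq_fintype_card, Fintype.card_subtype]
  have hFcard : Nat.card F = FF.card := by
    rw [Nat.card_eq_fintype_card, Fintype.card_subtype]
  have hconv : (ConjClasses.mk '' (P : Set G)).ncard = (PF.image cl).card := by
    rw [← Set.ncard_coe_finset]
    congr 1
    ext c
    simp [PF, hcl]
  set R' : Finset (ConjClasses G) := PF.image cl with hR'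
  set T1 : Finset (ConjClasses G) := R'.filter (fun c => ∀ x ∈ PF, cl x = c → x ∈ F) with hT1
  set T2 : Finset (ConjClasses G) := R'.filter (fun c => ¬ ∀ x ∈ PF, cl x = c → x ∈ F) with hT2
  have hT12 : T1.card + T2.card = R'.card := Finset.card_filter_add_card_filter_not _
  have hsum1 : ∑ c ∈ R', (if c ∈ T1 then 1 else m) ≤ PF.card := by
    apply sum_le_card_of_fibers
    intro c hc
    by_cases hc1 : c ∈ T1
    · rw [if_pos hc1]
      obtain ⟨x, hx, hxc⟩ := Finset.mem_image.mp hc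
      exact Finset.card_pos.mpr ⟨x, Finset.mem_filter.mpr ⟨hx, hxc⟩⟩
    · rw [if_neg hc1]
      have hc2 : ¬ ∀ x ∈ PF, cl x = c → x ∈ F := by
        intro h
        exact hc1 (Finset.mem_filter.mpr ⟨hc, h⟩)
      simp only [not_forall] at hc2
      obtain ⟨x, hxD, hxc, hxF⟩ := hc2
      have hxD' : x ∈ P := (Finset.mem_filter.mp hxD).2
      have hmove : g * x * g⁻¹ ≠ x := fun h => hxF ((hmemF x).mpr ⟨hxD', h⟩)
      have hmx := hm x hxD' hmove
      set s := Function.minimalPeriod (fun y => g * y * g⁻¹) x with hs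
      have hinjOn := Function.iterate_injOn_Iio_minimalPeriod (f := fun y => g * y * g⁻¹) (x := x)
      have hsub : (Finset.range s).image (fun i => (fun y => g * y * g⁻¹)^[i] x)
          ⊆ PF.filter (fun a => cl a = c) := by
        intro a ha
        obtain ⟨i, _, rfl⟩ := Finset.mem_image.mp ha
        rw [iterate_conj]
        have hgi : g ^ i ∈ Subgroup.normalizer (P : Set G) := Subgroup.pow_mem _ hgN i
        refine Finset.mem_filter.mpr ⟨Finset.mem_filter.mpr ⟨Finset.mem_univ _, ?_⟩, ?_⟩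
        · exact (Subgroup.mem_normalizer_iff.mp hgi x).mp hxD'
        · rw [hclconj, hxc]
      have hcardimg : ((Finset.range s).image (fun i => (fun y => g * y * g⁻¹)^[i] x)).card = s := by
        rw [Finset.card_image_of_injOn, Finset.card_range]
        intro i hi j hj hij
        exact hinjOn (by simpa using hi) (by simpa using hj) hij
      calc m ≤ s := hmx
        _ = _ := hcardimg.symm
        _ ≤ _ := Finset.card_le_card hsub
  have hsum2 : ∑ c ∈ R', (if c ∈ T1 then 1 else m) = T1.card + m * T2.card := by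
    rw [← Finset.sum_filter_add_sum_filter_not R' (fun c => ∀ x ∈ PF, cl x = c → x ∈ F)]
    congr 1
    · rw [Finset.card_eq_sum_ones]
      apply Finset.sum_congr rfl
      intro c hc
      rw [if_pos hc]
    · rw [Finset.card_eq_sum_ones, Finset.mul_sum]
      apply Finset.sum_congr rfl
      intro c hc
      have : c ∉ T1 := by
        intro h
        exact (Finset.mem_filter.mp hc).2 (Finset.mem_filter.mp h).2
      rw [if_neg this, mul_one]
  have hT1le : T1.card ≤ FF.card := by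
    have hsub : T1 ⊆ FF.image cl := by
      intro c hc
      obtain ⟨hcR, hprop⟩ := Finset.mem_filter.mp hc
      obtain ⟨x, hx, hxc⟩ := Finset.mem_image.mp hcR
      exact Finset.mem_image.mpr ⟨x, Finset.mem_filter.mpr ⟨Finset.mem_univ _, hprop x hx hxc⟩, hxc⟩
    exact (Finset.card_le_card hsub).trans Finset.card_image_le
  refine ⟨T1.card, T2.card, FF.card, ?_, ?_, hT1le, ?_⟩
  · rw [hconv, hT12]
  · rw [hPcard, ← hsum2]; exact hsum1
  · rw [← hFcard]; exact hpF

end Orbit

/-- In a group of odd order, `k_q(G) > |Q| / 2` forces a normal `q`-complement and abelian Sylow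
`q`-subgroups. -/
theorem odd_many_classes {G : Type*} [Group G] [Finite G] (hodd : Odd (Nat.card G))
    {q : ℕ} [Fact q.Prime] (hq2 : q ≠ 2) (Q : Sylow q G)
    (h : Nat.card ↥(Q : Subgroup G) < 2 * Nat.card {c : ConjClasses G //
      ∀ x ∈ c.carrier, ∃ k : ℕ, orderOf x = q ^ k}) :
    Cfsg.HasNormalPComplement q G ∧ IsMulCommutative ↥(Q : Subgroup G) := by
  have hq : q.Prime := Fact.out
  have hq3 : 3 ≤ q := by
    have := hq.two_le
    omega
  rw [card_p_classes Q] at h
  have hle := ncard_classes_le (Q : Subgroup G)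
  have hab : ∀ a b : ↥(Q : Subgroup G), a * b = b * a := by
    by_contra hnc
    have h1 := card_classes_le_of_not_comm Q.2 hnc
    set n := Nat.card ↥(Q : Subgroup G)
    set k := Nat.card (ConjClasses ↥(Q : Subgroup G))
    have hnpos : 0 < n := Nat.card_pos
    have h2 : n < 2 * k := lt_of_lt_of_le h (Nat.mul_le_mul_left _ hle)
    have h3 : q ^ 3 * n < 2 * ((q ^ 2 + q - 1) * n) := by
      calc q ^ 3 * n < q ^ 3 * (2 * k) := Nat.mul_lt_mul_of_pos_left h2 (by positivity)
        _ = 2 * (q ^ 3 * k) := by ring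
        _ ≤ 2 * ((q ^ 2 + q - 1) * n) := Nat.mul_le_mul_left _ h1
    have h4 : q ^ 3 < 2 * (q ^ 2 + q - 1) := by
      have : q ^ 3 * n < 2 * (q ^ 2 + q - 1) * n := by
        calc q ^ 3 * n < 2 * ((q ^ 2 + q - 1) * n) := h3
          _ = 2 * (q ^ 2 + q - 1) * n := by ring
      exact lt_of_mul_lt_mul_right this (Nat.zero_le _)
    have h5 : 2 * (q ^ 2 + q - 1) ≤ 2 * (q ^ 2 + q) := by omega
    have h6 : q ^ 3 < 2 * (q ^ 2 + q) := lt_of_lt_of_le h4 h5
    nlinarith
  have hcomm : IsMulCommutative ↥(Q : Subgroup G) := ⟨⟨hab⟩⟩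
  refine ⟨?_, hcomm⟩
  by_contra hn
  rw [hasNormalPComplement_iff_frobCond] at hn
  obtain ⟨D, hDP, hcent, g, hgN, hcop, hgC⟩ := exists_centric_of_not_frobCond Q hn
  have hDeq : D = (Q : Subgroup G) := by
    apply le_antisymm hDP
    intro x hx
    apply hcent
    refine Subgroup.mem_inf.mpr ⟨hx, ?_⟩
    rw [Subgroup.mem_centralizer_iff]
    intro d hd
    have := hab ⟨d, hDP hd⟩ ⟨x, hx⟩
    exact congrArg Subtype.val this
  rw [hDeq] at hgN hgC
  have hgodd : Odd (orderOf g) := by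
    have hdvd : orderOf g ∣ Nat.card G := orderOf_dvd_natCard g
    exact Odd.of_dvd_nat hodd hdvd
  set m : ℕ := if q = 3 then 5 else 3 with hmdef
  have hm : ∀ x ∈ (Q : Subgroup G), g * x * g⁻¹ ≠ x →
      m ≤ Function.minimalPeriod (fun y => g * y * g⁻¹) x := by
    intro x _ hmove
    set s := Function.minimalPeriod (fun y => g * y * g⁻¹) x with hs
    have hper : Function.IsPeriodicPt (fun y => g * y * g⁻¹) (orderOf g) x := by
      show (fun y => g * y * g⁻¹)^[orderOf g] x = x
      rw [iterate_conj, pow_orderOf_eq_one]; simp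
    have hsdvd : s ∣ orderOf g := hper.minimalPeriod_dvd
    have hspos : 0 < s := hper.minimalPeriod_pos (orderOf_pos g)
    have hs1 : s ≠ 1 := by
      intro h1
      rw [hs, Function.minimalPeriod_eq_one_iff_isFixedPt] at h1
      exact hmove h1
    have hsodd : Odd s := Odd.of_dvd_nat hgodd hsdvd
    have hscop : Nat.Coprime s q := Nat.Coprime.coprime_dvd_left hsdvd hcop
    have hs3 : 3 ≤ s := by
      rcases hsodd with ⟨j, hj⟩
      omega
    by_cases hq3' : q = 3
    · rw [hmdef, if_pos hq3']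
      rw [hq3'] at hscop
      have hs3' : s ≠ 3 := by
        intro h3
        rw [h3] at hscop
        norm_num at hscop
      rcases hsodd with ⟨j, hj⟩
      omega
    · rw [hmdef, if_neg hq3']
      exact hs3
  obtain ⟨t1, t2, f, hK, h1, h2, h3⟩ := m_mul_classes_le Q.2 hgN hgC m hm
  rw [hK] at h
  by_cases hq3' : q = 3
  · rw [hmdef, if_pos hq3'] at h1
    have h3' : 3 * f ≤ Nat.card ↥(Q : Subgroup G) :=
      le_trans (Nat.mul_le_mul_right f (le_of_eq hq3'.symm)) h3
    omega
  · rw [hmdef, if_neg hq3'] at h1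
    have hq5 : 5 ≤ q := by
      rcases Nat.lt_or_ge q 5 with h5 | h5
      · interval_cases q
        · exact absurd rfl hq3'
        · exact absurd hq (by norm_num)
      · exact h5
    have h3' : 5 * f ≤ Nat.card ↥(Q : Subgroup G) :=
      le_trans (Nat.mul_le_mul_right f hq5) h3
    omega

/-- The normal `q`-complement with its properties. -/
theorem exists_compl_q' {G : Type*} [Group G] [Finite G] {q : ℕ} [Fact q.Prime]
    (h : ∀ Q : Sylow q G, Cfsg.HasNormalPComplement q G ∧ IsMulCommutative ↥(Q : Subgroup G)) :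
    ∃ N : Subgroup G, N.Normal ∧ ¬ q ∣ Nat.card N ∧ (∀ r : ℕ, r.Prime → r ∣ N.index → r = q) ∧
      ∀ a b : G, a * b * a⁻¹ * b⁻¹ ∈ N := by
  have hqp : q.Prime := Fact.out
  obtain ⟨Q, N, hNn, hc⟩ := (h default).1
  have hQc : IsMulCommutative ↥(Q : Subgroup G) := (h Q).2
  refine ⟨N, hNn, ?_, ?_, ?_⟩
  · rw [← hc.index_eq_card]
    exact Q.not_dvd_index
  · intro r hr hrN
    rw [hc.symm.index_eq_card] at hrN
    obtain ⟨n, hn⟩ := IsPGroup.iff_card.mp Q.2
    rw [hn] at hrN
    exact (Nat.prime_dvd_prime_iff_eq hr hqp).mp (hr.dvd_of_dvd_pow hrN)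
  · intro a b
    obtain ⟨⟨n1, u1⟩, hnu1⟩ := hc.2 a
    obtain ⟨⟨n2, u2⟩, hnu2⟩ := hc.2 b
    simp only at hnu1 hnu2
    have hu : (u1 : G) * (u2 : G) = (u2 : G) * (u1 : G) := by
      have := hQc.is_comm.comm u1 u2
      exact congrArg Subtype.val this
    have hmk : ∀ (n : N) (u : G), (QuotientGroup.mk ((n : G) * u) : G ⧸ N) = QuotientGroup.mk u := by
      intro n u
      rw [QuotientGroup.mk_mul, (QuotientGroup.eq_one_iff (n : G)).mpr n.2, one_mul]
    have ha : (QuotientGroup.mk a : G ⧸ N) = QuotientGroup.mk (u1 : G) := by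
      rw [← hnu1]; exact hmk n1 u1
    have hb : (QuotientGroup.mk b : G ⧸ N) = QuotientGroup.mk (u2 : G) := by
      rw [← hnu2]; exact hmk n2 u2
    rw [← QuotientGroup.eq_one_iff]
    simp only [QuotientGroup.mk_mul, QuotientGroup.mk_inv, ha, hb]
    rw [← QuotientGroup.mk_mul, hu, QuotientGroup.mk_mul]
    group

/-- If `G` is `q`-nilpotent with abelian Sylow `q`-subgroups for all `q ∈ τ`, then `G` has a normal
`τ`-complement with an abelian complement. -/
theorem exists_normal_compl_of_all {G : Type*} [Group G] [Finite G] (τ : Finset ℕ)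
    (hτ : ∀ r ∈ τ, r.Prime)
    (h : ∀ q ∈ τ, ∀ (_ : Fact q.Prime) (Q : Sylow q G),
      Cfsg.HasNormalPComplement q G ∧ IsMulCommutative ↥(Q : Subgroup G)) :
    ∃ N H : Subgroup G, N.Normal ∧ (∀ r ∈ τ, ¬ r ∣ Nat.card N) ∧
      (∀ r : ℕ, r.Prime → r ∣ N.index → r ∈ τ) ∧ N.IsComplement' H ∧ IsMulCommutative ↥H := by
  classical
  have hstep : ∀ q ∈ τ, ∃ N : Subgroup G, N.Normal ∧ ¬ q ∣ Nat.card N ∧
      (∀ r : ℕ, r.Prime → r ∣ N.index → r = q) ∧ ∀ a b : G, a * b * a⁻¹ * b⁻¹ ∈ N := by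
    intro q hq
    have hf : Fact q.Prime := ⟨hτ q hq⟩
    exact exists_compl_q' (fun Q => h q hq hf Q)
  have hind : ∀ σ : Finset ℕ, σ ⊆ τ → ∃ N : Subgroup G, N.Normal ∧ (∀ r ∈ σ, ¬ r ∣ Nat.card N) ∧
      (∀ r : ℕ, r.Prime → r ∣ N.index → r ∈ σ) ∧ ∀ a b : G, a * b * a⁻¹ * b⁻¹ ∈ N := by
    intro σ
    induction σ using Finset.induction_on with
    | empty =>
      intro _
      refine ⟨⊤, inferInstance, ?_, ?_, ?_⟩
      · intro r hr; exact absurd hr (Finset.notMem_empty r)
      · intro r hr hrN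
        rw [Subgroup.index_top] at hrN
        exact absurd (Nat.dvd_one.mp hrN) hr.ne_one
      · intro a b; exact Subgroup.mem_top _
    | insert q σ hqσ ih =>
      intro hsub
      obtain ⟨N, hNn, hN1, hN2, hN3⟩ := ih (fun r hr => hsub (Finset.mem_insert_of_mem hr))
      obtain ⟨Nq, hNqn, hq1, hq2, hq3⟩ := hstep q (hsub (Finset.mem_insert_self _ _))
      refine ⟨N ⊓ Nq, inferInstance, ?_, ?_, ?_⟩
      · intro r hr hrd
        rcases Finset.mem_insert.mp hr with h | h
        · rw [h] at hrd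
          exact hq1 (hrd.trans (Subgroup.card_dvd_of_le inf_le_right))
        · exact hN1 r h (hrd.trans (Subgroup.card_dvd_of_le inf_le_left))
      · intro r hr hrd
        have h1 : (N ⊓ Nq).relIndex N * N.index = (N ⊓ Nq).index :=
          Subgroup.relIndex_mul_index inf_le_left
        rw [← h1, Subgroup.inf_relIndex_left] at hrd
        rcases (Nat.Prime.dvd_mul hr).mp hrd with h | h
        · have h2 : Nq.relIndex N ∣ Nq.index := Subgroup.relIndex_dvd_index_of_normal Nq N
          rw [Finset.mem_insert]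
          exact Or.inl (hq2 r hr (h.trans h2))
        · exact Finset.mem_insert_of_mem (hN2 r hr h)
      · intro a b
        exact Subgroup.mem_inf.mpr ⟨hN3 a b, hq3 a b⟩
  obtain ⟨N, hNn, hN1, hN2, hN3⟩ := hind τ (Finset.Subset.refl _)
  have hcop : Nat.Coprime (Nat.card N) N.index := by
    apply Nat.coprime_of_dvd
    intro r hr hr1 hr2
    exact hN1 r (hN2 r hr hr2) hr1
  obtain ⟨H, hH⟩ := Subgroup.exists_right_complement'_of_coprime hcop
  refine ⟨N, H, hNn, hN1, hN2, hH, ⟨⟨?_⟩⟩⟩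
  intro h1 h2
  have hmem : (h1 : G) * h2 * (h1 : G)⁻¹ * (h2 : G)⁻¹ ∈ N ⊓ H :=
    Subgroup.mem_inf.mpr ⟨hN3 _ _, H.mul_mem (H.mul_mem (H.mul_mem h1.2 h2.2)
      (H.inv_mem h1.2)) (H.inv_mem h2.2)⟩
  rw [hH.disjoint.eq_bot, Subgroup.mem_bot] at hmem
  apply Subtype.ext
  show (h1 : G) * h2 = h2 * h1
  calc (h1 : G) * h2 = ((h1 : G) * h2 * (h1 : G)⁻¹ * (h2 : G)⁻¹) * (h2 * h1) := by group
    _ = h2 * h1 := by rw [hmem, one_mul]

end Cfsg.Agent.Lib.Helper75.PiClasses
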