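import Mathlib

set_option autoImplicit false

namespace Cfsg.Agent.Lib.Helper75.SNC

open Subgroup

/-- conjugation action of a subgroup `S ≤ N(W)` on `W` -/
@[reducible] def conjActX7 {G : Type*} [Group G] (W S : Subgroup G)
    (hS : S ≤ Subgroup.normalizer (W : Set G)) : MulAction S W where
  smul g w := ⟨g.1 * w.1 * g.1⁻¹, (Subgroup.mem_normalizer_iff.mp (hS g.2) w.1).mp w.2⟩
  one_smul w := by
    apply Subtype.ext
    show (1 : G) * w.1 * (1 : G)⁻¹ = w.1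
    group
  mul_smul g h w := by
    apply Subtype.ext
    show (g.1 * h.1) * w.1 * (g.1 * h.1)⁻¹ = g.1 * (h.1 * w.1 * h.1⁻¹) * g.1⁻¹
    group

/-- a free automorphism of prime order `s`: `|W| ≡ 1 mod s` -/
theorem card_modEq_one_x7 {G : Type*} [Group G] [Finite G] (W : Subgroup G) (m : G) (s : ℕ)
    (hs : s.Prime) (hm : orderOf m = s) (hmW : m ∈ Subgroup.normalizer (W : Set G))
    (hfree : ∀ w ∈ W, w ≠ 1 → m * w * m⁻¹ ≠ w) : Nat.card W ≡ 1 [MOD s] := by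
  classical
  have : Fact s.Prime := ⟨hs⟩
  have hS : zpowers m ≤ Subgroup.normalizer (W : Set G) := by
    rw [Subgroup.zpowers_le]; exact hmW
  let _ := conjActX7 W (zpowers m) hS
  have hp : IsPGroup s (zpowers m) := IsPGroup.of_card (n := 1) (by rw [Nat.card_zpowers, hm, pow_one])
  have h1 := hp.card_modEq_card_fixedPoints W
  have h2 : Nat.card (MulAction.fixedPoints (zpowers m) W) = 1 := by
    rw [Nat.card_eq_one_iff_unique]
    refine ⟨⟨?_⟩, ⟨⟨1, fun g => ?_⟩⟩⟩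
    · rintro ⟨a, ha⟩ ⟨b, hb⟩
      have ha1 : a = 1 := by
        by_contra hne
        have hne' : a.1 ≠ 1 := fun h => hne (Subtype.ext h)
        apply hfree a.1 a.2 hne'
        have := ha ⟨m, mem_zpowers m⟩
        exact congrArg Subtype.val this
      have hb1 : b = 1 := by
        by_contra hne
        have hne' : b.1 ≠ 1 := fun h => hne (Subtype.ext h)
        apply hfree b.1 b.2 hne'
        have := hb ⟨m, mem_zpowers m⟩
        exact congrArg Subtype.val this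
      apply Subtype.ext
      exact ha1.trans hb1.symm
    · apply Subtype.ext
      show g.1 * (1 : G) * g.1⁻¹ = 1
      group
  rw [h2] at h1
  exact h1

theorem borel_abstract {G : Type*} [Group G] [Finite G] (C : Subgroup G) (r : ℕ) (hr : r.Prime)
    (hCcomm : ∀ a ∈ C, ∀ b ∈ C, a * b = b * a) (hC2 : IsPGroup 2 C) (hcard : Nat.card C = r + 1)
    (hodd : ∀ n ∈ Subgroup.normalizer (C : Set G), n ∉ C → ¬ 2 ∣ orderOf n)
    (hcyc : ∃ n0 ∈ Subgroup.normalizer (C : Set G),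
      ∀ n ∈ Subgroup.normalizer (C : Set G), ∃ i : ℕ, n * n0 ^ i ∈ C)
    (hfree : ∀ n ∈ Subgroup.normalizer (C : Set G), n ∉ C → ∀ c ∈ C, c ≠ 1 → n * c * n⁻¹ ≠ c)
    (H : Subgroup G) (hHN : H ≤ Subgroup.normalizer (C : Set G)) (hH : ¬ IsMulCommutative H) :
    Subgroup.normalizer (C : Set G) ≤ H := by
  classical
  obtain ⟨n0, hn0, hn0gen⟩ := hcyc
  -- conjugation by normalizer elements preserves `C`
  have hconj : ∀ n ∈ Subgroup.normalizer (C : Set G), ∀ c ∈ C, n * c * n⁻¹ ∈ C :=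
    fun n hn c hc => (Subgroup.mem_normalizer_iff.mp hn c).mp hc
  -- Step 1: a nontrivial element of `H ⊓ C`
  have hex1 : ∃ c0 ∈ H, c0 ∈ C ∧ c0 ≠ 1 := by
    by_contra hcon
    apply hH
    refine ⟨⟨fun x y => ?_⟩⟩
    by_contra hxy
    apply hcon
    obtain ⟨i, hi⟩ := hn0gen x.1 (hHN x.2)
    obtain ⟨j, hj⟩ := hn0gen y.1 (hHN y.2)
    set c1 := x.1 * n0 ^ i with hc1
    set c2 := y.1 * n0 ^ j with hc2
    have hx : x.1 = c1 * (n0 ^ i)⁻¹ := by rw [hc1]; group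
    have hy : y.1 = c2 * (n0 ^ j)⁻¹ := by rw [hc2]; group
    have hai : (n0 ^ i)⁻¹ ∈ Subgroup.normalizer (C : Set G) := Subgroup.inv_mem _ (Subgroup.pow_mem _ hn0 i)
    have hbj : (n0 ^ j)⁻¹ ∈ Subgroup.normalizer (C : Set G) := Subgroup.inv_mem _ (Subgroup.pow_mem _ hn0 j)
    have hcomm_ab : (n0 ^ i)⁻¹ * (n0 ^ j)⁻¹ = (n0 ^ j)⁻¹ * (n0 ^ i)⁻¹ := by
      rw [← mul_inv_rev, ← mul_inv_rev, ← pow_add, ← pow_add, add_comm]
    refine ⟨x.1 * y.1 * x.1⁻¹ * y.1⁻¹, ?_, ?_, ?_⟩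
    · exact H.mul_mem (H.mul_mem (H.mul_mem x.2 y.2) (H.inv_mem x.2)) (H.inv_mem y.2)
    · have e : x.1 * y.1 * x.1⁻¹ * y.1⁻¹ =
          c1 * ((n0 ^ i)⁻¹ * c2 * ((n0 ^ i)⁻¹)⁻¹) * ((n0 ^ j)⁻¹ * c1⁻¹ * ((n0 ^ j)⁻¹)⁻¹) * c2⁻¹ := by
        rw [hx, hy]
        have h3 : c1 * (n0 ^ i)⁻¹ * (c2 * (n0 ^ j)⁻¹) * (c1 * (n0 ^ i)⁻¹)⁻¹ * (c2 * (n0 ^ j)⁻¹)⁻¹
            = c1 * ((n0 ^ i)⁻¹ * c2 * ((n0 ^ i)⁻¹)⁻¹) * (((n0 ^ i)⁻¹ * (n0 ^ j)⁻¹) * (n0 ^ i) * c1⁻¹ * (n0 ^ j)) * c2⁻¹ := by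
          group
        rw [h3, hcomm_ab]
        group
      rw [e]
      exact C.mul_mem (C.mul_mem (C.mul_mem hi (hconj _ hai _ hj)) (hconj _ hbj _ (C.inv_mem hi)))
        (C.inv_mem hj)
    · intro h1
      apply hxy
      apply Subtype.ext
      have : x.1 * y.1 = y.1 * x.1 := by
        have h2 := congrArg (· * y.1 * x.1) h1
        simpa [mul_assoc] using h2
      exact this
  obtain ⟨c0, hc0H, hc0C, hc01⟩ := hex1
  -- Step 2: an element of `H` outside `C` of prime order `r`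
  have hex2 : ∃ h ∈ H, h ∉ C := by
    by_contra hcon0
    have hcon : ∀ n ∈ H, n ∈ C := fun n hn => by
      by_contra h
      exact hcon0 ⟨n, hn, h⟩
    exact hH ⟨⟨fun a b => Subtype.ext (hCcomm a (hcon a a.2) b (hcon b b.2))⟩⟩
  obtain ⟨h, hhH, hhC⟩ := hex2
  have hh1 : orderOf h ≠ 1 := by
    intro h1
    rw [orderOf_eq_one_iff] at h1
    exact hhC (h1 ▸ C.one_mem)
  obtain ⟨s, hs, hsdvd⟩ := Nat.exists_prime_and_dvd hh1
  have hs2 : s ≠ 2 := by
    rintro rfl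
    exact hodd h (hHN hhH) hhC hsdvd
  set m := h ^ (orderOf h / s) with hmdef
  have hmord : orderOf m = s := by
    rw [hmdef]
    exact orderOf_pow_orderOf_div (orderOf_pos h).ne' hsdvd
  have hmH : m ∈ H := H.pow_mem hhH _
  have hmN : m ∈ Subgroup.normalizer (C : Set G) := hHN hmH
  have hmC : m ∉ C := by
    intro hm
    obtain ⟨k, hk⟩ := (IsPGroup.iff_orderOf.mp hC2) ⟨m, hm⟩
    rw [Subgroup.orderOf_mk, hmord] at hk
    have : s ∣ 2 ^ k := by rw [← hk]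
    have := (Nat.prime_dvd_prime_iff_eq hs Nat.prime_two).mp (hs.dvd_of_dvd_pow this)
    exact hs2 this
  have hsr : s = r := by
    have h1 := card_modEq_one_x7 C m s hs hmord hmN (fun w hw hw1 => hfree m hmN hmC w hw hw1)
    rw [hcard] at h1
    have h2 : s ∣ r := by
      have := (Nat.modEq_iff_dvd' (by omega : 1 ≤ r + 1)).mp h1.symm
      simpa using this
    exact (Nat.prime_dvd_prime_iff_eq hs hr).mp h2
  rw [hsr] at hmord
  -- powers of `m` outside `C`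
  have hpowC : ∀ k : ℕ, m ^ k ∈ C → r ∣ k := by
    intro k hk
    by_contra hrk
    have hcop : Nat.Coprime k r := (Nat.Coprime.symm ((Nat.Prime.coprime_iff_not_dvd hr).mpr hrk))
    apply hmC
    have hcop' : Nat.Coprime k (orderOf m) := by rw [hmord]; exact hcop
    obtain ⟨u, hu⟩ := exists_pow_eq_self_of_coprime hcop'
    rw [← hu]
    exact C.pow_mem hk u
  -- Step 3: the `r` conjugates of `c0` and `1` exhaust `C`
  let f : Option (Fin r) → C := fun o =>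
    match o with
    | none => 1
    | some i => ⟨m ^ (i : ℕ) * c0 * (m ^ (i : ℕ))⁻¹, hconj _ (Subgroup.pow_mem _ hmN _) c0 hc0C⟩
  have hfix : ∀ n ∈ Subgroup.normalizer (C : Set G), n * c0 * n⁻¹ = c0 → n ∈ C := by
    intro n hn hfixn
    by_contra hnC
    exact hfree n hn hnC c0 hc0C hc01 hfixn
  have hfinj : Function.Injective f := by
    have key : ∀ i j : ℕ, i ≤ j → j < r → m ^ i * c0 * (m ^ i)⁻¹ = m ^ j * c0 * (m ^ j)⁻¹ → i = j := by
      intro i j hij hjr he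
      have h1 : m ^ (j - i) * c0 * (m ^ (j - i))⁻¹ = c0 := by
        have hj : m ^ j = m ^ i * m ^ (j - i) := by rw [← pow_add]; congr 1; omega
        rw [hj] at he
        have h2 : (m ^ i)⁻¹ * (m ^ i * c0 * (m ^ i)⁻¹) * m ^ i =
            (m ^ i)⁻¹ * (m ^ i * m ^ (j - i) * c0 * (m ^ i * m ^ (j - i))⁻¹) * m ^ i := by rw [he]
        have e1 : (m ^ i)⁻¹ * (m ^ i * c0 * (m ^ i)⁻¹) * m ^ i = c0 := by group
        have e2 : (m ^ i)⁻¹ * (m ^ i * m ^ (j - i) * c0 * (m ^ i * m ^ (j - i))⁻¹) * m ^ i =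
            m ^ (j - i) * c0 * (m ^ (j - i))⁻¹ := by group
        rw [e1, e2] at h2
        exact h2.symm
      have h3 := hpowC (j - i) (hfix _ (Subgroup.pow_mem _ hmN _) h1)
      have : j - i = 0 := Nat.eq_zero_of_dvd_of_lt h3 (by omega)
      omega
    intro a b hab
    match a, b with
    | none, none => rfl
    | none, some j =>
      exfalso
      have h1 : (1 : G) = m ^ (j : ℕ) * c0 * (m ^ (j : ℕ))⁻¹ := congrArg Subtype.val hab
      apply hc01
      have : c0 = (m ^ (j : ℕ))⁻¹ * (m ^ (j : ℕ) * c0 * (m ^ (j : ℕ))⁻¹) * m ^ (j : ℕ) := by group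
      rw [this, ← h1]; group
    | some i, none =>
      exfalso
      have h1 : m ^ (i : ℕ) * c0 * (m ^ (i : ℕ))⁻¹ = (1 : G) := congrArg Subtype.val hab
      apply hc01
      have : c0 = (m ^ (i : ℕ))⁻¹ * (m ^ (i : ℕ) * c0 * (m ^ (i : ℕ))⁻¹) * m ^ (i : ℕ) := by group
      rw [this, h1]; group
    | some i, some j =>
      have h1 : m ^ (i : ℕ) * c0 * (m ^ (i : ℕ))⁻¹ = m ^ (j : ℕ) * c0 * (m ^ (j : ℕ))⁻¹ :=
        congrArg Subtype.val hab
      congr 1
      apply Fin.ext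
      rcases le_total (i : ℕ) (j : ℕ) with hij | hij
      · exact key i j hij j.2 h1
      · exact (key j i hij i.2 h1.symm).symm
  have hfbij : Function.Bijective f := by
    apply hfinj.bijective_of_nat_card_le
    rw [hcard, Nat.card_eq_fintype_card, Fintype.card_option, Fintype.card_fin]
  have hsurj := hfbij.2
  -- every element of `C` is `1` or a conjugate of `c0` by a power of `m`
  have hCform : ∀ c ∈ C, c = 1 ∨ ∃ i : ℕ, c = m ^ i * c0 * (m ^ i)⁻¹ := by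
    intro c hc
    obtain ⟨o, ho⟩ := hsurj ⟨c, hc⟩
    match o, ho with
    | none, ho => left; exact (congrArg Subtype.val ho).symm
    | some i, ho => right; exact ⟨i, (congrArg Subtype.val ho).symm⟩
  have hCH : C ≤ H := by
    intro c hc
    rcases hCform c hc with rfl | ⟨i, rfl⟩
    · exact H.one_mem
    · exact H.mul_mem (H.mul_mem (H.pow_mem hmH i) hc0H) (H.inv_mem (H.pow_mem hmH i))
  intro n hn
  have hnc : n * c0 * n⁻¹ ∈ C := hconj n hn c0 hc0C
  have hnc1 : n * c0 * n⁻¹ ≠ 1 := by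
    intro h1
    apply hc01
    have : c0 = n⁻¹ * (n * c0 * n⁻¹) * n := by group
    rw [this, h1]; group
  rcases hCform _ hnc with h1 | ⟨i, hi⟩
  · exact absurd h1 hnc1
  · have h2 : ((m ^ i)⁻¹ * n) * c0 * ((m ^ i)⁻¹ * n)⁻¹ = c0 := by
      have e : ((m ^ i)⁻¹ * n) * c0 * ((m ^ i)⁻¹ * n)⁻¹ = (m ^ i)⁻¹ * (n * c0 * n⁻¹) * (m ^ i) := by group
      rw [e, hi]; group
    have h3 : (m ^ i)⁻¹ * n ∈ C :=
      hfix _ (Subgroup.mul_mem _ (Subgroup.inv_mem _ (Subgroup.pow_mem _ hmN i)) hn) h2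
    have : n = m ^ i * ((m ^ i)⁻¹ * n) := by group
    rw [this]
    exact H.mul_mem (H.pow_mem hmH i) (hCH h3)

end Cfsg.Agent.Lib.Helper75.SNC
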