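import Mathlib

set_option autoImplicit false

namespace Cfsg.Agent.Lib.Helper75.SNFrob

open Subgroup

/-- Core of the Borel case of the (<=) half of S4073: `P` abelian, every element of `N(P)` outside `P` acts
freely on `P`, and every such element generates `N(P)` modulo `P`.  Then a non-abelian subgroup `H` of a
subgroup `K` of `N(P)` that is normalized by `K` equals `K`. -/
theorem eq_of_normal_nonabelian {G : Type*} [Group G] [Finite G] (P : Subgroup G)
    (hPab : ∀ a ∈ P, ∀ b ∈ P, a * b = b * a)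
    (hfree : ∀ n ∈ Subgroup.normalizer (P : Set G), n ∉ P → ∀ c ∈ P, c ≠ 1 → n * c * n⁻¹ ≠ c)
    (hgen : ∀ n ∈ Subgroup.normalizer (P : Set G), n ∉ P →
      ∀ k ∈ Subgroup.normalizer (P : Set G), ∃ j : ℕ, (n ^ j)⁻¹ * k ∈ P)
    (K : Subgroup G) (hK : K ≤ Subgroup.normalizer (P : Set G))
    (H : Subgroup G) (hHK : H ≤ K) (hnorm : ∀ k ∈ K, ∀ h ∈ H, k * h * k⁻¹ ∈ H)
    (hna : ¬ IsMulCommutative H) : H = K := by
  classical
  -- an element of `H` outside `P`
  have hex : ∃ n ∈ H, n ∉ P := by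
    by_contra hcon0
    have hcon : ∀ n ∈ H, n ∈ P := fun n hn => by
      by_contra h
      exact hcon0 ⟨n, hn, h⟩
    exact hna ⟨⟨fun a b => Subtype.ext (hPab a (hcon a a.2) b (hcon b b.2))⟩⟩
  obtain ⟨n, hnH, hnP⟩ := hex
  have hnK : n ∈ K := hHK hnH
  have hnN : n ∈ Subgroup.normalizer (P : Set G) := hK hnK
  -- `K ⊓ P ≤ H ⊓ P` by the injective commutator map
  have hle : H ⊓ P ≤ K ⊓ P := inf_le_inf_right P hHK
  have hmem : ∀ w ∈ K ⊓ P, w * (n * w⁻¹ * n⁻¹) ∈ H ⊓ P := by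
    intro w hw
    refine ⟨?_, ?_⟩
    · have h1 : w * n * w⁻¹ ∈ H := hnorm w hw.1 n hnH
      have h2 : w * n * w⁻¹ * n⁻¹ ∈ H := H.mul_mem h1 (H.inv_mem hnH)
      have : w * (n * w⁻¹ * n⁻¹) = w * n * w⁻¹ * n⁻¹ := by group
      rw [this]; exact h2
    · have h1 : n * w⁻¹ * n⁻¹ ∈ P :=
        (Subgroup.mem_normalizer_iff.mp hnN w⁻¹).mp (P.inv_mem hw.2)
      exact P.mul_mem hw.2 h1
  let f : (K ⊓ P : Subgroup G) → (H ⊓ P : Subgroup G) := fun w => ⟨w.1 * (n * w.1⁻¹ * n⁻¹), hmem w.1 w.2⟩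
  have hinj : Function.Injective f := by
    intro w1 w2 h12
    have h1 : w1.1 * (n * w1.1⁻¹ * n⁻¹) = w2.1 * (n * w2.1⁻¹ * n⁻¹) := congrArg Subtype.val h12
    by_contra hne
    set c : G := w2.1⁻¹ * w1.1 with hc
    have hcP : c ∈ P := P.mul_mem (P.inv_mem w2.2.2) w1.2.2
    have hc1 : c ≠ 1 := by
      intro h
      apply hne
      ext
      have : w2.1 * c = w2.1 := by rw [h, mul_one]
      rw [hc, mul_inv_cancel_left] at this
      exact this
    apply hfree n hnN hnP c hcP hc1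
    -- n * c * n⁻¹ = c
    have h2 : w1.1 * n * w1.1⁻¹ = w2.1 * n * w2.1⁻¹ := by
      have := congrArg (· * n) h1
      simpa [mul_assoc] using this
    have h3 : c * n * c⁻¹ = n := by
      rw [hc]
      have : w2.1⁻¹ * w1.1 * n * (w2.1⁻¹ * w1.1)⁻¹ = w2.1⁻¹ * (w1.1 * n * w1.1⁻¹) * w2.1 := by group
      rw [this, h2]; group
    have h4 : c * n = n * c := by
      have := congrArg (· * c) h3
      simpa [mul_assoc] using this
    rw [← h4]; group
  have hcard : Nat.card (K ⊓ P : Subgroup G) ≤ Nat.card (H ⊓ P : Subgroup G) :=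
    Nat.card_le_card_of_injective f hinj
  have heq : (H ⊓ P : Subgroup G) = K ⊓ P := Subgroup.eq_of_le_of_card_ge hle hcard
  apply le_antisymm hHK
  intro k hk
  obtain ⟨j, hj⟩ := hgen n hnN hnP k (hK hk)
  have hjK : (n ^ j)⁻¹ * k ∈ K := K.mul_mem (K.inv_mem (K.pow_mem hnK j)) hk
  have hjH : (n ^ j)⁻¹ * k ∈ H := by
    have : (n ^ j)⁻¹ * k ∈ (H ⊓ P : Subgroup G) := by rw [heq]; exact ⟨hjK, hj⟩
    exact this.1
  have : k = n ^ j * ((n ^ j)⁻¹ * k) := by group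
  rw [this]
  exact H.mul_mem (H.pow_mem hnH j) hjH

/-- Version for a normal subgroup of the subgroup `K` (as a group). -/
theorem eq_top_of_normal_nonabelian {G : Type*} [Group G] [Finite G] (P : Subgroup G)
    (hPab : ∀ a ∈ P, ∀ b ∈ P, a * b = b * a)
    (hfree : ∀ n ∈ Subgroup.normalizer (P : Set G), n ∉ P → ∀ c ∈ P, c ≠ 1 → n * c * n⁻¹ ≠ c)
    (hgen : ∀ n ∈ Subgroup.normalizer (P : Set G), n ∉ P →
      ∀ k ∈ Subgroup.normalizer (P : Set G), ∃ j : ℕ, (n ^ j)⁻¹ * k ∈ P)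
    (K : Subgroup G) (hK : K ≤ Subgroup.normalizer (P : Set G))
    (H : Subgroup K) [hH : H.Normal] (hna : ¬ IsMulCommutative H) : H = ⊤ := by
  have hmap : H.map K.subtype = K := by
    apply eq_of_normal_nonabelian P hPab hfree hgen K hK (H.map K.subtype)
    · rintro _ ⟨h, -, rfl⟩; exact h.2
    · rintro k hk _ ⟨h, hh, rfl⟩
      exact ⟨⟨k, hk⟩ * h * ⟨k, hk⟩⁻¹, hH.conj_mem h hh _, by simp⟩
    · intro hc
      apply hna
      refine ⟨⟨fun a b => ?_⟩⟩
      have ha : (a.1 : G) ∈ H.map K.subtype := ⟨a.1, a.2, rfl⟩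
      have hb : (b.1 : G) ∈ H.map K.subtype := ⟨b.1, b.2, rfl⟩
      have := hc.1.1 ⟨_, ha⟩ ⟨_, hb⟩
      have h2 := congrArg Subtype.val this
      ext
      simpa using h2
  rw [eq_top_iff]
  intro k _
  have : (k : G) ∈ H.map K.subtype := by rw [hmap]; exact k.2
  obtain ⟨h, hh, hhk⟩ := this
  have : h = k := Subtype.ext hhk
  rw [← this]; exact hh

/-- `hgen` from a prime index. -/
theorem gen_of_prime_relIndex {G : Type*} [Group G] [Finite G] (P : Subgroup G) (r : ℕ) (hr : r.Prime)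
    (hidx : P.relIndex (Subgroup.normalizer (P : Set G)) = r) :
    ∀ n ∈ Subgroup.normalizer (P : Set G), n ∉ P →
      ∀ k ∈ Subgroup.normalizer (P : Set G), ∃ j : ℕ, (n ^ j)⁻¹ * k ∈ P := by
  intro n hn hnP k hk
  have : (P.subgroupOf (Subgroup.normalizer (P : Set G))).Normal := Subgroup.normal_in_normalizer
  set Q := (Subgroup.normalizer (P : Set G)) ⧸ (P.subgroupOf (Subgroup.normalizer (P : Set G))) with hQ
  have hcardQ : Nat.card Q = r := by
    rw [← hidx]; rfl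
  have : Fact r.Prime := ⟨hr⟩
  set x : Q := QuotientGroup.mk ⟨n, hn⟩ with hx
  have hx1 : x ≠ 1 := by
    intro h
    rw [hx, QuotientGroup.eq_one_iff] at h
    exact hnP (Subgroup.mem_subgroupOf.mp h)
  have htop : Subgroup.zpowers x = ⊤ := zpowers_eq_top_of_prime_card hcardQ hx1
  have hy : (QuotientGroup.mk ⟨k, hk⟩ : Q) ∈ Subgroup.zpowers x := by rw [htop]; trivial
  rw [← mem_powers_iff_mem_zpowers] at hy
  obtain ⟨j, hj⟩ := hy
  refine ⟨j, ?_⟩
  have h1 : (QuotientGroup.mk (⟨n, hn⟩ ^ j : Subgroup.normalizer (P : Set G)) : Q) = QuotientGroup.mk ⟨k, hk⟩ := by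
    rw [QuotientGroup.mk_pow]; exact hj
  rw [QuotientGroup.eq] at h1
  have := Subgroup.mem_subgroupOf.mp h1
  simpa using this

end Cfsg.Agent.Lib.Helper75.SNFrob

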