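import Mathlib
import Cfsg.Agent.Lib.Helper73.UCDefs
import Cfsg.Agent.Lib.Helper73.SPCDefs
import Cfsg.Agent.Lib.Helper43.PSpLang1

set_option autoImplicit false

/-!
# K-SPC leaf C15: nondegenerate alternating matrices (char ≠ 2): one class in even size, none in odd size
-/

namespace Cfsg.Agent.Lib.Helper75.SPC

open Matrix Cfsg.Agent.Lib.Helper73.UC Cfsg.Agent.Lib.Helper73.SPC

variable {F : Type*} [Field F]

/-- skew-symmetric + `2 ≠ 0` ⇒ alternating -/
theorem c15_alt (h2 : (2 : F) ≠ 0) {ι : Type*} [Fintype ι] (K : Matrix ι ι F) (hK : Kᵀ = -K)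
    (x : ι → F) : x ⬝ᵥ (K *ᵥ x) = 0 := by
  have h : x ⬝ᵥ (K *ᵥ x) = - (x ⬝ᵥ (K *ᵥ x)) := by
    calc x ⬝ᵥ (K *ᵥ x) = (x ᵥ* K) ⬝ᵥ x := by rw [Matrix.dotProduct_mulVec]
      _ = (Kᵀ *ᵥ x) ⬝ᵥ x := by rw [Matrix.mulVec_transpose]
      _ = ((-K) *ᵥ x) ⬝ᵥ x := by rw [hK]
      _ = -((K *ᵥ x) ⬝ᵥ x) := by rw [Matrix.neg_mulVec, neg_dotProduct]
      _ = -(x ⬝ᵥ (K *ᵥ x)) := by rw [dotProduct_comm]
  have h' : (2 : F) * (x ⬝ᵥ (K *ᵥ x)) = 0 := by linear_combination h
  exact (mul_eq_zero.mp h').resolve_left h2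

/-- a skew-symmetric matrix of odd size is singular (`2 ≠ 0`) -/
theorem c15_det_eq_zero_of_odd (h2 : (2 : F) ≠ 0) {ι : Type*} [Fintype ι] [DecidableEq ι]
    (K : Matrix ι ι F) (hK : Kᵀ = -K) (hodd : Odd (Fintype.card ι)) : K.det = 0 := by
  have h : K.det = - K.det := by
    calc K.det = Kᵀ.det := (Matrix.det_transpose K).symm
      _ = (-K).det := by rw [hK]
      _ = (-1 : F) ^ Fintype.card ι * K.det := Matrix.det_neg K
      _ = - K.det := by rw [hodd.neg_one_pow, neg_one_mul]
  have h' : (2 : F) * K.det = 0 := by linear_combination h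
  exact (mul_eq_zero.mp h').resolve_left h2

/-- Darboux in the form needed: a nondegenerate skew matrix indexed by `Fin m ⊕ Fin m` is congruent to `J`
by an invertible matrix -/
theorem c15_congr_J (h2 : (2 : F) ≠ 0) {m : ℕ}
    (K : Matrix (Fin m ⊕ Fin m) (Fin m ⊕ Fin m) F) (hK : Kᵀ = -K) (hdet : IsUnit K.det) :
    ∃ k : Matrix (Fin m ⊕ Fin m) (Fin m ⊕ Fin m) F, IsUnit k.det ∧ kᵀ * K * k = Matrix.J (Fin m) F := by
  obtain ⟨k, hk⟩ := Cfsg.Agent.Lib.Helper43.AutPSp.exists_congr_J m K (c15_alt h2 K hK) hdet.ne_zero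
  refine ⟨k, ?_, hk⟩
  have hJ : IsUnit (Matrix.J (Fin m) F).det := Matrix.isUnit_det_J (Fin m) F
  rw [← hk, Matrix.det_mul, Matrix.det_mul, Matrix.det_transpose] at hJ
  exact isUnit_of_mul_isUnit_right hJ

theorem orbCount_symND_odd (h2 : (2 : F) ≠ 0) (κ : Type*) [Fintype κ] [DecidableEq κ]
    (i : ℕ) (hi : Odd i) :
    orbCount (1 : Matrix κ κ F) (SymND κ i) = if Even (Fintype.card κ) then 1 else 0 := by
  have hskew : ∀ T : Matrix κ κ F, T ∈ SymND κ i → Tᵀ = -T := by
    intro T hT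
    have := hT.1
    rw [hi.neg_one_pow, neg_one_smul] at this
    exact this
  by_cases hev : Even (Fintype.card κ)
  · rw [if_pos hev]
    obtain ⟨m, hm⟩ := hev
    have hcard : Fintype.card κ = Fintype.card (Fin m ⊕ Fin m) := by simp [hm]
    obtain ⟨e⟩ : Nonempty (κ ≃ (Fin m ⊕ Fin m)) := Fintype.card_eq.mp hcard
    -- the reference form
    set T0 : Matrix κ κ F := (Matrix.J (Fin m) F).submatrix e e with hT0
    have hT0mem : T0 ∈ SymND κ i := by
      refine ⟨?_, ?_⟩
      · rw [hi.neg_one_pow, neg_one_smul, hT0, Matrix.transpose_submatrix, Matrix.J_transpose]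
        ext a b
        simp
      · rw [hT0, Matrix.det_submatrix_equiv_self]
        exact Matrix.isUnit_det_J (Fin m) F
    have hall : ∀ T : Matrix κ κ F, T ∈ SymND κ i → CongRel (1 : Matrix κ κ F) T T0 := by
      intro T hT
      have hTs := hskew T hT
      have hKs : (T.submatrix e.symm e.symm)ᵀ = -(T.submatrix e.symm e.symm) := by
        rw [Matrix.transpose_submatrix, hTs]
        ext a b
        simp
      have hKd : IsUnit (T.submatrix e.symm e.symm).det := by
        rw [Matrix.det_submatrix_equiv_self]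
        exact hT.2
      obtain ⟨k, hku, hk⟩ := c15_congr_J h2 (T.submatrix e.symm e.symm) hKs hKd
      refine ⟨k.submatrix e e, ?_, ?_, ?_⟩
      · rw [Matrix.det_submatrix_equiv_self]
        exact hku
      · rw [mul_one, one_mul]
      · have hTT : T = (T.submatrix e.symm e.symm).submatrix e e := by
          ext a b
          simp
        rw [hT0, ← hk]
        conv_lhs => rw [hTT]
        rw [Matrix.transpose_submatrix, Matrix.submatrix_mul_equiv, Matrix.submatrix_mul_equiv]
    rw [orbCount]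
    have : Nonempty (Quotient ((congSetoid (1 : Matrix κ κ F)).comap
        (Subtype.val : ↥(SymND (F := F) κ i) → Matrix κ κ F))) :=
      ⟨Quotient.mk _ ⟨T0, hT0mem⟩⟩
    have : Subsingleton (Quotient ((congSetoid (1 : Matrix κ κ F)).comap
        (Subtype.val : ↥(SymND (F := F) κ i) → Matrix κ κ F))) := by
      refine ⟨fun a b => ?_⟩
      induction a using Quotient.inductionOn with
      | _ a =>
      induction b using Quotient.inductionOn with
      | _ b =>
      refine Quotient.sound ?_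
      show CongRel (1 : Matrix κ κ F) a.1 b.1
      exact congRel_trans (hall a.1 a.2) (congRel_symm (hall b.1 b.2))
    exact Nat.card_eq_one_iff_unique.mpr ⟨inferInstance, inferInstance⟩
  · rw [if_neg hev]
    have hodd : Odd (Fintype.card κ) := Nat.not_even_iff_odd.mp hev
    have : IsEmpty ↥(SymND (F := F) κ i) := by
      refine ⟨fun T => ?_⟩
      have hz := c15_det_eq_zero_of_odd h2 T.1 (hskew T.1 T.2) hodd
      have hu := T.2.2
      rw [hz] at hu
      exact not_isUnit_zero hu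
    rw [orbCount]
    have : IsEmpty (Quotient ((congSetoid (1 : Matrix κ κ F)).comap
        (Subtype.val : ↥(SymND (F := F) κ i) → Matrix κ κ F))) :=
      ⟨fun q => Quotient.inductionOn q (fun a => isEmptyElim a)⟩
    exact Nat.card_of_isEmpty

end Cfsg.Agent.Lib.Helper75.SPC
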