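import Cfsg.Agent.Lib.Helper49.SpInvDefs
import Cfsg.Agent.Lib.Helper51.UPar5

/-!
# K-SpU-B (597608): the arithmetic leaf of S5976
-/

set_option autoImplicit false
set_option linter.unusedVariables false

namespace Cfsg.Agent.Lib.Helper75.SpU

open Cfsg.Agent.Lib.Helper49.SpInv (spOrd)
open Cfsg.Agent.Lib.Helper51.UPar (GUf)

/-- the cofactor of `GUf q d` in `spOrd q d` -/
def coF (q d : ℕ) : ℕ :=
  q ^ (d * (d + 1) / 2) *
    ∏ i ∈ Finset.range d, (if Even i then q ^ (i + 1) - 1 else q ^ (i + 1) + 1)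

theorem spOrd_eq_mul (q d : ℕ) (hq : 1 ≤ q) : spOrd q d = GUf q d * coF q d := by
  unfold spOrd GUf coF
  have hexp : d ^ 2 = d * (d - 1) / 2 + d * (d + 1) / 2 := by
    have h1 : 2 ∣ d * (d - 1) := by
      rcases Nat.even_or_odd d with h | h
      · exact (h.two_dvd).mul_right _
      · rcases d with _ | d
        · simp
        · have : Even (d + 1 - 1) := by
            simp only [Nat.add_sub_cancel]
            rcases h with ⟨k, hk⟩
            exact ⟨k, by omega⟩
          exact (this.two_dvd).mul_left _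
    have h2 : 2 ∣ d * (d + 1) := (Nat.even_mul_succ_self d).two_dvd
    obtain ⟨a, ha⟩ := h1
    obtain ⟨b, hb⟩ := h2
    rw [ha, hb, Nat.mul_div_cancel_left _ (by norm_num : 0 < 2),
      Nat.mul_div_cancel_left _ (by norm_num : 0 < 2)]
    have : d * (d - 1) + d * (d + 1) = 2 * d ^ 2 := by
      rcases d with _ | d
      · simp
      · simp only [Nat.add_sub_cancel]; ring
    omega
  have hprod : ∏ i ∈ Finset.range d, (q ^ (2 * (i + 1)) - 1) =
      (∏ i ∈ Finset.range d, (if Even i then q ^ (i + 1) + 1 else q ^ (i + 1) - 1)) *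
        ∏ i ∈ Finset.range d, (if Even i then q ^ (i + 1) - 1 else q ^ (i + 1) + 1) := by
    rw [← Finset.prod_mul_distrib]
    refine Finset.prod_congr rfl fun i _ => ?_
    have h1 : 1 ≤ q ^ (i + 1) := Nat.one_le_pow _ _ hq
    have h2 : q ^ (2 * (i + 1)) - 1 = (q ^ (i + 1) + 1) * (q ^ (i + 1) - 1) := by
      have : q ^ (2 * (i + 1)) = q ^ (i + 1) * q ^ (i + 1) := by rw [two_mul, pow_add]
      rw [this]
      zify [h1, Nat.one_le_iff_ne_zero.mpr (Nat.mul_ne_zero (by omega) (by omega) :
        q ^ (i + 1) * q ^ (i + 1) ≠ 0)]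
      ring
    split_ifs
    · exact h2
    · rw [h2, mul_comm]
  rw [hexp, pow_add, hprod]
  ring

theorem GUf_pos (q d : ℕ) (hq : 2 ≤ q) : 0 < GUf q d := by
  unfold GUf
  apply Nat.mul_pos (pow_pos (by omega) _)
  apply Finset.prod_pos
  intro i _
  have h1 : 2 ≤ q ^ (i + 1) := by
    calc 2 ≤ q := hq
      _ = q ^ 1 := (pow_one q).symm
      _ ≤ q ^ (i + 1) := Nat.pow_le_pow_right (by omega) (by omega)
  split_ifs <;> omega

/-- **K-SpU-B** -/
theorem arith (q d N r : ℕ) (hq : 2 ≤ q) (hodd : Odd q) (hd : 1 ≤ d) [Fact r.Prime] (hr2 : r ≠ 2)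
    (hrq : ¬ r ∣ q) (hN : N * GUf q d ∣ spOrd q d) (hrN : r ∣ N) :
    (Odd (orderOf (q : ZMod r)) ∧ orderOf (q : ZMod r) ≤ d) ∨
      (4 ∣ orderOf (q : ZMod r) ∧ orderOf (q : ZMod r) ≤ 2 * d) := by
  have hr : r.Prime := Fact.out
  have hrp : Prime r := hr.prime
  rw [spOrd_eq_mul q d (by omega), mul_comm N] at hN
  have hNC : N ∣ coF q d := Nat.dvd_of_mul_dvd_mul_left (GUf_pos q d hq) hN
  have hrC : r ∣ coF q d := hrN.trans hNC
  unfold coF at hrC
  rcases (Nat.Prime.dvd_mul hr).mp hrC with h | h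
  · exact absurd (hr.dvd_of_dvd_pow h) hrq
  · obtain ⟨i, hi, hdvd⟩ := (Prime.dvd_finsetProd_iff hrp _).mp h
    rw [Finset.mem_range] at hi
    have h1 : 1 ≤ q ^ (i + 1) := Nat.one_le_pow _ _ (by omega)
    by_cases hev : Even i
    · left
      rw [if_pos hev] at hdvd
      have hpow : (q : ZMod r) ^ (i + 1) = 1 := by
        have := (ZMod.natCast_eq_zero_iff _ r).mpr hdvd
        rw [Nat.cast_sub h1, Nat.cast_pow, Nat.cast_one, sub_eq_zero] at this
        exact this
      have hdv : orderOf (q : ZMod r) ∣ i + 1 := orderOf_dvd_of_pow_eq_one hpow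
      have hoddj : Odd (i + 1) := hev.add_one
      refine ⟨?_, ?_⟩
      · exact Odd.of_dvd_nat hoddj hdv
      · exact (Nat.le_of_dvd (by omega) hdv).trans (by omega)
    · right
      rw [if_neg hev] at hdvd
      have hoddi : Odd i := Nat.not_even_iff_odd.mp hev
      have hevj : Even (i + 1) := hoddi.add_one
      have hpow : (q : ZMod r) ^ (i + 1) = -1 := by
        have := (ZMod.natCast_eq_zero_iff _ r).mpr hdvd
        rw [Nat.cast_add, Nat.cast_pow, Nat.cast_one] at this
        exact eq_neg_of_add_eq_zero_left this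
      have hpow2 : (q : ZMod r) ^ (2 * (i + 1)) = 1 := by
        rw [mul_comm, pow_mul, hpow]; norm_num
      have hdv : orderOf (q : ZMod r) ∣ 2 * (i + 1) := orderOf_dvd_of_pow_eq_one hpow2
      have hr3 : 2 < r := lt_of_le_of_ne hr.two_le (Ne.symm hr2)
      have : Fact (2 < r) := ⟨hr3⟩
      have hndv : ¬ orderOf (q : ZMod r) ∣ i + 1 := by
        intro h
        have := orderOf_dvd_iff_pow_eq_one.mp h
        rw [hpow] at this
        exact ZMod.neg_one_ne_one this
      refine ⟨?_, ?_⟩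
      · obtain ⟨c, hc⟩ := hdv
        have hcodd : Odd c := by
          by_contra hce
          rw [Nat.not_odd_iff_even] at hce
          obtain ⟨c', hc'⟩ := hce
          apply hndv
          refine ⟨c', ?_⟩
          rw [hc'] at hc
          have : 2 * (i + 1) = 2 * (orderOf (q : ZMod r) * c') := by rw [hc]; ring
          exact Nat.eq_of_mul_eq_mul_left (by norm_num) this
        have h4 : 4 ∣ orderOf (q : ZMod r) * c := by
          rw [← hc]
          obtain ⟨m, hm⟩ := hevj
          exact ⟨m, by omega⟩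
        have hcop : Nat.Coprime 4 c := by
          have : Nat.Coprime 2 c :=
            (Nat.Prime.coprime_iff_not_dvd Nat.prime_two).mpr (fun h2 => by
              obtain ⟨k, hk⟩ := hcodd
              omega)
          exact Nat.Coprime.pow_left 2 this
        exact hcop.dvd_of_dvd_mul_right h4
      · exact (Nat.le_of_dvd (by omega) hdv).trans (by omega)

end Cfsg.Agent.Lib.Helper75.SpU
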