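import Mathlib
import Cfsg.Agent.Lib.Helper48.StODefs
import Cfsg.Agent.Lib.Helper84.StOR0b
import Cfsg.Agent.Lib.Helper61.StOR0c
import Cfsg.Agent.Lib.Helper97.StOR1
import Cfsg.Agent.Lib.Helper19.CartanDieudonne
import Cfsg.Agent.Lib.Helper50.StdForms

/-!
# K-StO leaf C5a (keystone 254719, architect helper48): `B ⊔ B⁻ = O_{2m+1}(F)`, `2 ≠ 0`

Cartan–Dieudonné: every isometry is a product of reflections `r_v`; `r_{h v} = h r_v h⁻¹`, and by root
elements of `B ∪ B⁻` every nonsingular `v` is moved to `c z` (reflection diagonal) or to `x e_k + y f_k`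
(reflection `= (xZ 1 * yZ 1 * xZ 1) * diagonal`).
-/

set_option autoImplicit false
set_option linter.unusedSectionVars false
set_option linter.unusedVariables false
set_option linter.unusedSimpArgs false

namespace Cfsg.Agent.Lib.Helper75.StO

open Cfsg Cfsg.Agent.Lib.Helper48.StO Matrix

variable {m : ℕ} {F : Type*} [Field F]

/-- `H = B ⊔ B⁻` -/
abbrev HH (m : ℕ) (F : Type*) [Field F] : Subgroup (OG m F) := Bsub m F ⊔ Bminus m F

/-- the polar form of `quadFormOdd` -/
theorem polar_quadFormOdd (v u : OI m → F) :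
    QuadraticMap.polar (Cfsg.quadFormOdd m F) v u =
      2 * v zI * u zI + ∑ i : Fin m, (v (eI i) * u (fI i) + v (fI i) * u (eI i)) := by
  unfold QuadraticMap.polar Cfsg.quadFormOdd
  have h : ∑ i : Fin m, (v + u) (Sum.inr (Sum.inl i)) * (v + u) (Sum.inr (Sum.inr i))
      - ∑ i : Fin m, v (Sum.inr (Sum.inl i)) * v (Sum.inr (Sum.inr i))
      - ∑ i : Fin m, u (Sum.inr (Sum.inl i)) * u (Sum.inr (Sum.inr i))
      = ∑ i : Fin m, (v (eI i) * u (fI i) + v (fI i) * u (eI i)) := by
    rw [← Finset.sum_sub_distrib, ← Finset.sum_sub_distrib]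
    refine Finset.sum_congr rfl fun i _ => ?_
    simp only [Pi.add_apply]
    ring
  rw [← h]
  simp only [Pi.add_apply]
  ring

/-- isometries preserve the polar form -/
theorem polar_mulVec (g : OG m F) (v u : OI m → F) :
    QuadraticMap.polar (Cfsg.quadFormOdd m F) (mat g *ᵥ v) (mat g *ᵥ u) =
      QuadraticMap.polar (Cfsg.quadFormOdd m F) v u := by
  unfold QuadraticMap.polar
  rw [← Matrix.mulVec_add, quad_mulVec, quad_mulVec, quad_mulVec]

/-- `ρ` acts as the reflection in `v` -/
def IsRefl (ρ : OG m F) (v : OI m → F) : Prop :=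
  ∀ u, mat ρ *ᵥ u = u - ((Cfsg.quadFormOdd m F v)⁻¹ *
    QuadraticMap.polar (Cfsg.quadFormOdd m F) v u) • v

/-- every reflection in `v` lies in `H` -/
def Good (v : OI m → F) : Prop := ∀ ρ : OG m F, IsRefl ρ v → ρ ∈ HH m F

theorem mat_inv_mulVec_mulVec (h : OG m F) (u : OI m → F) :
    mat h *ᵥ (mat h⁻¹ *ᵥ u) = u := by
  rw [Matrix.mulVec_mulVec, mat_mul_mat_inv, Matrix.one_mulVec]

/-- `r_{h v} = h r_v h⁻¹` -/
theorem good_of_good_mulVec (h : OG m F) (hh : h ∈ HH m F) (v : OI m → F)
    (hg : Good (mat h *ᵥ v)) : Good v := by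
  intro ρ hρ
  have h1 : IsRefl (h * ρ * h⁻¹) (mat h *ᵥ v) := by
    intro u
    rw [mat_mul, mat_mul, ← Matrix.mulVec_mulVec, ← Matrix.mulVec_mulVec, hρ (mat h⁻¹ *ᵥ u),
      Matrix.mulVec_sub, Matrix.mulVec_smul, mat_inv_mulVec_mulVec, quad_mulVec]
    congr 2
    have h2 := polar_mulVec h v (mat h⁻¹ *ᵥ u)
    rw [mat_inv_mulVec_mulVec] at h2
    rw [h2]
  have h3 := hg _ h1
  have h4 : ρ = h⁻¹ * (h * ρ * h⁻¹) * h := by group
  rw [h4]
  exact mul_mem (mul_mem (inv_mem hh) h3) hh

theorem ofMat_mem_Bminus (M : Matrix (OI m) (OI m) F)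
    (hM : ∀ a b, pos m a < pos m b → M a b = 0) : ofMat M ∈ Bminus m F := by
  by_cases h : ∃ g : OG m F, mat g = M
  · rw [mem_Bminus_iff, mat_ofMat M h]
    exact hM
  · unfold ofMat
    rw [dif_neg h]
    exact one_mem _

theorem xPerm_mem_Bminus (i j : Fin m) (hij : j < i) (t : F) : xPerm m F i j t ∈ Bminus m F := by
  apply ofMat_mem_Bminus
  intro a b hab
  have hne : a ≠ b := fun h => by rw [h] at hab; exact lt_irrefl _ hab
  have hij' := Fin.lt_def.1 hij
  have hi := i.2
  have hj := j.2
  have h1 : ¬ (eI i = a ∧ eI j = b) := by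
    rintro ⟨rfl, rfl⟩
    simp only [pos] at hab
    omega
  have h2 : ¬ (fI j = a ∧ fI i = b) := by
    rintro ⟨rfl, rfl⟩
    simp only [pos] at hab
    omega
  unfold xPermMat
  rw [Matrix.sub_apply, Matrix.add_apply, Matrix.one_apply_ne hne, Matrix.single_apply,
    Matrix.single_apply, if_neg h1, if_neg h2, add_zero, sub_zero]

theorem yZ_mem_Bminus (k : Fin m) (t : F) : yZ m F k t ∈ Bminus m F := by
  apply ofMat_mem_Bminus
  intro a b hab
  have hne : a ≠ b := fun h => by rw [h] at hab; exact lt_irrefl _ hab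
  have hk := k.2
  have h1 : ¬ (zI = a ∧ eI k = b) := by
    rintro ⟨rfl, rfl⟩
    simp only [pos] at hab
    omega
  have h2 : ¬ (fI k = a ∧ zI = b) := by
    rintro ⟨rfl, rfl⟩
    simp only [pos] at hab
    omega
  have h3 : ¬ (fI k = a ∧ eI k = b) := by
    rintro ⟨rfl, rfl⟩
    simp only [pos] at hab
    omega
  unfold yZMat
  rw [Matrix.sub_apply, Matrix.sub_apply, Matrix.add_apply, Matrix.one_apply_ne hne,
    Matrix.single_apply, Matrix.single_apply, Matrix.single_apply, if_neg h1, if_neg h2,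
    if_neg h3, add_zero, sub_zero, sub_zero]

theorem xPerm_mem_H (i j : Fin m) (hij : i ≠ j) (t : F) : xPerm m F i j t ∈ HH m F := by
  rcases lt_or_gt_of_ne hij with h | h
  · exact Subgroup.mem_sup_left (Cfsg.Agent.Lib.Helper97.StO.xPerm_mem_B i j h t)
  · exact Subgroup.mem_sup_right (xPerm_mem_Bminus i j h t)

theorem xZ_mem_H (k : Fin m) (t : F) : xZ m F k t ∈ HH m F :=
  Subgroup.mem_sup_left (Cfsg.Agent.Lib.Helper97.StO.xZ_mem_B k t)

theorem yZ_mem_H (k : Fin m) (t : F) : yZ m F k t ∈ HH m F :=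
  Subgroup.mem_sup_right (yZ_mem_Bminus k t)

theorem Tsub_le_H : Tsub m F ≤ HH m F := inf_le_left.trans le_sup_left

theorem mat_apply_eq (g : OG m F) (a b : OI m) : mat g a b = (mat g *ᵥ Pi.single b 1) a := by
  rw [Matrix.mulVec_single_one]
  rfl

/-- normal form (2): `v = c z` -/
theorem good_of_z (v : OI m → F) (hv : ∀ a, a ≠ zI → v a = 0) (hz : v zI ≠ 0) : Good v := by
  intro ρ hρ
  apply Tsub_le_H
  rw [mem_Tsub_iff]
  intro a b hab
  rw [mat_apply_eq, hρ]
  simp only [Pi.sub_apply, Pi.smul_apply, smul_eq_mul]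
  rw [Pi.single_eq_of_ne hab, zero_sub, neg_eq_zero]
  by_cases ha : a = zI
  · subst ha
    have hb : b ≠ zI := fun h => hab h.symm
    have hp : QuadraticMap.polar (Cfsg.quadFormOdd m F) v (Pi.single b 1) = 0 := by
      rw [polar_quadFormOdd, Pi.single_eq_of_ne (Ne.symm hb), mul_zero, zero_add]
      refine Finset.sum_eq_zero fun i _ => ?_
      rw [hv (eI i) (by intro h; cases h), hv (fI i) (by intro h; cases h)]
      ring
    rw [hp, mul_zero, zero_mul]
  · rw [hv a ha, mul_zero]

/-- the action of `n_k = xZ k 1 * yZ k 1 * xZ k 1` -/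
theorem nk_mulVec (k : Fin m) (u : OI m → F) :
    mat (xZ m F k 1 * yZ m F k 1 * xZ m F k 1) *ᵥ u =
      fun a => if a = eI k then -u (fI k) else if a = zI then -u zI
        else if a = fI k then -u (eI k) else u a := by
  rw [mat_mul, mat_mul, ← Matrix.mulVec_mulVec, ← Matrix.mulVec_mulVec,
    Cfsg.Agent.Lib.Helper61.StO.mat_xZ, Cfsg.Agent.Lib.Helper61.StO.mat_yZ,
    Cfsg.Agent.Lib.Helper61.StO.xZMat_mulVec, Cfsg.Agent.Lib.Helper61.StO.yZMat_mulVec,
    Cfsg.Agent.Lib.Helper61.StO.xZMat_mulVec]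
  have hze : (zI : OI m) ≠ eI k := by intro h; cases h
  have hzf : (zI : OI m) ≠ fI k := by intro h; cases h
  have hef : (eI k : OI m) ≠ fI k := by intro h; cases h
  funext a
  by_cases h1 : a = eI k
  · subst h1
    simp only [if_true, if_neg hze.symm, if_neg hef, if_neg hzf.symm, if_neg hze, if_neg hzf,
      if_neg hef.symm]
    ring
  · by_cases h2 : a = zI
    · subst h2
      simp only [if_true, if_neg hze.symm, if_neg hef, if_neg hzf.symm, if_neg hze, if_neg hzf,
        if_neg hef.symm]
      ring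
    · by_cases h3 : a = fI k
      · subst h3
        simp only [if_true, if_neg hze.symm, if_neg hef, if_neg hzf.symm, if_neg hze,
          if_neg hzf, if_neg hef.symm]
        ring
      · simp only [if_neg h1, if_neg h2, if_neg h3, if_neg hze.symm, if_neg hef,
          if_neg hzf.symm, if_neg hze, if_neg hzf, if_neg hef.symm]
        ring

/-- normal form (3): `v = x e_k + y f_k` -/
theorem good_of_hyp (k : Fin m) (v : OI m → F) (hv : ∀ a, a ≠ eI k → a ≠ fI k → v a = 0)
    (hx : v (eI k) ≠ 0) (hy : v (fI k) ≠ 0) : Good v := by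
  intro ρ hρ
  have hze : (zI : OI m) ≠ eI k := by intro h; cases h
  have hzf : (zI : OI m) ≠ fI k := by intro h; cases h
  have hef : (eI k : OI m) ≠ fI k := by intro h; cases h
  have hn : xZ m F k 1 * yZ m F k 1 * xZ m F k 1 ∈ HH m F :=
    mul_mem (mul_mem (xZ_mem_H k 1) (yZ_mem_H k 1)) (xZ_mem_H k 1)
  -- `Q v = x y`
  have hQ : Cfsg.quadFormOdd m F v = v (eI k) * v (fI k) := by
    unfold Cfsg.quadFormOdd
    have h0 : v (Sum.inl ()) = 0 := hv zI hze hzf
    rw [h0, Finset.sum_eq_single k]
    · ring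
    · intro i _ hik
      have : v (eI i) = 0 := hv (eI i) (fun h => hik (Sum.inl.inj (Sum.inr.inj h)))
        (by intro h; cases h)
      change v (eI i) * _ = 0
      rw [this, zero_mul]
    · intro h; exact absurd (Finset.mem_univ k) h
  have hpol : ∀ u : OI m → F, QuadraticMap.polar (Cfsg.quadFormOdd m F) v u =
      v (eI k) * u (fI k) + v (fI k) * u (eI k) := by
    intro u
    rw [polar_quadFormOdd, hv zI hze hzf, mul_zero, zero_mul, zero_add, Finset.sum_eq_single k]
    · intro i _ hik
      rw [hv (eI i) (fun h => hik (Sum.inl.inj (Sum.inr.inj h))) (by intro h; cases h),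
        hv (fI i) (by intro h; cases h) (fun h => hik (Sum.inr.inj (Sum.inr.inj h)))]
      ring
    · intro h; exact absurd (Finset.mem_univ k) h
  have hT : xZ m F k 1 * yZ m F k 1 * xZ m F k 1 * ρ ∈ Tsub m F := by
    rw [mem_Tsub_iff]
    intro a b hab
    rw [mat_apply_eq, mat_mul (xZ m F k 1 * yZ m F k 1 * xZ m F k 1) ρ, ← Matrix.mulVec_mulVec,
      nk_mulVec, hρ, hQ, hpol]
    simp only [Pi.sub_apply, Pi.smul_apply, smul_eq_mul]
    by_cases h1 : a = eI k
    · subst h1
      rw [if_pos rfl]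
      by_cases hb : b = fI k
      · subst hb
        rw [Pi.single_eq_same, Pi.single_eq_of_ne hef]
        field_simp
        ring
      · rw [Pi.single_eq_of_ne (Ne.symm hb), Pi.single_eq_of_ne hab]
        ring
    · rw [if_neg h1]
      by_cases h2 : a = zI
      · subst h2
        rw [if_pos rfl, Pi.single_eq_of_ne hab, hv zI hze hzf]
        ring
      · rw [if_neg h2]
        by_cases h3 : a = fI k
        · subst h3
          rw [if_pos rfl]
          by_cases hb : b = eI k
          · subst hb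
            rw [Pi.single_eq_same, Pi.single_eq_of_ne hef.symm]
            field_simp
            ring
          · rw [Pi.single_eq_of_ne (Ne.symm hb), Pi.single_eq_of_ne hab]
            ring
        · rw [if_neg h3, Pi.single_eq_of_ne hab, hv a h1 h3]
          ring
  have h4 : ρ = (xZ m F k 1 * yZ m F k 1 * xZ m F k 1)⁻¹ *
      (xZ m F k 1 * yZ m F k 1 * xZ m F k 1 * ρ) := by group
  rw [h4]
  exact mul_mem (inv_mem hn) (Tsub_le_H hT)

open Classical in
/-- Phase 2: vectors with `v z = 0`, by induction on the size of the support -/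
theorem good_of_z_zero : ∀ n : ℕ, ∀ v : OI m → F, v zI = 0 → Cfsg.quadFormOdd m F v ≠ 0 →
    (Finset.univ.filter (fun a => v a ≠ 0)).card ≤ n → Good v := by
  intro n
  induction n with
  | zero =>
    intro v hz hQ hcard
    exfalso
    apply hQ
    have h0 : ∀ a, v a = 0 := by
      intro a
      by_contra ha
      have : a ∈ Finset.univ.filter (fun a => v a ≠ 0) := by simp [ha]
      have h1 := Finset.card_pos.mpr ⟨a, this⟩
      omega
    unfold Cfsg.quadFormOdd
    rw [h0]
    simp [h0]
  | succ n ih =>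
    intro v hz hQ hcard
    -- a hyperbolic pair with `x_k y_k ≠ 0`
    have hsum : ∑ i : Fin m, v (eI i) * v (fI i) ≠ 0 := by
      intro h
      apply hQ
      unfold Cfsg.quadFormOdd
      have hz' : v (Sum.inl ()) = 0 := hz
      rw [hz']
      change 0 ^ 2 + ∑ i : Fin m, v (eI i) * v (fI i) = 0
      rw [h]; ring
    obtain ⟨k, -, hk⟩ := Finset.exists_ne_zero_of_sum_ne_zero hsum
    have hx : v (eI k) ≠ 0 := left_ne_zero_of_mul hk
    have hy : v (fI k) ≠ 0 := right_ne_zero_of_mul hk
    by_cases h1 : ∃ i, i ≠ k ∧ v (eI i) ≠ 0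
    · obtain ⟨i, hik, hxi⟩ := h1
      have hmem := xPerm_mem_H (F := F) i k hik (-(v (eI i)) / v (eI k))
      apply good_of_good_mulVec _ hmem
      have hmat := Cfsg.Agent.Lib.Helper84.StO.mat_xPerm (F := F) i k hik (-(v (eI i)) / v (eI k))
      apply ih
      · rw [hmat, Cfsg.Agent.Lib.Helper84.StO.xPermMat_mulVec_zI]; exact hz
      · rw [quad_mulVec]; exact hQ
      · have hsub : Finset.univ.filter (fun a => (mat (xPerm m F i k (-(v (eI i)) / v (eI k))) *ᵥ v) a ≠ 0)
            ⊂ Finset.univ.filter (fun a => v a ≠ 0) := by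
          rw [Finset.ssubset_iff_of_subset]
          · refine ⟨eI i, by simp [hxi], ?_⟩
            simp only [Finset.mem_filter, Finset.mem_univ, true_and, not_not]
            rw [hmat, Cfsg.Agent.Lib.Helper84.StO.xPermMat_mulVec_eI, if_pos rfl]
            field_simp
            ring
          · intro a ha
            simp only [Finset.mem_filter, Finset.mem_univ, true_and] at ha ⊢
            rw [hmat] at ha
            rcases a with a | a | a
            · rw [Cfsg.Agent.Lib.Helper84.StO.xPermMat_mulVec_zI] at ha; exact ha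
            · rw [Cfsg.Agent.Lib.Helper84.StO.xPermMat_mulVec_eI] at ha
              by_cases hai : a = i
              · subst hai; exact hxi
              · rw [if_neg hai, add_zero] at ha; exact ha
            · rw [Cfsg.Agent.Lib.Helper84.StO.xPermMat_mulVec_fI] at ha
              by_cases hak : a = k
              · subst hak; exact hy
              · rw [if_neg hak, sub_zero] at ha; exact ha
        have := Finset.card_lt_card hsub
        omega
    · by_cases h2 : ∃ i, i ≠ k ∧ v (fI i) ≠ 0
      · obtain ⟨i, hik, hyi⟩ := h2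
        have hmem := xPerm_mem_H (F := F) k i (Ne.symm hik) (v (fI i) / v (fI k))
        apply good_of_good_mulVec _ hmem
        have hmat := Cfsg.Agent.Lib.Helper84.StO.mat_xPerm (F := F) k i (Ne.symm hik)
          (v (fI i) / v (fI k))
        apply ih
        · rw [hmat, Cfsg.Agent.Lib.Helper84.StO.xPermMat_mulVec_zI]; exact hz
        · rw [quad_mulVec]; exact hQ
        · have hsub : Finset.univ.filter (fun a => (mat (xPerm m F k i (v (fI i) / v (fI k))) *ᵥ v) a ≠ 0)
              ⊂ Finset.univ.filter (fun a => v a ≠ 0) := by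
            rw [Finset.ssubset_iff_of_subset]
            · refine ⟨fI i, by simp [hyi], ?_⟩
              simp only [Finset.mem_filter, Finset.mem_univ, true_and, not_not]
              rw [hmat, Cfsg.Agent.Lib.Helper84.StO.xPermMat_mulVec_fI, if_pos rfl]
              field_simp
              ring
            · intro a ha
              simp only [Finset.mem_filter, Finset.mem_univ, true_and] at ha ⊢
              rw [hmat] at ha
              rcases a with a | a | a
              · rw [Cfsg.Agent.Lib.Helper84.StO.xPermMat_mulVec_zI] at ha; exact ha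
              · rw [Cfsg.Agent.Lib.Helper84.StO.xPermMat_mulVec_eI] at ha
                by_cases hak : a = k
                · subst hak; exact hx
                · rw [if_neg hak, add_zero] at ha; exact ha
              · rw [Cfsg.Agent.Lib.Helper84.StO.xPermMat_mulVec_fI] at ha
                by_cases hai : a = i
                · subst hai; exact hyi
                · rw [if_neg hai, sub_zero] at ha; exact ha
          have := Finset.card_lt_card hsub
          omega
      · -- normal form (3)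
        apply good_of_hyp k v _ hx hy
        intro a ha1 ha2
        rcases a with a | a | a
        · exact hz
        · by_contra hne
          exact h1 ⟨a, fun h => ha1 (by rw [h]), hne⟩
        · by_contra hne
          exact h2 ⟨a, fun h => ha2 (by rw [h]), hne⟩

open Classical in
/-- every nonsingular vector is good -/
theorem good_all (v : OI m → F) (hQ : Cfsg.quadFormOdd m F v ≠ 0) : Good v := by
  by_cases hz : v zI = 0
  · exact good_of_z_zero _ v hz hQ le_rfl
  · have hze : ∀ k : Fin m, (zI : OI m) ≠ eI k := fun k h => by cases h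
    have hzf : ∀ k : Fin m, (zI : OI m) ≠ fI k := fun k h => by cases h
    by_cases h1 : ∃ k, v (fI k) ≠ 0
    · obtain ⟨k, hk⟩ := h1
      apply good_of_good_mulVec _ (xZ_mem_H (F := F) k (-(v zI) / v (fI k)))
      apply good_of_z_zero _ _ _ _ le_rfl
      · rw [Cfsg.Agent.Lib.Helper61.StO.mat_xZ, Cfsg.Agent.Lib.Helper61.StO.xZMat_mulVec]
        simp only [if_true, if_neg (hze k)]
        field_simp
        ring
      · rw [quad_mulVec]; exact hQ
    · by_cases h2 : ∃ k, v (eI k) ≠ 0
      · obtain ⟨k, hk⟩ := h2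
        apply good_of_good_mulVec _ (yZ_mem_H (F := F) k (-(v zI) / v (eI k)))
        apply good_of_z_zero _ _ _ _ le_rfl
        · rw [Cfsg.Agent.Lib.Helper61.StO.mat_yZ, Cfsg.Agent.Lib.Helper61.StO.yZMat_mulVec]
          simp only [if_true, if_neg (hzf k)]
          field_simp
          ring
        · rw [quad_mulVec]; exact hQ
      · apply good_of_z v _ hz
        intro a ha
        rcases a with a | a | a
        · exact absurd rfl ha
        · by_contra hne; exact h2 ⟨a, hne⟩
        · by_contra hne; exact h1 ⟨a, hne⟩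

/-- the reflection matrix in a nonsingular vector is the matrix of an element of `O_{2m+1}(F)` -/
theorem exists_refl (v : OI m → F) (hQ : Cfsg.quadFormOdd m F v ≠ 0) :
    ∃ ρ : OG m F, mat ρ = Cfsg.reflectionMatrix (Cfsg.quadFormOdd m F) v := by
  set Q : QuadraticForm F (OI m → F) := Cfsg.Agent.Lib.Helper50.QOdd m F with hQdef
  have hQcoe : (⇑Q : (OI m → F) → F) = Cfsg.quadFormOdd m F := rfl
  have hQ' : Q v ≠ 0 := hQ
  have hmm : Cfsg.reflectionMatrix (⇑Q) v * Cfsg.reflectionMatrix (⇑Q) v = 1 := by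
    apply Matrix.toLin'.injective
    rw [Matrix.toLin'_mul, Cfsg.Agent.Lib.Helper19.toLin'_reflectionMatrix, Matrix.toLin'_one]
    exact Cfsg.Agent.Lib.Helper19.reflLin_mul_self Q v hQ'
  have hiso : ∀ u, Cfsg.quadFormOdd m F (Cfsg.reflectionMatrix (⇑Q) v *ᵥ u) =
      Cfsg.quadFormOdd m F u := by
    intro u
    have h1 := Cfsg.Agent.Lib.Helper19.reflLin_isometry Q v hQ' u
    rw [← Cfsg.Agent.Lib.Helper19.toLin'_reflectionMatrix, Matrix.toLin'_apply] at h1
    exact h1
  exact exists_of_isometry _ _ hmm hmm hiso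

theorem mem_H_of_prod (hall : ∀ v : OI m → F, Cfsg.quadFormOdd m F v ≠ 0 → Good v) :
    ∀ l : List (OI m → F), (∀ u ∈ l, Cfsg.quadFormOdd m F u ≠ 0) → ∀ g : OG m F,
      mat g = (l.map (Cfsg.reflectionMatrix (Cfsg.quadFormOdd m F))).prod → g ∈ HH m F := by
  intro l
  induction l with
  | nil =>
    intro _ g hg
    have : g = 1 := mat_injective (by rw [hg]; simp)
    rw [this]; exact one_mem _
  | cons v l ih =>
    intro hl g hg
    have hv : Cfsg.quadFormOdd m F v ≠ 0 := hl v (List.mem_cons_self)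
    obtain ⟨ρ, hρ⟩ := exists_refl v hv
    set Q : QuadraticForm F (OI m → F) := Cfsg.Agent.Lib.Helper50.QOdd m F with hQdef
    have hρmem : ρ ∈ HH m F := by
      apply hall v hv
      intro u
      rw [hρ]
      exact Cfsg.Agent.Lib.Helper19.reflectionMatrix_mulVec Q v u
    have hmm : mat ρ * mat ρ = 1 := by
      rw [hρ]
      apply Matrix.toLin'.injective
      rw [Matrix.toLin'_mul]
      have := Cfsg.Agent.Lib.Helper19.toLin'_reflectionMatrix Q v
      rw [show Cfsg.reflectionMatrix (Cfsg.quadFormOdd m F) v = Cfsg.reflectionMatrix (⇑Q) v from rfl,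
        this, Matrix.toLin'_one]
      exact Cfsg.Agent.Lib.Helper19.reflLin_mul_self Q v hv
    have h1 : ρ * g ∈ HH m F := by
      apply ih (fun u hu => hl u (List.mem_cons_of_mem _ hu))
      rw [mat_mul, hg, List.map_cons, List.prod_cons, ← mul_assoc, ← hρ, hmm, one_mul]
    have h2 : g = ρ⁻¹ * (ρ * g) := by group
    rw [h2]
    exact mul_mem (inv_mem hρmem) h1

theorem B_sup_Bminus [Fintype F] (h2 : (2 : F) ≠ 0) : Bsub m F ⊔ Bminus m F = ⊤ := by
  rw [eq_top_iff]
  intro g _
  have hdet : (Matrix.fromBlocks ((2 * (1 : F)) • (1 : Matrix Unit Unit F))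
        (0 : Matrix Unit (Fin m ⊕ Fin m) F) (0 : Matrix (Fin m ⊕ Fin m) Unit F)
        (Matrix.fromBlocks (0 : Matrix (Fin m) (Fin m) F) (1 : Matrix (Fin m) (Fin m) F)
        (1 : Matrix (Fin m) (Fin m) F) (0 : Matrix (Fin m) (Fin m) F))).det ≠ 0 := by
    rw [Cfsg.Agent.Lib.Helper50.det_odd_gram]
    exact mul_ne_zero (mul_ne_zero h2 one_ne_zero) (pow_ne_zero _ (neg_ne_zero.mpr one_ne_zero))
  set Q : QuadraticForm F (Unit ⊕ (Fin m ⊕ Fin m) → F) := Cfsg.Agent.Lib.Helper50.QOdd m F with hQdef
  have hQ : (QuadraticMap.polarBilin Q).Nondegenerate :=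
    Cfsg.Agent.Lib.Helper50.qfOfPolar_nondegenerate _ _ _ _ hdet
  obtain ⟨l, hl, hg⟩ := Cfsg.Agent.Lib.Helper19.isometry_eq_prod_reflectionMatrix h2 Q hQ (mat g)
    (fun x => quad_mulVec g x)
  exact mem_H_of_prod good_all l hl g hg

end Cfsg.Agent.Lib.Helper75.StO
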