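import Mathlib
import Cfsg.Agent.Lib.Helper75.ClassProd
import Cfsg.Agent.Lib.Helper77.ConjUnion
import Cfsg.Agent.S4160

set_option autoImplicit false

/-!
# Groups whose noncentral class sizes split into two coprime families
(Bertram–Herzog–Mann): structure of the normal abelian subgroup `Y`.
-/

namespace Cfsg.Agent.Lib.Helper75.TwoTypes

open Cfsg.Agent.Lib.Helper75.ClassProd
open scoped Pointwise

variable {G : Type*} [Group G]

/-- all prime divisors of `n` lie in `S` -/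
def SNum (S : Set ℕ) (n : ℕ) : Prop := ∀ p : ℕ, p.Prime → p ∣ n → p ∈ S

theorem SNum_one (S : Set ℕ) : SNum S 1 := by
  intro p hp h
  exact absurd (Nat.dvd_one.1 h) hp.ne_one

theorem coprime_of_SNum {S : Set ℕ} {m n : ℕ} (hm : SNum S m) (hn : SNum Sᶜ n) :
    m.Coprime n :=
  Nat.coprime_of_dvd (fun k hk hkm hkn => hn k hk hkn (hm k hk hkm))

theorem eq_one_of_SNum_both {S : Set ℕ} {n : ℕ} (h1 : SNum S n) (h2 : SNum Sᶜ n) : n = 1 := by
  by_contra h
  obtain ⟨p, hp, hpn⟩ := Nat.exists_prime_and_dvd h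
  exact h2 p hp hpn (h1 p hp hpn)

theorem SNum_of_dvd {S : Set ℕ} {m n : ℕ} (h : SNum S n) (hd : m ∣ n) : SNum S m :=
  fun p hp hpm => h p hp (hpm.trans hd)

/-- the data of a two-type configuration, with the largest class of type `S` -/
structure Setup (G : Type*) [Group G] (S : Set ℕ) where
  h0 : ∀ g : G, SNum S (idx g) ∨ SNum Sᶜ (idx g)
  a0 : G
  ha0 : SNum S (idx a0)
  ha0' : idx a0 ≠ 1
  hmax : ∀ g : G, idx g ≤ idx a0
  b1 : G
  hb1 : SNum Sᶜ (idx b1)
  hb1' : idx b1 ≠ 1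

variable {S : Set ℕ}

namespace Setup

variable (D : Setup G S)
include D

theorem t1_of_not_inY {g : G} (h : ¬ SNum Sᶜ (idx g)) : SNum S (idx g) ∧ idx g ≠ 1 := by
  refine ⟨(D.h0 g).resolve_right h, ?_⟩
  intro h1
  apply h
  rw [h1]
  exact SNum_one _

theorem not_inY_of_t1 {g : G} (h1 : SNum S (idx g)) (h2 : idx g ≠ 1) : ¬ SNum Sᶜ (idx g) :=
  fun h => h2 (eq_one_of_SNum_both h1 h)

theorem type_or [Finite G] {u v : G} (hu : SNum S (idx u)) (hv : SNum Sᶜ (idx v)) :
    (idx (u * v)).Coprime (idx v) ∨ (idx (u * v)).Coprime (idx u) := by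
  rcases D.h0 (u * v) with h | h
  · exact Or.inl (coprime_of_SNum h hv)
  · exact Or.inr (coprime_of_SNum hu h).symm

theorem type_or' [Finite G] {u v : G} (hu : SNum S (idx u)) (hv : SNum Sᶜ (idx v)) :
    (idx (v * u)).Coprime (idx u) ∨ (idx (v * u)).Coprime (idx v) := by
  rcases D.h0 (v * u) with h | h
  · exact Or.inr (coprime_of_SNum h hv)
  · exact Or.inl (coprime_of_SNum hu h).symm

/-- `L3` -/
theorem idx_mul_of_lt [Finite G] {u v : G} (hu : SNum S (idx u)) (hv : SNum Sᶜ (idx v))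
    (hlt : idx v < idx u) : idx (u * v) = idx u :=
  idx_mul_eq_of_lt (coprime_of_SNum hu hv) hlt (D.type_or hu hv)

theorem idx_mul_of_lt' [Finite G] {u v : G} (hu : SNum S (idx u)) (hv : SNum Sᶜ (idx v))
    (hlt : idx u < idx v) : idx (v * u) = idx v :=
  idx_mul_eq_of_lt (coprime_of_SNum hu hv).symm hlt (D.type_or' hu hv)

theorem ne_of_coprime_ne_one {m n : ℕ} (h : m.Coprime n) (hm : m ≠ 1) : m ≠ n := by
  rintro rfl
  exact hm ((Nat.coprime_self m).1 h)

/-- `L5`: every class of type `S` is larger than every class of type `Sᶜ`. -/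
theorem lt_of_types [Finite G] {a b : G} (ha : SNum S (idx a)) (ha' : idx a ≠ 1)
    (hb : SNum Sᶜ (idx b)) : idx b < idx a := by
  by_contra hcon
  have hle : idx a ≤ idx b := not_lt.1 hcon
  have hapos := idx_pos a
  have hb' : idx b ≠ 1 := by
    intro h1
    omega
  have hcop : (idx a).Coprime (idx b) := coprime_of_SNum ha hb
  have hne : idx a ≠ idx b := ne_of_coprime_ne_one D hcop ha'
  have hlt : idx a < idx b := lt_of_le_of_ne hle hne
  -- idx (b * a) = idx b
  have h1 : idx (b * a) = idx b := D.idx_mul_of_lt' ha hb hlt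
  have hstar : ∀ d c c' : G, IsConj b d → IsConj a c → IsConj a c' →
      IsConj b (d * c * c'⁻¹) := fun d c c' hd hc hc' =>
    isConj_mul_mul_inv (u := b) (v := a) (w := b * a)
      (fun x c hx hc => isConj_mul_of_coprime hcop.symm hx hc) h1 hd hc hc'
  have hba : SNum Sᶜ (idx (b * a)) := by rw [h1]; exact hb
  have hba' : idx (b * a) ≠ 1 := by rw [h1]; exact hb'
  have hcop0 : (idx D.a0).Coprime (idx (b * a)) := coprime_of_SNum D.ha0 hba
  have hlt0 : idx (b * a) < idx D.a0 :=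
    lt_of_le_of_ne (D.hmax _) (ne_of_coprime_ne_one D hcop0.symm hba')
  have h2 : idx (D.a0 * (b * a)) = idx D.a0 := D.idx_mul_of_lt D.ha0 hba hlt0
  set e := D.a0 * (b * a) with he
  have heS : SNum S (idx e) := by rw [h2]; exact D.ha0
  have hbinv : SNum Sᶜ (idx b⁻¹) := by rw [idx_inv]; exact hb
  have hlt1 : idx b⁻¹ < idx e := by
    rw [idx_inv, h2]
    have := D.hmax (b * a)
    omega
  have h3 : idx (e * b⁻¹) = idx e := D.idx_mul_of_lt heS hbinv hlt1
  have hcope : (idx e).Coprime (idx b⁻¹) := coprime_of_SNum heS hbinv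
  have hprod : ∀ x c : G, IsConj D.a0 x → IsConj a c → IsConj (e * b⁻¹) (x * c) := by
    intro x c hx hc
    have e1 : IsConj (a * b) (c * b) := isConj_mul_of_coprime hcop hc (IsConj.refl b)
    have e2 : IsConj (b * a) (a * b) := isConj_iff.2 ⟨a, by group⟩
    have e3 : IsConj (b * a) (c * b) := e2.trans e1
    have e4 : IsConj e (x * (c * b)) := isConj_mul_of_coprime hcop0 hx e3
    have e5 : IsConj (e * b⁻¹) (x * (c * b) * b⁻¹) :=
      isConj_mul_of_coprime hcope e4 (IsConj.refl _)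
    have : x * c = x * (c * b) * b⁻¹ := by group
    rw [this]
    exact e5
  have hstar2 : ∀ x c c' : G, IsConj D.a0 x → IsConj a c → IsConj a c' →
      IsConj D.a0 (x * c * c'⁻¹) := fun x c c' hx hc hc' =>
    isConj_mul_mul_inv (u := D.a0) (v := a) (w := e * b⁻¹) hprod (h3.trans h2) hx hc hc'
  -- the stabilizers
  set M : Subgroup G := stabR {y : G | IsConj D.a0 y} ⊓ stabR {y : G | IsConj b y} with hM
  have hmem : ∀ c c' : G, IsConj a c → IsConj a c' → c * c'⁻¹ ∈ M := by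
    intro c c' hc hc'
    refine Subgroup.mem_inf.2 ⟨⟨?_, ?_⟩, ⟨?_, ?_⟩⟩
    · intro x hx
      rw [← mul_assoc]
      exact hstar2 x c c' hx hc hc'
    · intro x hx
      rw [mul_inv_rev, inv_inv, ← mul_assoc]
      exact hstar2 x c' c hx hc' hc
    · intro x hx
      rw [← mul_assoc]
      exact hstar x c c' hx hc hc'
    · intro x hx
      rw [mul_inv_rev, inv_inv, ← mul_assoc]
      exact hstar x c' c hx hc' hc
  have hd1 : Nat.card M ∣ idx D.a0 := by
    have h := (Subgroup.card_dvd_of_le (inf_le_left : M ≤ stabR {y : G | IsConj D.a0 y})).trans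
      (card_stabR_dvd _)
    rw [idx_eq_card]
    exact h
  have hd2 : Nat.card M ∣ idx b := by
    have h := (Subgroup.card_dvd_of_le (inf_le_right : M ≤ stabR {y : G | IsConj b y})).trans
      (card_stabR_dvd _)
    rw [idx_eq_card]
    exact h
  have hM1 : Nat.card M = 1 :=
    Nat.eq_one_of_dvd_coprimes (coprime_of_SNum D.ha0 hb) hd1 hd2
  have hMbot : M = ⊥ := Subgroup.card_eq_one.1 hM1
  have hsub : Subsingleton {y : G // IsConj a y} := by
    refine ⟨fun c c' => ?_⟩
    have := hmem c.1 c'.1 c.2 c'.2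
    rw [hMbot, Subgroup.mem_bot] at this
    exact Subtype.ext (mul_inv_eq_one.1 this)
  have : idx a ≤ 1 := by
    rw [idx_eq_card]
    exact Finite.card_le_one_iff_subsingleton.2 hsub
  omega


/-- the subgroup `Y` of elements whose class size is an `Sᶜ`-number -/
def Y [Finite G] : Subgroup G where
  carrier := {g | SNum Sᶜ (idx g)}
  one_mem' := by
    have : idx (1 : G) = 1 := (idx_eq_one_iff 1).2 (Subgroup.one_mem _)
    show SNum Sᶜ (idx (1 : G))
    rw [this]
    exact SNum_one _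
  inv_mem' := by
    intro g hg
    show SNum Sᶜ (idx g⁻¹)
    rw [idx_inv]
    exact hg
  mul_mem' := by
    intro g g' hg hg'
    show SNum Sᶜ (idx (g * g'))
    by_contra h
    obtain ⟨h1, h2⟩ := D.t1_of_not_inY h
    have hg'inv : SNum Sᶜ (idx g'⁻¹) := by rw [idx_inv]; exact hg'
    have hlt := D.lt_of_types h1 h2 hg'inv
    have h3 := D.idx_mul_of_lt h1 hg'inv hlt
    rw [mul_inv_cancel_right] at h3
    apply h
    rw [← h3]
    exact hg

theorem mem_Y [Finite G] {g : G} : g ∈ D.Y ↔ SNum Sᶜ (idx g) := Iff.rfl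

instance Y_normal [Finite G] : (D.Y).Normal := by
  refine ⟨fun n hn g => ?_⟩
  rw [mem_Y] at hn ⊢
  rw [idx_conj]
  exact hn

theorem center_le_Y [Finite G] : Subgroup.center G ≤ D.Y := by
  intro z hz
  rw [mem_Y, (idx_eq_one_iff z).2 hz]
  exact SNum_one _

theorem a0_not_mem_Y [Finite G] : D.a0 ∉ D.Y := fun h =>
  D.ha0' (eq_one_of_SNum_both D.ha0 ((D.mem_Y).1 h))

theorem b1_mem_Y [Finite G] : D.b1 ∈ D.Y := D.hb1

theorem b1_not_mem_center [Finite G] : D.b1 ∉ Subgroup.center G := fun h =>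
  D.hb1' ((idx_eq_one_iff _).2 h)

theorem t1_of_not_mem_Y [Finite G] {g : G} (h : g ∉ D.Y) : SNum S (idx g) ∧ idx g ≠ 1 :=
  D.t1_of_not_inY h

end Setup

/-- the common right stabilizer of all classes of type `S` -/
def Nst (S : Set ℕ) : Subgroup G where
  carrier := {k | ∀ x : G, SNum S (idx x) → idx x ≠ 1 → IsConj x (x * k) ∧ IsConj x (x * k⁻¹)}
  one_mem' := by
    intro x _ _
    refine ⟨?_, ?_⟩
    · rw [mul_one]
    · rw [inv_one, mul_one]
  mul_mem' := by
    intro k l hk hl x hx hx'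
    obtain ⟨hk1, hk2⟩ := hk x hx hx'
    obtain ⟨hl1, hl2⟩ := hl x hx hx'
    refine ⟨?_, ?_⟩
    · have e : idx (x * k) = idx x := (idx_eq_of_isConj hk1).symm
      have := (hl (x * k) (e ▸ hx) (e ▸ hx')).1
      rw [← mul_assoc]
      exact hk1.trans this
    · have e : idx (x * l⁻¹) = idx x := (idx_eq_of_isConj hl2).symm
      have := (hk (x * l⁻¹) (e ▸ hx) (e ▸ hx')).2
      rw [mul_inv_rev, ← mul_assoc]
      exact hl2.trans this
  inv_mem' := by
    intro k hk x hx hx'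
    obtain ⟨hk1, hk2⟩ := hk x hx hx'
    exact ⟨hk2, by rw [inv_inv]; exact hk1⟩

instance Nst_normal (S : Set ℕ) : (Nst (G := G) S).Normal := by
  refine ⟨fun n hn g x hx hx' => ?_⟩
  have e : idx (g⁻¹ * x * g) = idx x := by
    have := idx_conj g⁻¹ x
    rwa [inv_inv] at this
  have hc : IsConj x (g⁻¹ * x * g) := isConj_iff.2 ⟨g⁻¹, by group⟩
  obtain ⟨h1, h2⟩ := hn (g⁻¹ * x * g) (e ▸ hx) (e ▸ hx')
  refine ⟨?_, ?_⟩
  · have h3 : IsConj (g⁻¹ * x * g * n) (x * (g * n * g⁻¹)) := isConj_iff.2 ⟨g, by group⟩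
    exact (hc.trans h1).trans h3
  · have h3 : IsConj (g⁻¹ * x * g * n⁻¹) (x * (g * n * g⁻¹)⁻¹) := isConj_iff.2 ⟨g, by group⟩
    exact (hc.trans h2).trans h3

theorem card_Nst_dvd {a : G} (ha : SNum S (idx a)) (ha' : idx a ≠ 1) :
    Nat.card (Nst (G := G) S) ∣ idx a := by
  rw [idx_eq_card]
  refine card_dvd_of_mul_stable {y : G | IsConj a y} (Nst S) ?_
  intro x hx k hk
  have e : idx x = idx a := (idx_eq_of_isConj hx).symm
  exact (hx : IsConj a x).trans (hk x (e ▸ ha) (e ▸ ha')).1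

namespace Setup

variable (D : Setup G S)
include D

/-- `N2` -/
theorem mul_inv_mem_Nst [Finite G] {y d d' : G} (hy : SNum Sᶜ (idx y)) (hd : IsConj y d)
    (hd' : IsConj y d') : d * d'⁻¹ ∈ Nst (G := G) S := by
  intro x hx hx'
  have hlt := D.lt_of_types hx hx' hy
  have h3 := D.idx_mul_of_lt hx hy hlt
  have hcop := coprime_of_SNum hx hy
  have key : ∀ e e' : G, IsConj y e → IsConj y e' → IsConj x (x * e * e'⁻¹) := fun e e' he he' =>
    isConj_mul_mul_inv (u := x) (v := y) (w := x * y)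
      (fun x' c hx'' hc => isConj_mul_of_coprime hcop hx'' hc) h3 (IsConj.refl x) he he'
  refine ⟨?_, ?_⟩
  · rw [← mul_assoc]
    exact key d d' hd hd'
  · rw [mul_inv_rev, inv_inv, ← mul_assoc]
    exact key d' d hd' hd

theorem card_Nst_dvd_a0 : Nat.card (Nst (G := G) S) ∣ idx D.a0 := card_Nst_dvd D.ha0 D.ha0'

/-- `A1` -/
theorem Nst_le_cent [Finite G] {y : G} (hy : SNum Sᶜ (idx y)) :
    Nst (G := G) S ≤ Subgroup.centralizer ({y} : Set G) := by
  rw [← Subgroup.relIndex_eq_one]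
  have h1 : (Subgroup.centralizer ({y} : Set G)).relIndex (Nst S) ∣ idx y :=
    relIndex_dvd_index_of_normal_right _ _
  have h2 : (Subgroup.centralizer ({y} : Set G)).relIndex (Nst S) ∣ idx D.a0 :=
    (Subgroup.relIndex_dvd_card _ _).trans D.card_Nst_dvd_a0
  exact Nat.eq_one_of_dvd_coprimes (coprime_of_SNum D.ha0 hy) h2 h1

theorem comm_of_mem_Nst [Finite G] {k y : G} (hk : k ∈ Nst (G := G) S) (hy : SNum Sᶜ (idx y)) :
    y * k = k * y := (mem_cent_iff k y).1 (D.Nst_le_cent hy hk)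

end Setup

end Cfsg.Agent.Lib.Helper75.TwoTypes
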