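import Mathlib
import Cfsg.Agent.Lib.Helper75.TwoTypes

set_option autoImplicit false

/-!
# Two coprime families of class sizes: `Y` is abelian, self-centralizing, acted on freely
-/

namespace Cfsg.Agent.Lib.Helper75.TwoTypes

open Cfsg.Agent.Lib.Helper75.ClassProd
open scoped Pointwise

variable {G : Type*} [Group G] {S : Set ℕ}

/-- if `a⁻¹ w a = z w` with `a` commuting with `z`, and `aⁿ` commutes with `w`, then `zⁿ = 1` -/
theorem pow_eq_one_of_conj {a w z : G} (hz : a⁻¹ * w * a = z * w) (hc : a * z = z * a) (n : ℕ)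
    (hn : a ^ n * w = w * a ^ n) : z ^ n = 1 := by
  have key : ∀ j : ℕ, (a ^ j)⁻¹ * w * a ^ j = z ^ j * w := by
    intro j
    induction j with
    | zero => simp
    | succ j ih =>
      have hcj : a * z ^ j = z ^ j * a := Commute.pow_right (show Commute a z from hc) j
      have e1 : a⁻¹ * z ^ j * a = z ^ j := by
        rw [mul_assoc, ← hcj]; group
      calc (a ^ (j + 1))⁻¹ * w * a ^ (j + 1) = a⁻¹ * ((a ^ j)⁻¹ * w * a ^ j) * a := by
            rw [pow_succ]; group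
        _ = a⁻¹ * (z ^ j * w) * a := by rw [ih]
        _ = (a⁻¹ * z ^ j * a) * (a⁻¹ * w * a) := by group
        _ = z ^ j * (z * w) := by rw [hz, e1]
        _ = z ^ (j + 1) * w := by rw [pow_succ]; group
  have h := key n
  have e2 : (a ^ n)⁻¹ * w * a ^ n = w := by
    rw [mul_assoc, ← hn]; group
  rw [e2] at h
  have : 1 * w = z ^ n * w := by rw [one_mul]; exact h
  exact (mul_right_cancel this).symm

namespace Setup

variable (D : Setup G S)
include D

/-- `A2`: `Y` is abelian. -/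
theorem Y_comm [Finite G] {y u : G} (hy : y ∈ D.Y) (hu : u ∈ D.Y) : y * u = u * y := by
  have hyS : SNum Sᶜ (idx y) := hy
  have hz : ∀ v : G, v ∈ D.Y → y⁻¹ * v⁻¹ * y * v ∈ Nst (G := G) S := by
    intro v _
    have hyinv : SNum Sᶜ (idx y⁻¹) := by rw [idx_inv]; exact hy
    have h1 : IsConj y⁻¹ y⁻¹ := IsConj.refl _
    have h2 : IsConj y⁻¹ (v⁻¹ * y⁻¹ * v) := isConj_iff.2 ⟨v⁻¹, by group⟩
    have := D.mul_inv_mem_Nst hyinv h1 h2
    have e : y⁻¹ * (v⁻¹ * y⁻¹ * v)⁻¹ = y⁻¹ * v⁻¹ * y * v := by group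
    rwa [e] at this
  have hzY : ∀ v : G, v ∈ D.Y → y⁻¹ * v⁻¹ * y * v ∈ D.Y := by
    intro v _
    have e : y⁻¹ * v⁻¹ * y * v = y⁻¹ * (v⁻¹ * y * v⁻¹⁻¹) := by group
    rw [e]
    exact D.Y.mul_mem (D.Y.inv_mem hy) ((D.Y_normal).conj_mem y hy v⁻¹)
  let φ : D.Y →* G := MonoidHom.mk' (fun v => y⁻¹ * (v : G)⁻¹ * y * (v : G)) (by
    intro v w
    have c1 : (w : G) * (y⁻¹ * (v : G)⁻¹ * y * (v : G)) = (y⁻¹ * (v : G)⁻¹ * y * (v : G)) * (w : G) :=
      D.comm_of_mem_Nst (hz v v.2) w.2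
    have c2 : (y⁻¹ * (w : G)⁻¹ * y * (w : G)) * (y⁻¹ * (v : G)⁻¹ * y * (v : G)) =
        (y⁻¹ * (v : G)⁻¹ * y * (v : G)) * (y⁻¹ * (w : G)⁻¹ * y * (w : G)) :=
      D.comm_of_mem_Nst (hz v v.2) (hzY w w.2)
    show y⁻¹ * ((v : G) * (w : G))⁻¹ * y * ((v : G) * (w : G)) = _
    calc y⁻¹ * ((v : G) * (w : G))⁻¹ * y * ((v : G) * (w : G))
        = y⁻¹ * (w : G)⁻¹ * y * ((y⁻¹ * (v : G)⁻¹ * y * (v : G)) * (w : G)) := by group
      _ = y⁻¹ * (w : G)⁻¹ * y * ((w : G) * (y⁻¹ * (v : G)⁻¹ * y * (v : G))) := by rw [c1]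
      _ = (y⁻¹ * (w : G)⁻¹ * y * (w : G)) * (y⁻¹ * (v : G)⁻¹ * y * (v : G)) := by group
      _ = _ := c2)
  have hφ : ∀ v : D.Y, φ v = y⁻¹ * (v : G)⁻¹ * y * (v : G) := fun v => rfl
  have hker : φ.ker = (Subgroup.centralizer ({y} : Set G)).subgroupOf D.Y := by
    ext v
    rw [MonoidHom.mem_ker, Subgroup.mem_subgroupOf, mem_cent_iff, hφ]
    constructor
    · intro h
      have : y * (v : G) = (v : G) * y * (y⁻¹ * (v : G)⁻¹ * y * (v : G)) := by group
      rw [this, h, mul_one]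
    · intro h
      have : y⁻¹ * (v : G)⁻¹ * y * (v : G) = y⁻¹ * (v : G)⁻¹ * (y * (v : G)) := by group
      rw [this, h]; group
  have hrange : φ.range ≤ Nst (G := G) S := by
    rintro _ ⟨v, rfl⟩
    exact hz v v.2
  have h1 : (Subgroup.centralizer ({y} : Set G)).relIndex D.Y ∣ Nat.card (Nst (G := G) S) := by
    have : (Subgroup.centralizer ({y} : Set G)).relIndex D.Y = φ.ker.index := by rw [hker]; rfl
    rw [this, Subgroup.index_ker]
    exact Subgroup.card_dvd_of_le hrange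
  have h2 : (Subgroup.centralizer ({y} : Set G)).relIndex D.Y ∣ idx y :=
    relIndex_dvd_index_of_normal_right _ _
  have h3 : (Subgroup.centralizer ({y} : Set G)).relIndex D.Y = 1 :=
    Nat.eq_one_of_dvd_coprimes (coprime_of_SNum D.ha0 hyS) (h1.trans D.card_Nst_dvd_a0) h2
  rw [Subgroup.relIndex_eq_one] at h3
  exact (mem_cent_iff u y).1 (h3 hu)

/-- `B'`: the centralizer of an element of `Y` is normal. -/
theorem conj_mem_cent [Finite G] {b n : G} (hb : b ∈ D.Y)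
    (hn : n ∈ Subgroup.centralizer ({b} : Set G)) (g : G) :
    g * n * g⁻¹ ∈ Subgroup.centralizer ({b} : Set G) := by
  by_cases hnY : n ∈ D.Y
  · rw [mem_cent_iff]
    exact D.Y_comm hb ((D.Y_normal).conj_mem n hnY g)
  · obtain ⟨h1, _⟩ := D.t1_of_not_mem_Y hnY
    have hcop : (idx n).Coprime (idx b) := coprime_of_SNum h1 hb
    obtain ⟨k, hk, x, hx, rfl⟩ := exists_mul_of_coprime_index _ _ hcop g
    rw [mem_cent_iff] at hx
    have e : k * x * n * (k * x)⁻¹ = k * n * k⁻¹ := by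
      have : x * n * x⁻¹ = n := by rw [← hx]; group
      calc k * x * n * (k * x)⁻¹ = k * (x * n * x⁻¹) * k⁻¹ := by group
        _ = _ := by rw [this]
    rw [e]
    exact Subgroup.mul_mem _ (Subgroup.mul_mem _ hk hn) (Subgroup.inv_mem _ hk)

theorem comm_mem_cent [Finite G] {b : G} (hb : b ∈ D.Y) (g h : G) :
    g * h * g⁻¹ * h⁻¹ ∈ Subgroup.centralizer ({b} : Set G) := by
  by_cases hhY : h ∈ D.Y
  · have hh : h ∈ Subgroup.centralizer ({b} : Set G) := by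
      rw [mem_cent_iff]; exact D.Y_comm hb hhY
    exact Subgroup.mul_mem _ (D.conj_mem_cent hb hh g) (Subgroup.inv_mem _ hh)
  · obtain ⟨h1, _⟩ := D.t1_of_not_mem_Y hhY
    have hcop : (idx h).Coprime (idx b) := coprime_of_SNum h1 hb
    obtain ⟨k, hk, x, hx, rfl⟩ := exists_mul_of_coprime_index _ _ hcop g
    rw [mem_cent_iff] at hx
    have e : k * x * h * (k * x)⁻¹ * h⁻¹ = k * (h * k⁻¹ * h⁻¹) := by
      have : x * h * x⁻¹ = h := by rw [← hx]; group
      calc k * x * h * (k * x)⁻¹ * h⁻¹ = k * (x * h * x⁻¹) * k⁻¹ * h⁻¹ := by group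
        _ = k * h * k⁻¹ * h⁻¹ := by rw [this]
        _ = _ := by group
    rw [e]
    exact Subgroup.mul_mem _ hk (D.conj_mem_cent hb (Subgroup.inv_mem _ hk) h)

theorem pow_idx_mem_cent [Finite G] {b : G} (hb : b ∈ D.Y) (g : G) :
    g ^ idx b ∈ Subgroup.centralizer ({b} : Set G) := by
  have : (Subgroup.centralizer ({b} : Set G)).Normal :=
    ⟨fun n hn g => D.conj_mem_cent hb hn g⟩
  rw [← QuotientGroup.eq_one_iff, QuotientGroup.mk_pow]
  have : idx b = Nat.card (G ⧸ Subgroup.centralizer ({b} : Set G)) := rfl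
  rw [this]
  exact pow_card_eq_one'

/-- `R4` -/
theorem exists_mul_cent_sylow [Finite G] {p : ℕ} [Fact p.Prime] (hp : p ∉ S) (R : Sylow p G)
    (g : G) : ∃ y ∈ D.Y, ∃ h ∈ Subgroup.centralizer ((R : Subgroup G) : Set G), g = y * h := by
  set M : Subgroup G := D.Y ⊔ Subgroup.centralizer ((R : Subgroup G) : Set G) with hM
  have hMtop : M = ⊤ := by
    by_contra hne
    obtain ⟨x₀, hx₀⟩ := Cfsg.Agent.Lib.Helper77.exists_not_mem_conj M hne
    by_cases hxY : x₀ ∈ D.Y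
    · apply hx₀ 1
      rw [Cfsg.Agent.Lib.Helper77.mem_conj_smul_iff]
      have h1 : x₀ ∈ M := (le_sup_left : D.Y ≤ M) hxY
      have e : (1 : G)⁻¹ * x₀ * 1 = x₀ := by group
      rw [e]
      exact h1
    · obtain ⟨h1, _⟩ := D.t1_of_not_mem_Y hxY
      have hnd : ¬ p ∣ idx x₀ := fun hd => hp (h1 p Fact.out hd)
      obtain ⟨t, ht⟩ := Cfsg.Agent.S4160.conj_mem_centralizer R x₀ hnd
      apply hx₀ t
      rw [Cfsg.Agent.Lib.Helper77.mem_conj_smul_iff]
      exact (le_sup_right : _ ≤ M) ht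
  have hg : g ∈ M := by rw [hMtop]; exact Subgroup.mem_top g
  rw [hM, ← SetLike.mem_coe, Subgroup.normal_mul] at hg
  obtain ⟨y, hy, h, hh, rfl⟩ := Set.mem_mul.1 hg
  exact ⟨y, hy, h, hh, rfl⟩

end Setup

end Cfsg.Agent.Lib.Helper75.TwoTypes
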