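import Mathlib
import Cfsg.Agent.Lib.Helper75.TwoTypes2

set_option autoImplicit false

/-!
# Two coprime families of class sizes: the free action on `Y / Z(G)` and coprimality
-/

namespace Cfsg.Agent.Lib.Helper75.TwoTypes

open Cfsg.Agent.Lib.Helper75.ClassProd
open scoped Pointwise

variable {G : Type*} [Group G] {S : Set ℕ}

namespace Setup

variable (D : Setup G S)
include D

theorem orderOf_dvd_card_Nst {z : G} (hz : z ∈ Nst (G := G) S) :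
    orderOf z ∣ idx D.a0 := by
  have h := orderOf_dvd_natCard (⟨z, hz⟩ : Nst (G := G) S)
  rw [Subgroup.orderOf_mk] at h
  exact h.trans D.card_Nst_dvd_a0

/-- `C`: an element outside `Y` commutes with no noncentral element of `Y`. -/
theorem mem_center_of_comm [Finite G] {x b : G} (hx : x ∉ D.Y) (hb : b ∈ D.Y)
    (hxb : x * b = b * x) : b ∈ Subgroup.center G := by
  by_contra hbZ
  have hbS : SNum Sᶜ (idx b) := hb
  have hb1 : idx b ≠ 1 := fun h => hbZ ((idx_eq_one_iff b).1 h)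
  obtain ⟨p, hp, hpb⟩ := Nat.exists_prime_and_dvd hb1
  have : Fact p.Prime := ⟨hp⟩
  have hpS : p ∉ S := hbS p hp hpb
  obtain ⟨R⟩ : Nonempty (Sylow p G) := inferInstance
  have hRF : ¬ (R : Subgroup G) ≤ Subgroup.centralizer ({b} : Set G) := by
    intro hle
    exact R.not_dvd_index (hpb.trans (Subgroup.index_dvd_of_le hle))
  obtain ⟨s, hsR, hsb⟩ := SetLike.not_le_iff_exists.1 hRF
  obtain ⟨y₁, hy₁, a, ha, hxa⟩ := D.exists_mul_cent_sylow hpS R x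
  have haY : a ∉ D.Y := by
    intro haY
    apply hx
    rw [hxa]
    exact D.Y.mul_mem hy₁ haY
  have hab : a * b = b * a := by
    have ea : a = y₁⁻¹ * x := by rw [hxa]; group
    have c1 : y₁⁻¹ * b = b * y₁⁻¹ := D.Y_comm (D.Y.inv_mem hy₁) hb
    rw [ea, mul_assoc, hxb, ← mul_assoc, c1, mul_assoc]
  have habY : a * b ∉ D.Y := by
    intro h
    apply haY
    have : a = a * b * b⁻¹ := by group
    rw [this]
    exact D.Y.mul_mem h (D.Y.inv_mem hb)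
  obtain ⟨h1, _⟩ := D.t1_of_not_mem_Y habY
  have hnd : ¬ p ∣ idx (a * b) := fun hd => hpS (h1 p hp hd)
  obtain ⟨t, ht⟩ := Cfsg.Agent.S4160.conj_mem_centralizer R (a * b) hnd
  obtain ⟨y₂, hy₂, h₂, hh₂, rfl⟩ := D.exists_mul_cent_sylow hpS R t
  have hc2 : y₂⁻¹ * (a * b) * y₂ ∈ Subgroup.centralizer ((R : Subgroup G) : Set G) := by
    have : y₂⁻¹ * (a * b) * y₂ = h₂ * ((y₂ * h₂)⁻¹ * (a * b) * (y₂ * h₂)) * h₂⁻¹ := by group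
    rw [this]
    exact Subgroup.mul_mem _ (Subgroup.mul_mem _ hh₂ ht) (Subgroup.inv_mem _ hh₂)
  have hsa : s * a = a * s := Subgroup.mem_centralizer_iff.1 ha s hsR
  have hsc : s * (y₂⁻¹ * (a * b) * y₂) = (y₂⁻¹ * (a * b) * y₂) * s :=
    Subgroup.mem_centralizer_iff.1 hc2 s hsR
  have hwY : s⁻¹ * y₂ * s * y₂⁻¹ ∈ D.Y := by
    have e : s⁻¹ * y₂ * s * y₂⁻¹ = (s⁻¹ * y₂ * s⁻¹⁻¹) * y₂⁻¹ := by group
    rw [e]
    exact D.Y.mul_mem ((D.Y_normal).conj_mem y₂ hy₂ s⁻¹) (D.Y.inv_mem hy₂)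
  have hsw : s * (s⁻¹ * y₂ * s * y₂⁻¹) * (a * b) = a * b * (s * (s⁻¹ * y₂ * s * y₂⁻¹)) := by
    have e1 : s * (s⁻¹ * y₂ * s * y₂⁻¹) = y₂ * s * y₂⁻¹ := by group
    rw [e1]
    calc y₂ * s * y₂⁻¹ * (a * b) = y₂ * (s * (y₂⁻¹ * (a * b) * y₂)) * y₂⁻¹ := by group
      _ = y₂ * ((y₂⁻¹ * (a * b) * y₂) * s) * y₂⁻¹ := by rw [hsc]
      _ = _ := by group
  have hsa' : s⁻¹ * a = a * s⁻¹ := by
    have : s⁻¹ * a = s⁻¹ * (a * s) * s⁻¹ := by group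
    rw [this, ← hsa]; group
  have e2 : a⁻¹ * (s⁻¹ * y₂ * s * y₂⁻¹) * a * b = s⁻¹ * b * s * (s⁻¹ * y₂ * s * y₂⁻¹) := by
    have h3 : (s⁻¹ * y₂ * s * y₂⁻¹) * (a * b) =
        s⁻¹ * (a * b * (s * (s⁻¹ * y₂ * s * y₂⁻¹))) := by rw [← hsw]; group
    calc a⁻¹ * (s⁻¹ * y₂ * s * y₂⁻¹) * a * b = a⁻¹ * ((s⁻¹ * y₂ * s * y₂⁻¹) * (a * b)) := by group
      _ = a⁻¹ * (s⁻¹ * (a * b * (s * (s⁻¹ * y₂ * s * y₂⁻¹)))) := by rw [h3]
      _ = a⁻¹ * (s⁻¹ * a) * (b * s * (s⁻¹ * y₂ * s * y₂⁻¹)) := by group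
      _ = a⁻¹ * (a * s⁻¹) * (b * s * (s⁻¹ * y₂ * s * y₂⁻¹)) := by rw [hsa']
      _ = _ := by group
  have hu2 : s⁻¹ * b * s ∈ D.Y := by
    have e : s⁻¹ * b * s = s⁻¹ * b * s⁻¹⁻¹ := by group
    rw [e]
    exact (D.Y_normal).conj_mem b hb s⁻¹
  have hz : a⁻¹ * (s⁻¹ * y₂ * s * y₂⁻¹) * a = (s⁻¹ * b * s * b⁻¹) * (s⁻¹ * y₂ * s * y₂⁻¹) := by
    have h4 : a⁻¹ * (s⁻¹ * y₂ * s * y₂⁻¹) * a = s⁻¹ * b * s * (s⁻¹ * y₂ * s * y₂⁻¹) * b⁻¹ := by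
      rw [← e2]; group
    rw [h4, mul_assoc, D.Y_comm hwY (D.Y.inv_mem hb), ← mul_assoc]
  have hza : a * (s⁻¹ * b * s * b⁻¹) = (s⁻¹ * b * s * b⁻¹) * a := by
    have hab' : a * b⁻¹ = b⁻¹ * a := by
      have : a * b⁻¹ = b⁻¹ * (b * a) * b⁻¹ := by group
      rw [this, ← hab]; group
    calc a * (s⁻¹ * b * s * b⁻¹) = (a * s⁻¹) * b * s * b⁻¹ := by group
      _ = (s⁻¹ * a) * b * s * b⁻¹ := by rw [hsa']
      _ = s⁻¹ * (a * b) * s * b⁻¹ := by group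
      _ = s⁻¹ * (b * a) * s * b⁻¹ := by rw [hab]
      _ = s⁻¹ * b * (a * s) * b⁻¹ := by group
      _ = s⁻¹ * b * (s * a) * b⁻¹ := by rw [hsa]
      _ = s⁻¹ * b * s * (a * b⁻¹) := by group
      _ = s⁻¹ * b * s * (b⁻¹ * a) := by rw [hab']
      _ = _ := by group
  have hn : a ^ idx (s⁻¹ * y₂ * s * y₂⁻¹) * (s⁻¹ * y₂ * s * y₂⁻¹) =
      (s⁻¹ * y₂ * s * y₂⁻¹) * a ^ idx (s⁻¹ * y₂ * s * y₂⁻¹) :=
    ((mem_cent_iff _ _).1 (D.pow_idx_mem_cent hwY a)).symm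
  have hpow := pow_eq_one_of_conj hz hza _ hn
  have hzN : s⁻¹ * b * s * b⁻¹ ∈ Nst (G := G) S :=
    D.mul_inv_mem_Nst hbS (isConj_iff.2 ⟨s⁻¹, by group⟩) (IsConj.refl b)
  have ho1 : orderOf (s⁻¹ * b * s * b⁻¹) ∣ idx (s⁻¹ * y₂ * s * y₂⁻¹) :=
    orderOf_dvd_of_pow_eq_one hpow
  have ho2 : orderOf (s⁻¹ * b * s * b⁻¹) ∣ idx D.a0 := D.orderOf_dvd_card_Nst hzN
  have ho : orderOf (s⁻¹ * b * s * b⁻¹) = 1 :=
    Nat.eq_one_of_dvd_coprimes (coprime_of_SNum D.ha0 hwY) ho2 ho1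
  rw [orderOf_eq_one_iff] at ho
  apply hsb
  rw [mem_cent_iff]
  have h5 : s⁻¹ * b * s = b := mul_inv_eq_one.1 ho
  have h6 : b * s = s * (s⁻¹ * b * s) := by group
  rw [h6, h5]

/-- `C⁺`: the action of `G / Y` on `Y / Z(G)` is free. -/
theorem mem_center_of_comm_mod [Finite G] {x y : G} (hx : x ∉ D.Y) (hy : y ∈ D.Y)
    (hz : x⁻¹ * y⁻¹ * x * y ∈ Subgroup.center G) : y ∈ Subgroup.center G := by
  have hyinv : y⁻¹ ∈ D.Y := D.Y.inv_mem hy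
  have hyS : SNum Sᶜ (idx y⁻¹) := hyinv
  have h1 : x⁻¹ * y⁻¹ * x = (x⁻¹ * y⁻¹ * x * y) * y⁻¹ := by group
  have h2 : x * (x⁻¹ * y⁻¹ * x * y) = (x⁻¹ * y⁻¹ * x * y) * x :=
    (Subgroup.mem_center_iff.1 hz x)
  have hn : x ^ idx y⁻¹ * y⁻¹ = y⁻¹ * x ^ idx y⁻¹ :=
    ((mem_cent_iff _ _).1 (D.pow_idx_mem_cent hyinv x)).symm
  have hpow := pow_eq_one_of_conj h1 h2 _ hn
  have hzN : x⁻¹ * y⁻¹ * x * y ∈ Nst (G := G) S := by
    have := D.mul_inv_mem_Nst hyS (isConj_iff.2 ⟨x⁻¹, rfl⟩ : IsConj y⁻¹ (x⁻¹ * y⁻¹ * x⁻¹⁻¹))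
      (IsConj.refl y⁻¹)
    have e : x⁻¹ * y⁻¹ * x⁻¹⁻¹ * y⁻¹⁻¹ = x⁻¹ * y⁻¹ * x * y := by group
    rwa [e] at this
  have ho1 : orderOf (x⁻¹ * y⁻¹ * x * y) ∣ idx y⁻¹ := orderOf_dvd_of_pow_eq_one hpow
  have ho2 : orderOf (x⁻¹ * y⁻¹ * x * y) ∣ idx D.a0 := D.orderOf_dvd_card_Nst hzN
  have ho : orderOf (x⁻¹ * y⁻¹ * x * y) = 1 :=
    Nat.eq_one_of_dvd_coprimes (coprime_of_SNum D.ha0 hyS) ho2 ho1
  rw [orderOf_eq_one_iff] at ho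
  have hxy : x * y = y * x := by
    have : x * y = y * x * (x⁻¹ * y⁻¹ * x * y) := by group
    rw [this, ho, mul_one]
  exact D.mem_center_of_comm hx hy hxy

/-- `D1`: `G / Y` is abelian. -/
theorem comm_mem_Y [Finite G] (g h : G) : g * h * g⁻¹ * h⁻¹ ∈ D.Y := by
  by_contra hc
  have h1 := D.comm_mem_cent D.b1_mem_Y g h
  rw [mem_cent_iff] at h1
  exact D.b1_not_mem_center (D.mem_center_of_comm hc D.b1_mem_Y h1.symm)

/-- `D2` -/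
theorem not_mem_of_pow_mem_Y [Finite G] {g : G} (hg : g ∉ D.Y) {p : ℕ} (hp : p.Prime)
    (hgp : g ^ p ∈ D.Y) : p ∉ S := by
  have hF : (Subgroup.centralizer ({D.b1} : Set G)).Normal :=
    ⟨fun n hn g => D.conj_mem_cent D.b1_mem_Y hn g⟩
  have hgF : g ∉ Subgroup.centralizer ({D.b1} : Set G) := by
    intro h
    rw [mem_cent_iff] at h
    exact D.b1_not_mem_center (D.mem_center_of_comm hg D.b1_mem_Y h.symm)
  have hgpF : g ^ p ∈ Subgroup.centralizer ({D.b1} : Set G) := by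
    rw [mem_cent_iff]
    exact D.Y_comm D.b1_mem_Y hgp
  have h1 : (QuotientGroup.mk g : G ⧸ Subgroup.centralizer ({D.b1} : Set G)) ^ p = 1 := by
    rw [← QuotientGroup.mk_pow, QuotientGroup.eq_one_iff]
    exact hgpF
  have h2 : (QuotientGroup.mk g : G ⧸ Subgroup.centralizer ({D.b1} : Set G)) ≠ 1 := by
    rw [Ne, QuotientGroup.eq_one_iff]
    exact hgF
  have : Fact p.Prime := ⟨hp⟩
  have h3 := orderOf_eq_prime h1 h2
  have h4 : p ∣ idx D.b1 := by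
    have := orderOf_dvd_natCard (QuotientGroup.mk g : G ⧸ Subgroup.centralizer ({D.b1} : Set G))
    rw [h3] at this
    exact this
  exact D.hb1 p hp h4

/-- `D3` -/
theorem mem_of_pow_mem_center [Finite G] {y : G} (hy : y ∈ D.Y) (hyZ : y ∉ Subgroup.center G)
    {p : ℕ} (hp : p.Prime) (hyp : y ^ p ∈ Subgroup.center G) : p ∈ S := by
  have : ∃ g : G, g * y ≠ y * g := by
    by_contra hcon
    apply hyZ
    rw [Subgroup.mem_center_iff]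
    intro g
    by_contra h
    exact hcon ⟨g, h⟩
  obtain ⟨g, hg⟩ := this
  have hyinv : SNum Sᶜ (idx y⁻¹) := by rw [idx_inv]; exact hy
  have hdY : g⁻¹ * y * g ∈ D.Y := by
    have e : g⁻¹ * y * g = g⁻¹ * y * g⁻¹⁻¹ := by group
    rw [e]
    exact (D.Y_normal).conj_mem y hy g⁻¹
  have hzN : y⁻¹ * (g⁻¹ * y * g) ∈ Nst (G := G) S := by
    have := D.mul_inv_mem_Nst hyinv (IsConj.refl y⁻¹)
      (isConj_iff.2 ⟨g⁻¹, rfl⟩ : IsConj y⁻¹ (g⁻¹ * y⁻¹ * g⁻¹⁻¹))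
    have e : y⁻¹ * (g⁻¹ * y⁻¹ * g⁻¹⁻¹)⁻¹ = y⁻¹ * (g⁻¹ * y * g) := by group
    rwa [e] at this
  have hz1 : y⁻¹ * (g⁻¹ * y * g) ≠ 1 := by
    intro h
    apply hg
    have : g * y = y * g * (y⁻¹ * (g⁻¹ * y * g))⁻¹ := by group
    rw [this, h]; group
  have hcomm : Commute y⁻¹ (g⁻¹ * y * g) := D.Y_comm (D.Y.inv_mem hy) hdY
  have hzp : (y⁻¹ * (g⁻¹ * y * g)) ^ p = 1 := by
    rw [hcomm.mul_pow]
    have e1 : (g⁻¹ * y * g) ^ p = g⁻¹ * y ^ p * g := by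
      have := conj_pow (a := g⁻¹) (b := y) (i := p)
      rwa [inv_inv] at this
    have e2 : g⁻¹ * y ^ p * g = y ^ p := by
      have := Subgroup.mem_center_iff.1 hyp g
      rw [mul_assoc, ← this]; group
    rw [e1, e2, inv_pow]; group
  have : Fact p.Prime := ⟨hp⟩
  have ho := orderOf_eq_prime hzp hz1
  have := D.orderOf_dvd_card_Nst hzN
  rw [ho] at this
  exact D.ha0 p hp this

end Setup

end Cfsg.Agent.Lib.Helper75.TwoTypes
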